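import Groth.Agent.L11.Weil.Points
import Groth.Agent.L11.Weil.Newton
import Groth.Agent.L22.Cyc.FiniteDeg
import Mathlib.AlgebraicGeometry.Morphisms.Immersion

/-! Manipulations of the zeta function of a scheme over a finite field as a power series. -/

set_option autoImplicit false
universe u v

open AlgebraicGeometry CategoryTheory PowerSeries

namespace Groth.L11.ZetaSeries


variable {k : Type u} [Field k] {X : Scheme.{u}} (f : X ⟶ Spec (CommRingCat.of k))

theorem coeff_zero_zetaFun : coeff 0 (Zeta.zetaFun f) = 1 :=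
  Groth.L11.Newton.coeff_zero_exp_subst (K := ℚ) (by simp [Zeta.logZeta])

theorem derivative_zetaFun :
    d⁄dX ℚ (Zeta.zetaFun f) = Zeta.zetaFun f * mk (fun n => (Zeta.nPts f (n + 1) : ℚ)) :=
  Groth.L11.Newton.derivative_exp_subst fun m => (Zeta.nPts f m : ℚ)

theorem zetaFun_eq_of (g : PowerSeries ℚ) (h0 : coeff 0 g = 1)
    (hg : d⁄dX ℚ g = g * mk (fun n => (Zeta.nPts f (n + 1) : ℚ))) : Zeta.zetaFun f = g :=
  Groth.L11.Newton.ext_of_logDeriv ((coeff_zero_zetaFun f).trans h0.symm) (derivative_zetaFun f) hg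

section
variable {K : Type v} [Field K]

/-- `u` has logarithmic derivative `h` and constant term `1`. -/
structure HasLogDeriv (u h : PowerSeries K) : Prop where
  coeff_zero : coeff 0 u = 1
  deriv : d⁄dX K u = u * h

theorem HasLogDeriv.one : HasLogDeriv (1 : PowerSeries K) 0 :=
  ⟨by simp, by rw [Derivation.map_one_eq_zero, mul_zero]⟩

theorem HasLogDeriv.mul {u u' h h' : PowerSeries K} (hu : HasLogDeriv u h) (hu' : HasLogDeriv u' h') :
    HasLogDeriv (u * u') (h + h') := by
  refine ⟨?_, ?_⟩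
  · rw [coeff_zero_eq_constantCoeff_apply, map_mul, ← coeff_zero_eq_constantCoeff_apply,
      ← coeff_zero_eq_constantCoeff_apply, hu.coeff_zero, hu'.coeff_zero, one_mul]
  · rw [Derivation.leibniz, smul_eq_mul, smul_eq_mul, hu.deriv, hu'.deriv]; ring

theorem HasLogDeriv.pow {u h : PowerSeries K} (hu : HasLogDeriv u h) (n : ℕ) :
    HasLogDeriv (u ^ n) (n • h) := by
  induction n with
  | zero => simpa using HasLogDeriv.one
  | succ n ih => rw [pow_succ, succ_nsmul]; exact ih.mul hu

theorem HasLogDeriv.prod {ι : Type*} (s : Finset ι) (u h : ι → PowerSeries K)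
    (hu : ∀ i ∈ s, HasLogDeriv (u i) (h i)) : HasLogDeriv (∏ i ∈ s, u i) (∑ i ∈ s, h i) := by
  classical
  induction s using Finset.induction_on with
  | empty => simpa using HasLogDeriv.one
  | insert a s ha ih =>
    rw [Finset.prod_insert ha, Finset.sum_insert ha]
    exact (hu a (Finset.mem_insert_self a s)).mul (ih fun i hi => hu i (Finset.mem_insert_of_mem hi))

theorem HasLogDeriv.eq [CharZero K] {u v h : PowerSeries K} (hu : HasLogDeriv u h) (hv : HasLogDeriv v h) :
    u = v :=
  Groth.L11.Newton.ext_of_logDeriv (hu.coeff_zero.trans hv.coeff_zero.symm) hu.deriv hv.deriv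

theorem HasLogDeriv.congr {u h h' : PowerSeries K} (hu : HasLogDeriv u h) (e : h = h') : HasLogDeriv u h' :=
  e ▸ hu

theorem hasLogDeriv_one_sub_C_mul_X (a : K) :
    HasLogDeriv (1 - C a * PowerSeries.X : PowerSeries K) (mk fun n => -a ^ (n + 1)) := by
  refine ⟨by simp, ?_⟩
  ext n
  rw [sub_mul, one_mul, mul_assoc, map_sub (coeff n)]
  rcases n with _ | n
  · simp [coeff_derivative, coeff_one]
  · simp only [coeff_derivative, coeff_C_mul, coeff_succ_X_mul, coeff_mk, map_sub, coeff_one, coeff_X]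
    rw [if_neg (by omega), if_neg (by omega)]
    ring

theorem hasLogDeriv_one_sub_X_pow {r : ℕ} (hr : 0 < r) :
    HasLogDeriv (1 - (PowerSeries.X : PowerSeries K) ^ r) (mk fun n => if r ∣ n + 1 then -(r : K) else 0) := by
  refine ⟨by simp [coeff_X_pow, hr.ne, hr.ne'], ?_⟩
  ext n
  rw [sub_mul, one_mul, map_sub (coeff n), coeff_X_pow_mul', coeff_derivative, map_sub, coeff_one,
    coeff_X_pow]
  simp only [coeff_mk, if_neg (Nat.succ_ne_zero n), zero_sub]
  by_cases h : r ≤ n
  · rw [if_neg (by omega), if_pos h]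
    have e : r ∣ n - r + 1 ↔ r ∣ n + 1 := by
      rw [show n + 1 = (n - r + 1) + r by omega, Nat.dvd_add_self_right]
    simp [e]
  · rw [if_neg h, sub_zero]
    by_cases h' : n + 1 = r
    · subst h'; simp
    · rw [if_neg h', if_neg fun hd => h' (Nat.le_antisymm (by omega) (Nat.le_of_dvd (by omega) hd))]
      simp

theorem HasLogDeriv.coeff_eq_zero [CharZero K] {u h : PowerSeries K} (hu : HasLogDeriv u h) {n : ℕ}
    (hh : ∀ m < n, coeff m h = 0) : ∀ m, 1 ≤ m → m ≤ n → coeff m u = 0 := by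
  intro m hm hmn
  obtain ⟨m, rfl⟩ : ∃ m', m = m' + 1 := ⟨m - 1, by omega⟩
  have := congrArg (coeff m) hu.deriv
  rw [coeff_derivative, coeff_mul, Finset.sum_eq_zero fun x hx => by
    rw [hh x.2 (by have := Finset.mem_antidiagonal.1 hx; omega), mul_zero]] at this
  exact (mul_eq_zero.1 this).resolve_right (Nat.cast_add_one_ne_zero m)

end

theorem hasLogDeriv_zetaFun : HasLogDeriv (Zeta.zetaFun f) (mk fun n => (Zeta.nPts f (n + 1) : ℚ)) :=
  ⟨coeff_zero_zetaFun f, derivative_zetaFun f⟩

/-! Partitions of the closed points by subschemes. -/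

section
variable [Finite k] [LocallyOfFiniteType f] [QuasiCompact f]

include f in
theorem isClosed_singleton_iff {Y : Scheme.{u}} (g : Y ⟶ X) [IsImmersion g] (y : Y) :
    IsClosed ({y} : Set Y) ↔ IsClosed ({g.base y} : Set X) := by
  haveI : JacobsonSpace X := LocallyOfFiniteType.jacobsonSpace f
  refine ⟨fun h => ?_, fun h => ?_⟩
  · refine isClosed_singleton_of_isLocallyClosed_singleton ?_
    rw [← Set.image_singleton]
    exact h.isLocallyClosed.image g.isEmbedding.isInducing g.isLocallyClosed_range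
  · exact preimage_closedPoints_subset g.isEmbedding.injective g.isEmbedding.continuous h

omit [Finite k] [LocallyOfFiniteType f] [QuasiCompact f] in
theorem residueDegree_comp_immersion {Y : Scheme.{u}} (g : Y ⟶ X) [IsImmersion g] (y : Y) :
    EGA4loc.residueDegree (g ≫ f) y = EGA4loc.residueDegree f (g.base y) := by
  have h := Groth.L22.Cyc.residueDegree_comp g f y
  rw [Groth.L22.Cyc.residueDegree_eq_one g y ⟨RingHom.injective _, ?_⟩, mul_one] at h
  · exact h
  · intro z
    obtain ⟨z, rfl⟩ := IsLocalRing.residue_surjective z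
    obtain ⟨w, rfl⟩ := g.stalkMap_surjective y z
    exact ⟨IsLocalRing.residue _ w, rfl⟩

theorem finite_closed_degree {e : ℕ} (he : 0 < e) :
    Finite {x : X // IsClosed ({x} : Set X) ∧ EGA4loc.residueDegree f x = e} := by
  letI : X.Over (Spec (CommRingCat.of k)) := ⟨f⟩
  haveI : LocallyOfFiniteType (X ↘ Spec (CommRingCat.of k)) := ‹LocallyOfFiniteType f›
  haveI : CompactSpace X := QuasiCompact.compactSpace_of_compactSpace f
  exact ((Groth.L11.Points.finite_dvd (k₀ := k) (X := X) he).subset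
    (t := {x : X | IsClosed ({x} : Set X) ∧ EGA4loc.residueDegree f x = e}) fun x hx =>
    ⟨hx.1, ((Groth.L11.Points.residueDegree_eq x).symm.trans hx.2).dvd⟩).to_subtype

theorem nPts_partition {ι : Type*} [Fintype ι] (Y : ι → Scheme.{u}) (g : ∀ i, Y i ⟶ X)
    [∀ i, IsImmersion (g i)]
    (hpart : ∀ x : X, IsClosed ({x} : Set X) → ∃! i, x ∈ Set.range (g i).base) (m : ℕ) :
    Zeta.nPts f m = ∑ i, Zeta.nPts (g i ≫ f) m := by
  rw [Zeta.nPts]
  simp only [Zeta.nPts]
  rw [Finset.sum_comm]
  refine Finset.sum_congr rfl fun e he => ?_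
  rw [← Finset.mul_sum]
  congr 1
  haveI := finite_closed_degree f (e := e) (Nat.pos_of_mem_divisors he)
  let F : (Σ i, {y : Y i // IsClosed ({y} : Set (Y i)) ∧ EGA4loc.residueDegree (g i ≫ f) y = e}) →
      {x : X // IsClosed ({x} : Set X) ∧ EGA4loc.residueDegree f x = e} := fun z =>
    ⟨(g z.1).base z.2.1, (isClosed_singleton_iff f (g z.1) z.2.1).1 z.2.2.1,
      (residueDegree_comp_immersion f (g z.1) z.2.1).symm.trans z.2.2.2⟩
  have hF : Function.Bijective F := by
    refine ⟨fun ⟨i, y, hy⟩ ⟨j, y', hy'⟩ h => ?_, fun ⟨x, hx, hd⟩ => ?_⟩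
    · have h' : (g i).base y = (g j).base y' := congrArg Subtype.val h
      obtain rfl : i = j := (hpart _ ((isClosed_singleton_iff f (g i) y).1 hy.1)).unique ⟨y, rfl⟩ ⟨y', h'.symm⟩
      obtain rfl : y = y' := (g i).isEmbedding.injective h'
      rfl
    · obtain ⟨i, ⟨y, rfl⟩, -⟩ := hpart x hx
      exact ⟨⟨i, y, (isClosed_singleton_iff f (g i) y).2 hx, (residueDegree_comp_immersion f (g i) y).trans hd⟩, rfl⟩
  haveI : Finite (Σ i, {y : Y i // IsClosed ({y} : Set (Y i)) ∧ EGA4loc.residueDegree (g i ≫ f) y = e}) :=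
    Finite.of_injective F hF.1
  haveI : ∀ i, Finite {y : Y i // IsClosed ({y} : Set (Y i)) ∧ EGA4loc.residueDegree (g i ≫ f) y = e} :=
    fun i => Finite.of_injective (fun y => (⟨i, y⟩ : Σ i, {y : Y i // IsClosed ({y} : Set (Y i)) ∧ EGA4loc.residueDegree (g i ≫ f) y = e})) fun a b h => eq_of_heq (Sigma.mk.inj_iff.1 h).2
  rw [Zeta.degCount, ← Nat.card_congr (Equiv.ofBijective F hF), Nat.card_sigma]
  rfl

theorem zetaFun_partition {ι : Type*} [Fintype ι] (Y : ι → Scheme.{u}) (g : ∀ i, Y i ⟶ X)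
    [∀ i, IsImmersion (g i)]
    (hpart : ∀ x : X, IsClosed ({x} : Set X) → ∃! i, x ∈ Set.range (g i).base) :
    Zeta.zetaFun f = ∏ i, Zeta.zetaFun (g i ≫ f) :=
  (hasLogDeriv_zetaFun f).eq <| (HasLogDeriv.prod _ _ _ fun i _ => hasLogDeriv_zetaFun (g i ≫ f)).congr
    (by ext n; simp [map_sum, nPts_partition f Y g hpart])

theorem trunc_zetaFun_mul_prod (n : ℕ) :
    trunc (n + 1) (Zeta.zetaFun f * ∏ r ∈ Finset.Icc 1 n, (1 - PowerSeries.X ^ r) ^ Zeta.degCount f r) = 1 := by
  have h := (hasLogDeriv_zetaFun f).mul (HasLogDeriv.prod (Finset.Icc 1 n) _ _ fun r hr =>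
    (hasLogDeriv_one_sub_X_pow (K := ℚ) (Finset.mem_Icc.1 hr).1).pow (Zeta.degCount f r))
  ext m
  rw [coeff_trunc]
  by_cases hm : m < n + 1
  · rw [if_pos hm]
    rcases Nat.eq_zero_or_pos m with rfl | hm0
    · rw [h.coeff_zero, Polynomial.coeff_one_zero]
    · rw [Polynomial.coeff_one, if_neg hm0.ne', h.coeff_eq_zero (n := n) (fun j hj => ?_) m hm0 (by omega)]
      simp only [map_add, map_sum, map_nsmul, coeff_mk, Zeta.nPts]
      simp only [nsmul_eq_mul, mul_ite, mul_zero]
      rw [← Finset.sum_filter, show (Finset.Icc 1 n).filter (fun r => r ∣ j + 1) = (j + 1).divisors by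
        ext r
        simp only [Finset.mem_filter, Finset.mem_Icc, Nat.mem_divisors]
        exact ⟨fun h => ⟨h.2, by omega⟩, fun h => ⟨⟨Nat.pos_of_dvd_of_pos h.1 (by omega),
          le_trans (Nat.le_of_dvd (by omega) h.1) (by omega)⟩, h.1⟩⟩]
      push_cast
      rw [← Finset.sum_add_distrib]
      exact Finset.sum_eq_zero fun r _ => by ring
  · rw [if_neg hm, Polynomial.coeff_one, if_neg (by omega)]

omit [Finite k] [LocallyOfFiniteType f] [QuasiCompact f] in
theorem exists_int_coeff (n : ℕ) (h : trunc (n + 1)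
      (Zeta.zetaFun f * ∏ r ∈ Finset.Icc 1 n, (1 - PowerSeries.X ^ r) ^ Zeta.degCount f r) = 1) :
    ∃ z : ℤ, coeff n (Zeta.zetaFun f) = (z : ℚ) := by
  let P : PowerSeries ℤ := ∏ r ∈ Finset.Icc 1 n, (1 - PowerSeries.X ^ r) ^ Zeta.degCount f r
  have hP : constantCoeff P = 1 := by
    simp only [P, map_prod, map_pow, map_sub, map_one, constantCoeff_X]
    exact Finset.prod_eq_one fun r hr => by rw [zero_pow (by have := (Finset.mem_Icc.1 hr).1; omega), sub_zero, one_pow]
  let Q : PowerSeries ℤ := invOfUnit P 1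
  refine ⟨coeff n Q, ?_⟩
  have hPQ : P * Q = 1 := mul_invOfUnit P 1 (by simpa using hP)
  have hmap : map (Int.castRingHom ℚ) P = ∏ r ∈ Finset.Icc 1 n, (1 - PowerSeries.X ^ r) ^ Zeta.degCount f r := by
    simp [P, map_prod]
  calc coeff n (Zeta.zetaFun f)
      = coeff n ((Zeta.zetaFun f * map (Int.castRingHom ℚ) P) * map (Int.castRingHom ℚ) Q) := by
        rw [mul_assoc, ← map_mul, hPQ, map_one, mul_one]
    _ = coeff n (map (Int.castRingHom ℚ) Q) := by
        rw [hmap, coeff_mul, Finset.sum_eq_single (0, n)]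
        · have := congrArg (fun p : Polynomial ℚ => p.coeff 0) h
          simp only [coeff_trunc, if_pos n.succ_pos, Polynomial.coeff_one_zero] at this
          rw [this, one_mul]
        · intro x hx hne
          have hx' := Finset.mem_antidiagonal.1 hx
          have := congrArg (fun p : Polynomial ℚ => p.coeff x.1) h
          simp only [coeff_trunc, if_pos (show x.1 < n + 1 by omega), Polynomial.coeff_one] at this
          rw [this, if_neg (fun h0 => hne (Prod.ext h0 (by simp only; omega))), zero_mul]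
        · intro hn; exact absurd (Finset.mem_antidiagonal.2 (by omega)) hn
    _ = _ := by rw [coeff_map]; rfl

end

end Groth.L11.ZetaSeries
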