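import Groth.Agent.L11.Zeta.Lower
import Groth.Agent.L02.GeomIrredField
import Mathlib.AlgebraicGeometry.Geometrically.Irreducible
import Mathlib.AlgebraicGeometry.Pullbacks

/-!
A geometrically irreducible curve over a finite field has closed points of degree dividing any large number.
-/

set_option autoImplicit false
universe u

open AlgebraicGeometry CategoryTheory Limits
open scoped TensorProduct

namespace Groth.L11.Zeta

variable {k : Type u} [Field k]

/-- The fraction field of a domain inherits geometric irreducibility. -/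
theorem irreducible_tensor_fractionRing {A L : Type u} [CommRing A] [IsDomain A] [Field L] [Algebra A L]
    [IsFractionRing A L] [Algebra k A] [Algebra k L] [IsScalarTower k A L] {k' : Type u} [Field k'] [Algebra k k']
    (h : IrreducibleSpace (PrimeSpectrum (k' ⊗[k] A))) : IrreducibleSpace (PrimeSpectrum (k' ⊗[k] L)) := by
  classical
  rw [PrimeSpectrum.irreducibleSpace_iff_isPrime_nilradical] at h ⊢
  let ι : k' ⊗[k] A →ₐ[k] k' ⊗[k] L := Algebra.TensorProduct.map (AlgHom.id k k') (IsScalarTower.toAlgHom k A L)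
  have hι : Function.Injective ι :=
    Module.Flat.lTensor_preserves_injective_linearMap (M := k') (IsScalarTower.toAlgHom k A L).toLinearMap
      (IsFractionRing.injective A L)
  have hclear : ∀ x : k' ⊗[k] L, ∃ (a : A) (x₀ : k' ⊗[k] A), a ≠ 0 ∧
      ι x₀ = ((1 : k') ⊗ₜ[k] algebraMap A L a) * x := fun x => by
    induction x using TensorProduct.induction_on with
    | zero => exact ⟨1, 0, one_ne_zero, by simp⟩
    | tmul c z =>
      obtain ⟨n, d, hd, rfl⟩ := IsFractionRing.div_surjective A z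
      refine ⟨d, c ⊗ₜ n, nonZeroDivisors.ne_zero hd, ?_⟩
      rw [Algebra.TensorProduct.tmul_mul_tmul, one_mul, mul_div_cancel₀ _
        ((map_ne_zero_iff _ (IsFractionRing.injective A L)).mpr (nonZeroDivisors.ne_zero hd))]
      rfl
    | add x y hx hy =>
      obtain ⟨a, x₀, ha, hax⟩ := hx
      obtain ⟨b, y₀, hb, hby⟩ := hy
      refine ⟨a * b, ((1 : k') ⊗ₜ b) * x₀ + ((1 : k') ⊗ₜ a) * y₀, mul_ne_zero ha hb, ?_⟩
      have hι1 : ∀ r : A, ι ((1 : k') ⊗ₜ r) = (1 : k') ⊗ₜ[k] algebraMap A L r := fun r => rfl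
      rw [map_add, map_mul, map_mul, hι1, hι1, hax, hby,
        show (1 : k') ⊗ₜ[k] algebraMap A L (a * b) = ((1 : k') ⊗ₜ[k] algebraMap A L a) * ((1 : k') ⊗ₜ[k] algebraMap A L b) by
          rw [Algebra.TensorProduct.tmul_mul_tmul, one_mul, map_mul]]
      ring
  have hunit : ∀ a : A, a ≠ 0 → IsUnit ((1 : k') ⊗ₜ[k] algebraMap A L a) := fun a ha =>
    (isUnit_iff_ne_zero.mpr ((map_ne_zero_iff _ (IsFractionRing.injective A L)).mpr ha)).map
      (Algebra.TensorProduct.includeRight : L →ₐ[k] k' ⊗[k] L)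
  have hnil : ∀ (x : k' ⊗[k] L) (a : A) (x₀ : k' ⊗[k] A), a ≠ 0 → ι x₀ = ((1 : k') ⊗ₜ[k] algebraMap A L a) * x →
      (x ∈ nilradical (k' ⊗[k] L) ↔ x₀ ∈ nilradical (k' ⊗[k] A)) := fun x a x₀ ha hx => by
    rw [mem_nilradical, mem_nilradical, ← IsNilpotent.map_iff hι, hx]
    refine ⟨fun h => (Commute.all _ _).isNilpotent_mul_left h, fun h => ?_⟩
    obtain ⟨e, he⟩ := (hunit a ha).exists_left_inv
    have := (Commute.all e _).isNilpotent_mul_left h
    rwa [← mul_assoc, he, one_mul] at this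
  refine ⟨fun htop => ?_, fun {x y} hxy => ?_⟩
  · have h1 : (1 : k' ⊗[k] A) ∈ nilradical (k' ⊗[k] A) := by
      rw [← hnil 1 1 1 one_ne_zero (by rw [map_one, map_one, mul_one, ← Algebra.TensorProduct.one_def]), htop]
      trivial
    exact h.ne_top ((Ideal.eq_top_iff_one _).mpr h1)
  · obtain ⟨a, x₀, ha, hax⟩ := hclear x
    obtain ⟨b, y₀, hb, hby⟩ := hclear y
    have h2 : x₀ * y₀ ∈ nilradical (k' ⊗[k] A) := by
      rw [← hnil (x * y) (a * b) (x₀ * y₀) (mul_ne_zero ha hb) ?_]
      · exact hxy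
      · rw [map_mul, hax, hby, map_mul, ← mul_one (1 : k'), ← Algebra.TensorProduct.tmul_mul_tmul, mul_one]
        ring
    exact (h.mem_or_mem h2).imp (hnil x a x₀ ha hax).mpr (hnil y b y₀ hb hby).mpr

/-- Homomorphisms into all large extensions of the field of constants. -/
theorem exists_hom_extension [Finite k] {A L : Type u} [CommRing A] [IsDomain A] [Field L] [Algebra A L]
    [IsFractionRing A L] [Algebra k A] [Algebra k L] [IsScalarTower k A L] [Algebra.FiniteType k A]
    (hdim : ringKrullDim A = (1 : ℕ))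
    (hirr : ∀ (k' : Type u) [Field k'] [Algebra k k'], IrreducibleSpace (PrimeSpectrum (k' ⊗[k] A))) :
    ∃ Q₀ : ℕ, ∀ ℓ : ℕ, Q₀ ≤ ℓ → 0 < ℓ → ∃ (F : Type u) (_ : Field F), Finite F ∧
      Nat.card F = Nat.card k ^ ℓ ∧ Nonempty (A →+* F) := by
  classical
  have htr : Algebra.trdeg k L = 1 := by
    simpa using Groth.L22.AffineDim.trdeg_fractionRing k A L hdim
  haveI : Algebra.EssFiniteType k L :=
    haveI : Algebra.EssFiniteType A L := Algebra.EssFiniteType.of_isLocalization L (nonZeroDivisors A)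
    Algebra.EssFiniteType.comp k A L
  obtain ⟨s, hs, hsep⟩ := exists_isTranscendenceBasis_and_isSeparable_of_perfectField k L
  have hcard : s.card = 1 := by
    have h := hs.cardinalMk_eq_trdeg
    rw [htr, Cardinal.mk_coe_finset] at h
    exact_mod_cast h
  obtain ⟨t, rfl⟩ := Finset.card_eq_one.mp hcard
  have ht : Transcendental k t := hs.1.transcendental ⟨t, Finset.mem_singleton_self t⟩
  obtain ⟨φ, -, hfd, hsp⟩ := ratFunc_setup (k := k) k t ht (({t} : Finset L) : Set L)
    (fun z hz => Or.inl (Finset.mem_singleton.mp hz))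
  letI := φ.toRingHom.toAlgebra
  haveI := hfd
  haveI := hsp
  haveI : IsScalarTower k (RatFunc k) L := IsScalarTower.of_algebraMap_eq fun c => (φ.commutes c).symm
  have hclosed : ∀ z : L, IsIntegral k z → z ∈ Set.range (algebraMap k L) := fun z hz =>
    Groth.L02.GeomIrredField.separable_elements_of_irreducible
      (fun k' _ _ => irreducible_tensor_fractionRing (hirr k')) z
      (PerfectField.separable_of_irreducible (minpoly.irreducible hz))
  haveI := Fintype.ofFinite k
  have hB₀ : (⊤ : Subalgebra ℤ k).FG := ⟨Finset.univ, eq_top_iff.mpr fun x _ => Algebra.subset_adjoin (by simp)⟩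
  have hgen₀ : Gen (⊤ : Subalgebra ℤ k) := fun z => ⟨z, trivial, 1, trivial, one_ne_zero, (div_one z).symm⟩
  obtain ⟨SA, hSA⟩ := Algebra.FiniteType.out (R := k) (A := A)
  let SA' : Finset A := SA ∪ Finset.univ.image (algebraMap k A)
  haveI : Algebra.FiniteType ℤ A := ⟨⟨SA', eq_top_iff.mpr fun z hz0 => by
    clear hz0
    have hz : z ∈ Algebra.adjoin k (SA : Set A) := hSA ▸ trivial
    induction hz using Algebra.adjoin_induction with
    | mem z hz => exact Algebra.subset_adjoin (Finset.mem_union_left _ hz)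
    | algebraMap c => exact Algebra.subset_adjoin (Finset.mem_union_right _ (Finset.mem_image_of_mem _ (Finset.mem_univ c)))
    | add _ _ _ _ hx hy => exact add_mem hx hy
    | mul _ _ _ _ hx hy => exact mul_mem hx hy⟩⟩
  have hFG : ((algebraMap A L).toIntAlgHom.range).FG := by
    rw [Subalgebra.fg_iff_finiteType]
    exact Algebra.FiniteType.of_surjective (algebraMap A L).toIntAlgHom.rangeRestrict (AlgHom.rangeRestrict_surjective _)
  have hgen : Gen (algebraMap A L).toIntAlgHom.range := by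
    intro z
    obtain ⟨a, b, hb, rfl⟩ := IsFractionRing.div_surjective A z
    exact ⟨_, ⟨a, rfl⟩, _, ⟨b, rfl⟩,
      (map_ne_zero_iff _ (IsFractionRing.injective A L)).mpr (nonZeroDivisors.ne_zero hb), rfl⟩
  obtain ⟨Bf, -, -, S, a, u, ax, C, Q₀, -, -, hpts⟩ := exists_family hclosed ⊤ hB₀ hgen₀ _ hFG hgen
  obtain ⟨p, hp⟩ := CharP.exists k
  haveI := hp
  obtain ⟨f0, hprime, -⟩ := FiniteField.card k p
  haveI := Fact.mk hprime
  letI : Algebra (ZMod p) k := ZMod.algebra k p
  refine ⟨Q₀, fun ℓ hℓ hℓ0 => ?_⟩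
  haveI : NeZero ℓ := ⟨hℓ0.ne'⟩
  haveI : Finite (FiniteField.Extension k p ℓ) := Module.finite_of_finite k
  let F := ULift.{u} (FiniteField.Extension k p ℓ)
  haveI : Finite F := Finite.of_equiv _ Equiv.ulift.symm
  let φF : Bf →+* F := ((ULift.ringEquiv (R := FiniteField.Extension k p ℓ)).symm.toRingHom.comp
    (algebraMap k _)).comp Bf.val.toRingHom
  have hFcard : Nat.card F = Nat.card k ^ ℓ :=
    (Nat.card_congr Equiv.ulift).trans (FiniteField.natCard_extension k p ℓ)
  obtain ⟨G, hG, hψ⟩ := hpts F φF (hFcard ▸ hℓ.trans (Nat.lt_pow_self Finite.one_lt_card).le)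
  have hGne : G.Nonempty := by
    rw [← Finset.card_pos]
    refine Nat.pos_of_ne_zero fun h0 => ?_
    rw [h0, mul_zero] at hG
    exact absurd hG (not_le.mpr Nat.card_pos)
  obtain ⟨x0, hx0⟩ := hGne
  obtain ⟨ψ, -⟩ := hψ x0 hx0
  exact ⟨F, inferInstance, inferInstance, hFcard, ⟨ψ.comp (algebraMap A L).toIntAlgHom.rangeRestrict.toRingHom⟩⟩

attribute [local instance] Curv2.resAlgebra

/-- Closed points of degree dividing a given large number. -/
theorem exists_point_degree_dvd [Finite k] (X : Scheme.{u}) [X.Over (Spec (CommRingCat.of k))]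
    [LocallyOfFiniteType (X ↘ Spec (CommRingCat.of k))] [IsIntegral X]
    [GeometricallyIrreducible (X ↘ Spec (CommRingCat.of k))] (hdim : topologicalKrullDim X = 1) :
    ∃ Q₀ : ℕ, ∀ ℓ : ℕ, Q₀ ≤ ℓ → 0 < ℓ →
      ∃ x : X, IsClosed ({x} : Set X) ∧ Module.finrank k (X.residueField x) ∣ ℓ := by
  set f := X ↘ Spec (CommRingCat.of k) with hf
  obtain ⟨_, ⟨U, hU, rfl⟩, hxU, -⟩ :=
    X.isBasis_affineOpens.exists_subset_of_mem_open (Set.mem_univ (genericPoint X)) isOpen_univ
  haveI : Nonempty U := ⟨⟨genericPoint X, hxU⟩⟩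
  let φ := Spec.preimage (hU.fromSpec ≫ f)
  letI : Algebra k Γ(X, U) := φ.hom.toAlgebra
  have hφ : Spec.map (CommRingCat.ofHom (algebraMap k Γ(X, U))) = hU.fromSpec ≫ f := Spec.map_preimage _
  have hft : Algebra.FiniteType k Γ(X, U) := by
    have h : LocallyOfFiniteType (Spec.map (CommRingCat.ofHom (algebraMap k Γ(X, U)))) := by
      rw [hφ]; infer_instance
    rw [HasRingHomProperty.Spec_iff (P := @LocallyOfFiniteType)] at h
    exact RingHom.finiteType_algebraMap.mp h
  obtain ⟨n, hn, -, hnU⟩ := Groth.L22.SchemeDim.exists_dim_eq_trdeg (k := k) (X := X)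
  have hn1 : n = 1 := by
    rw [hdim] at hn
    exact_mod_cast hn.symm
  subst hn1
  have hdimU : ringKrullDim Γ(X, U) = (1 : ℕ) := by
    rw [← Groth.L22.SchemeDim.topologicalKrullDim_affineOpen hU]
    exact hnU U ⟨_, hxU⟩
  haveI : Surjective (hU.fromSpec ≫ f) := ⟨fun y => by
    obtain ⟨z, -⟩ := (hU.range_fromSpec ▸ hxU : genericPoint X ∈ Set.range hU.fromSpec)
    haveI : Subsingleton ↥(Spec (CommRingCat.of k)) := inferInstanceAs (Subsingleton (PrimeSpectrum k))
    exact ⟨z, Subsingleton.elim _ _⟩⟩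
  have hirr : ∀ (k' : Type u) [Field k'] [Algebra k k'], IrreducibleSpace (PrimeSpectrum (k' ⊗[k] Γ(X, U))) := by
    intro k' _ _
    have hg : GeometricallyIrreducible (Spec.map (CommRingCat.ofHom (algebraMap k Γ(X, U)))) := by
      rw [hφ]; infer_instance
    haveI h1 : IrreducibleSpace ↥(pullback (Spec.map (CommRingCat.ofHom (algebraMap k k')))
        (Spec.map (CommRingCat.ofHom (algebraMap k Γ(X, U))))) :=
      hg.geometrically_irreducibleSpace _ _ _ (IsPullback.of_hasPullback _ _).flip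
    exact (pullbackSpecIso k k' Γ(X, U)).hom.homeomorph.irreducibleSpace_iff.mp h1
  obtain ⟨Q₀, hQ₀⟩ := exists_hom_extension (k := k) (A := Γ(X, U)) (L := FractionRing Γ(X, U)) hdimU hirr
  refine ⟨Q₀, fun ℓ hℓ hℓ0 => ?_⟩
  obtain ⟨F, _, hFfin, hFcard, ⟨ψ⟩⟩ := hQ₀ ℓ hℓ hℓ0
  haveI := hFfin
  let m : Max Γ(X, U) := ⟨RingHom.ker ψ, by
    haveI : (RingHom.ker ψ).IsPrime := RingHom.ker_isPrime ψ
    haveI : Finite (Γ(X, U) ⧸ RingHom.ker ψ) := Finite.of_injective _ (RingHom.kerLift_injective ψ)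
    exact Ideal.Quotient.maximal_of_isField _ (Finite.isField_of_domain _)⟩
  let g : Spec (CommRingCat.of k) ⟶ Spec (CommRingCat.of (ULift.{u} ℤ)) :=
    CategoryTheory.Limits.IsTerminal.from specULiftZIsTerminal _
  haveI : LocallyOfFiniteType g := locallyOfFiniteType_spec_finite k g
  obtain ⟨J, -, hJ⟩ := exists_closed_of_maximal (f ≫ g) hU
  refine ⟨(J m).1, (J m).2, ?_⟩
  haveI : Finite (X.residueField (J m).1) := finite_residueField (f ≫ g) (J m).2
  haveI := m.2
  letI := Ideal.Quotient.field m.1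
  have h2 : Nat.card (X.residueField (J m).1) = Nat.card (Γ(X, U) ⧸ m.1) := hJ m
  haveI : Finite (Γ(X, U) ⧸ m.1) := Finite.of_injective _ (RingHom.kerLift_injective ψ)
  letI : Algebra (Γ(X, U) ⧸ m.1) F := (RingHom.kerLift ψ).toAlgebra
  have h3 := Module.natCard_eq_pow_finrank (K := Γ(X, U) ⧸ m.1) (V := F)
  haveI : Module.Finite k (X.residueField (J m).1) := Module.Finite.of_finite
  rw [← h2, Module.natCard_eq_pow_finrank (K := k) (V := X.residueField (J m).1), hFcard, ← pow_mul] at h3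
  exact ⟨_, (Nat.pow_right_injective Finite.one_lt_card h3)⟩

end Groth.L11.Zeta
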