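import Groth.Agent.L11.Zeta.Series
import Groth.Agent.L18.ProjSpace
import Mathlib.LinearAlgebra.Projectivization.Cardinality
import Mathlib.FieldTheory.Finite.Extension
import Mathlib.AlgebraicGeometry.AffineSpace
import Mathlib.Algebra.Field.ULift
import Groth.Agent.L16.ProjSpace.Basic
import Mathlib.RingTheory.RootsOfUnity.PrimitiveRoots

/-! Point counts: projective spaces, affine lines, base change. -/

set_option autoImplicit false
universe u

open AlgebraicGeometry CategoryTheory CategoryTheory.Limits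

namespace Groth.L11.ZetaCounts

variable {k : Type u} [Field k] [Finite k]

theorem exists_extension (m : ℕ) (hm : 0 < m) :
    ∃ (k' : Type u) (_ : Field k') (_ : Algebra k k') (_ : Finite k'), Module.finrank k k' = m := by
  obtain ⟨p, hp⟩ := CharP.exists k
  haveI := hp
  haveI : Fact p.Prime := ⟨CharP.char_is_prime k p⟩
  haveI : NeZero m := ⟨hm.ne'⟩
  let E := FiniteField.Extension k p m
  let F := ULift.{u} E
  exact ⟨F, inferInstanceAs (Field (ULift.{u} E)), inferInstanceAs (Algebra k (ULift.{u} E)),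
    inferInstanceAs (Finite (ULift.{u} E)),
    (LinearEquiv.finrank_eq (ULift.moduleEquiv : ULift.{u} E ≃ₗ[k] E)).trans (FiniteField.finrank_extension k p m)⟩

theorem nPts_eq {X : Scheme.{u}} (f : X ⟶ Spec (CommRingCat.of k)) [LocallyOfFiniteType f] [QuasiCompact f]
    (k' : Type u) [Field k'] [Algebra k k'] [Finite k'] :
    Zeta.nPts f (Module.finrank k k') = SgaExt.pointCount f k' := by
  letI : X.Over (Spec (CommRingCat.of k)) := ⟨f⟩
  haveI : LocallyOfFiniteType (X ↘ Spec (CommRingCat.of k)) := ‹LocallyOfFiniteType f›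
  haveI : CompactSpace X := QuasiCompact.compactSpace_of_compactSpace f
  exact (Groth.L11.Points.pointCount_eq (k₀ := k) (X := X) k').symm

omit [Finite k] in
theorem spec_field_subsingleton (K : Type u) [Field K] : Subsingleton ↥(Spec (CommRingCat.of K)) :=
  inferInstanceAs (Subsingleton (PrimeSpectrum K))

open Groth.L18.PS in
theorem pointCount_projSpace (n : ℕ) (k' : Type u) [Field k'] [Algebra k k'] [Finite k'] :
    SgaExt.pointCount (CohB1.ProjSpace.toSpec n k) k' = ∑ i ∈ Finset.range (n + 1), Nat.card k' ^ i := by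
  classical
  haveI := spec_field_subsingleton k'
  rw [← Projectivization.card_of_finrank k' (Fin (n + 1) → k') (Module.finrank_fin_fun k'), SgaExt.pointCount]
  have hex : ∀ v : {v : Fin (n + 1) → k' // v ≠ 0}, ∃ i, IsUnit (v.1 i) := fun v => by
    obtain ⟨i, hi⟩ := Function.ne_iff.1 v.2
    exact ⟨i, Ne.isUnit hi⟩
  choose idx hidx using hex
  let F : {v : Fin (n + 1) → k' // v ≠ 0} → {g : Spec (CommRingCat.of k') ⟶ CohB1.ProjSpace n k //
      g ≫ CohB1.ProjSpace.toSpec n k = Spec.map (CommRingCat.ofHom (algebraMap k k'))} := fun v =>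
    ⟨tuplePt (B := CommRingCat.of k') (algebraMap k k') v.1 (idx v) (hidx v),
      tuplePt_toSpec (B := CommRingCat.of k') _ _ _ _⟩
  have hF : ∀ v w : {v : Fin (n + 1) → k' // v ≠ 0}, ∀ c : k', v.1 = c • w.1 → F v = F w := by
    rintro ⟨v, hv⟩ w c (rfl : v = c • w.1)
    exact Subtype.ext (tuplePt_smul (B := CommRingCat.of k') (algebraMap k k') w.1 c _ _ (hidx ⟨c • w.1, hv⟩) (hidx w))
  refine (Nat.card_congr (Equiv.ofBijective (Projectivization.lift F hF) ⟨?_, ?_⟩)).symm
  · intro P Q
    induction P using Projectivization.ind with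
    | h v hv =>
    induction Q using Projectivization.ind with
    | h w hw =>
    intro h
    rw [Projectivization.lift_mk, Projectivization.lift_mk] at h
    obtain ⟨c, hc⟩ := exists_smul_of_tuplePt_eq (B := CommRingCat.of k') _ _ _ _ (hidx ⟨v, hv⟩) (hidx ⟨w, hw⟩)
      (congrArg Subtype.val h)
    refine ((Projectivization.mk_eq_mk_iff' k' _ _ hw hv).2 ⟨(c : k'), funext fun j => (hc j).symm⟩).symm
  · rintro ⟨g, hg⟩
    let x₀ : ↥(Spec (CommRingCat.of k')) := (⊥ : PrimeSpectrum k')
    have hpt : g.base x₀ ∈ ⨆ i : Fin (n + 1), Proj.basicOpen (CohB1.polyGrading n k) (MvPolynomial.X i) :=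
      (iSup_chart (n := n) (R := k)).symm ▸ trivial
    obtain ⟨i, hi⟩ := TopologicalSpace.Opens.mem_iSup.1 hpt
    obtain ⟨τ, b, hb, rfl, hb1⟩ := exists_tuplePt (B := CommRingCat.of k') g i
      (fun x => by rwa [Subsingleton.elim x x₀])
    rw [tuplePt_toSpec] at hg
    have hτ : τ = algebraMap k k' := congrArg CommRingCat.Hom.hom (Spec.map_injective hg)
    subst hτ
    have hb0 : (show Fin (n + 1) → k' from b) ≠ 0 := fun h => by
      have h0 : b i = 0 := congrFun h i
      exact one_ne_zero (α := k') (hb1.symm.trans h0)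
    refine ⟨Projectivization.mk k' b hb0, ?_⟩
    rw [Projectivization.lift_mk]
    exact Subtype.ext (tuplePt_chart_eq (B := CommRingCat.of k') _ _ _ _ _ hb)

theorem nPts_projSpace (n m : ℕ) (hm : 0 < m) :
    Zeta.nPts (CohB1.ProjSpace.toSpec n k) m = ∑ i ∈ Finset.range (n + 1), (Nat.card k ^ m) ^ i := by
  obtain ⟨k', _, _, _, rfl⟩ := exists_extension (k := k) m hm
  haveI := Groth.L16.ProjSpace.isProper_toSpec (n := n) (R := k)
  rw [nPts_eq, pointCount_projSpace, ← Module.natCard_eq_pow_finrank]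

theorem pointCount_affineLine {X : Scheme.{u}} (f : X ⟶ Spec (CommRingCat.of k))
    (k' : Type u) [Field k'] [Algebra k k'] [Finite k'] :
    SgaExt.pointCount ((𝔸(PUnit.{u + 1}; X) ↘ X) ≫ f) k' = Nat.card k' * SgaExt.pointCount f k' := by
  rw [SgaExt.pointCount, SgaExt.pointCount, mul_comm]
  let Γe : Γ(Spec (CommRingCat.of k'), ⊤) ≃ k' := (Scheme.ΓSpecIso (CommRingCat.of k')).commRingCatIsoToRingEquiv.toEquiv
  rw [← Nat.card_prod]
  refine Nat.card_congr
    { toFun := fun g => (⟨g.1 ≫ (𝔸(PUnit.{u + 1}; X) ↘ X), by rw [Category.assoc]; exact g.2⟩,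
        Γe (g.1.appTop (AffineSpace.coord X PUnit.unit)))
      invFun := fun z => ⟨AffineSpace.homOfVector z.1.1 (fun _ => Γe.symm z.2), by
        rw [AffineSpace.homOfVector_over_assoc]; exact z.1.2⟩
      left_inv := fun g => ?_
      right_inv := fun z => ?_ }
  · refine Subtype.ext (AffineSpace.hom_ext ?_ fun i => ?_)
    · exact AffineSpace.homOfVector_over _ _
    · rw [AffineSpace.homOfVector_appTop_coord, Equiv.symm_apply_apply]
  · refine Prod.ext (Subtype.ext (AffineSpace.homOfVector_over _ _)) ?_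
    change Γe ((AffineSpace.homOfVector _ _).appTop _) = _
    rw [AffineSpace.homOfVector_appTop_coord, Equiv.apply_symm_apply]

theorem nPts_affineLine {X : Scheme.{u}} (f : X ⟶ Spec (CommRingCat.of k)) [LocallyOfFiniteType f]
    [QuasiCompact f] (m : ℕ) (hm : 0 < m) :
    Zeta.nPts ((𝔸(PUnit.{u + 1}; X) ↘ X) ≫ f) m = Nat.card k ^ m * Zeta.nPts f m := by
  obtain ⟨k', _, _, _, rfl⟩ := exists_extension (k := k) m hm
  rw [nPts_eq, nPts_eq, pointCount_affineLine, ← Module.natCard_eq_pow_finrank]

omit [Finite k] in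
theorem pointCount_baseChange {X : Scheme.{u}} (f : X ⟶ Spec (CommRingCat.of k))
    (k₁ : Type u) [Field k₁] [Algebra k k₁] (K : Type u) [Field K] [Algebra k₁ K] [Algebra k K]
    [IsScalarTower k k₁ K] :
    SgaExt.pointCount (pullback.snd f (Spec.map (CommRingCat.ofHom (algebraMap k k₁)))) K =
      SgaExt.pointCount f K := by
  have e : Spec.map (CommRingCat.ofHom (algebraMap k₁ K)) ≫ Spec.map (CommRingCat.ofHom (algebraMap k k₁)) =
      Spec.map (CommRingCat.ofHom (algebraMap k K)) := by
    rw [← Spec.map_comp, ← CommRingCat.ofHom_comp, ← IsScalarTower.algebraMap_eq]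
  exact Nat.card_congr
    { toFun := fun g => ⟨g.1 ≫ pullback.fst _ _, by rw [Category.assoc, pullback.condition, ← Category.assoc, g.2, e]⟩
      invFun := fun g => ⟨pullback.lift g.1 (Spec.map (CommRingCat.ofHom (algebraMap k₁ K))) (by rw [g.2, e]),
        pullback.lift_snd _ _ _⟩
      left_inv := fun g => Subtype.ext (pullback.hom_ext (pullback.lift_fst _ _ _)
        ((pullback.lift_snd _ _ _).trans g.2.symm))
      right_inv := fun g => Subtype.ext (pullback.lift_fst _ _ _) }

theorem nPts_baseChange {X : Scheme.{u}} (f : X ⟶ Spec (CommRingCat.of k)) [LocallyOfFiniteType f]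
    [QuasiCompact f] (k₁ : Type u) [Field k₁] [Algebra k k₁] [Finite k₁] (m : ℕ) (hm : 0 < m) :
    Zeta.nPts (pullback.snd f (Spec.map (CommRingCat.ofHom (algebraMap k k₁)))) m =
      Zeta.nPts f (Module.finrank k k₁ * m) := by
  obtain ⟨K, _, _, _, rfl⟩ := exists_extension (k := k₁) m hm
  letI : Algebra k K := ((algebraMap k₁ K).comp (algebraMap k k₁)).toAlgebra
  haveI : IsScalarTower k k₁ K := IsScalarTower.of_algebraMap_eq fun _ => rfl
  rw [nPts_eq, pointCount_baseChange, Module.finrank_mul_finrank, nPts_eq]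

end Groth.L11.ZetaCounts
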