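import Groth.Prelude.Def_FinFr
import Mathlib.AlgebraicGeometry.Morphisms.Immersion
import Mathlib.AlgebraicGeometry.Morphisms.FiniteType
import Mathlib.AlgebraicGeometry.Noetherian
import Mathlib.FieldTheory.IsAlgClosed.AlgebraicClosure
import Mathlib.FieldTheory.Finite.Basic
import Mathlib.FieldTheory.Separable
import Mathlib.Topology.Sober

/-! The fixed scheme of Frobenius on the extension to an algebraically closed field is reduced and finite. -/

set_option autoImplicit false
universe u

open AlgebraicGeometry CategoryTheory CategoryTheory.Limits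

namespace Groth.L11.FixFrob

theorem mem_range_of_root {K : Type u} [Field K] [IsAlgClosed K] {R : Type u} [CommRing R] [IsLocalRing R]
    (j : K →+* R) (P : Polynomial K) (hm : P.Monic) (hs : P.Separable) (r : R)
    (hr : Polynomial.eval₂ j r P = 0) : ∃ c, j c = r := by
  classical
  have hp : (P.roots.map fun c => r - j c).prod = 0 := by
    rw [← hr]
    conv_rhs => rw [(IsAlgClosed.splits P).eq_prod_roots, hm.leadingCoeff, Polynomial.C_1, one_mul,
      ← Polynomial.coe_eval₂RingHom, map_multiset_prod, Multiset.map_map]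
    simp
  obtain ⟨ζ, hζ, hζn⟩ : ∃ ζ ∈ P.roots, ¬ IsUnit (r - j ζ) := by
    by_contra! h
    refine not_isUnit_zero (M₀ := R) (hp ▸ Multiset.prod_induction IsUnit _ (fun a b ha hb => ha.mul hb) isUnit_one ?_)
    intro a ha
    obtain ⟨c, hc, rfl⟩ := Multiset.mem_map.1 ha
    exact h c hc
  refine ⟨ζ, ?_⟩
  rw [← Multiset.cons_erase hζ, Multiset.map_cons, Multiset.prod_cons] at hp
  have hu : IsUnit ((P.roots.erase ζ).map fun c => r - j c).prod := by
    refine Multiset.prod_induction IsUnit _ (fun a b ha hb => ha.mul hb) isUnit_one ?_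
    intro a ha
    obtain ⟨c, hc, rfl⟩ := Multiset.mem_map.1 ha
    by_contra hcn
    have hne : c ≠ ζ := fun h => ((Polynomial.nodup_roots hs).mem_erase_iff.1 hc).1 h
    have : r - j c - (r - j ζ) ∈ IsLocalRing.maximalIdeal R :=
      Ideal.sub_mem _ ((IsLocalRing.mem_maximalIdeal _).2 hcn) ((IsLocalRing.mem_maximalIdeal _).2 hζn)
    rw [sub_sub_sub_cancel_left, ← map_sub] at this
    exact (IsLocalRing.mem_maximalIdeal _).1 this ((sub_ne_zero.2 hne.symm).isUnit.map j)
  exact (sub_eq_zero.1 (hu.mul_left_eq_zero.1 hp)).symm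

theorem exists_lift_stalk {X : Scheme.{u}} {K : Type u} [Field K] (h : Spec (CommRingCat.of K) ⟶ X) (x : X)
    (hx : h.base (IsLocalRing.closedPoint K) = x) :
    ∃ χ : X.presheaf.stalk x ⟶ CommRingCat.of K, Spec.map χ ≫ X.fromSpecStalk x = h := by
  subst hx
  exact ⟨_, Scheme.Spec_stalkClosedPointTo_fromSpecStalk h⟩

variable {k : Type u} [Field k] [Finite k] {K : Type u} [Field K] [Algebra k K] [IsAlgClosed K]
  {X : Scheme.{u}} (f : X ⟶ Spec (CommRingCat.of k)) (FX : X ⟶ X)
  (hle : ∀ U : X.Opens, U ≤ FX ⁻¹ᵁ U)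
  (hFapp : ∀ (U : X.Opens) (s : Γ(X, U)), (FX.appLE U U (hle U)).hom s = s ^ Nat.card k)
  (F : FinFr.ext K f ⟶ FinFr.ext K f)
  (hF1 : F ≫ FinFr.extπ K f = FinFr.extπ K f ≫ FX)

include hle hFapp hF1

theorem isField_stalk {Y : Scheme.{u}} (i : Y ⟶ FinFr.ext K f) [IsImmersion i] (hi : i ≫ F = i) (z : Y) :
    IsField (Y.presheaf.stalk z) := by
  classical
  set R := Y.presheaf.stalk z
  let g : Spec R ⟶ FinFr.ext K f := Y.fromSpecStalk z ≫ i
  obtain ⟨_, ⟨U, hU, rfl⟩, hzU, -⟩ := X.isBasis_affineOpens.exists_subset_of_mem_open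
    (Set.mem_univ ((i ≫ FinFr.extπ K f).base z)) isOpen_univ
  change IsAffineOpen U at hU
  have hrange : Set.range (g ≫ FinFr.extπ K f).base ⊆ Set.range hU.fromSpec.base := by
    rw [hU.range_fromSpec]
    rintro _ ⟨y, rfl⟩
    have hy : Y.fromSpecStalk z y ⤳ z := by
      have h := Set.mem_range_self (f := Y.fromSpecStalk z) y
      rw [Scheme.range_fromSpecStalk] at h
      exact h
    exact ((hy.map (i ≫ FinFr.extπ K f).continuous)).mem_open U.isOpen hzU
  let φA : Γ(X, U) ⟶ R := Spec.preimage (IsOpenImmersion.lift hU.fromSpec (g ≫ FinFr.extπ K f) hrange)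
  have hφA : Spec.map φA ≫ hU.fromSpec = g ≫ FinFr.extπ K f := by
    rw [Spec.map_preimage, IsOpenImmersion.lift_fac]
  let jK : CommRingCat.of K ⟶ R := Spec.preimage (g ≫ FinFr.extStr K f)
  have hjK : Spec.map jK = g ≫ FinFr.extStr K f := Spec.map_preimage _
  have hfix : FX.appLE U U (hle U) ≫ φA = φA := by
    apply Spec.map_injective
    rw [← cancel_mono hU.fromSpec, Spec.map_comp, Category.assoc, hU.SpecMap_appLE_fromSpec FX hU, ← Category.assoc,
      hφA, Category.assoc, ← hF1, ← Category.assoc]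
    simp only [g, Category.assoc]
    rw [reassoc_of% hi]
  have hq : ((Nat.card k : ℕ) : K) = 0 := by
    letI := Fintype.ofFinite k
    rw [Nat.card_eq_fintype_card, ← map_natCast (algebraMap k K), FiniteField.cast_card_eq_zero, map_zero]
  have hroot : ∀ a, ∃ c, jK.hom c = φA.hom a := fun a => by
    have hqa : φA.hom a ^ Nat.card k = φA.hom a := by
      have := congrArg (fun φ => φ.hom a) hfix
      simp only [CommRingCat.hom_comp, RingHom.comp_apply, hFapp, map_pow] at this
      exact this
    refine mem_range_of_root jK.hom (Polynomial.X ^ Nat.card k - Polynomial.X) ?_ ?_ _ ?_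
    · refine Polynomial.monic_X_pow_sub ?_
      rw [Polynomial.degree_X]; exact_mod_cast Finite.one_lt_card (α := k)
    · rw [Polynomial.separable_def, Polynomial.derivative_sub, Polynomial.derivative_X_pow, Polynomial.derivative_X,
        hq, Polynomial.C_0, zero_mul, zero_sub]
      exact isCoprime_one_right.neg_right
    · rw [Polynomial.eval₂_sub, Polynomial.eval₂_X_pow, Polynomial.eval₂_X, hqa, sub_self]
  let e : K ≃+* jK.hom.range := RingEquiv.ofBijective jK.hom.rangeRestrict
    ⟨fun a b h => jK.hom.injective (congrArg Subtype.val h), jK.hom.rangeRestrict_surjective⟩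
  let ψA : Γ(X, U) ⟶ CommRingCat.of K := CommRingCat.ofHom
    (e.symm.toRingHom.comp (φA.hom.codRestrict jK.hom.range fun a => hroot a))
  have hψ : ψA ≫ jK = φA := by
    ext a
    exact congrArg Subtype.val (e.apply_symm_apply ⟨φA.hom a, hroot a⟩)
  have hcompat : (Spec.map ψA ≫ hU.fromSpec) ≫ f = 𝟙 _ ≫ FinFr.specι k K := by
    obtain ⟨η, hη⟩ := Spec.map_surjective ((Spec.map ψA ≫ hU.fromSpec) ≫ f)
    rw [Category.id_comp, ← hη]
    have h : η ≫ jK = CommRingCat.ofHom (algebraMap k K) ≫ jK := by
      apply Spec.map_injective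
      rw [Spec.map_comp, hη, Spec.map_comp]
      calc Spec.map jK ≫ (Spec.map ψA ≫ hU.fromSpec) ≫ f
          = ((Spec.map (ψA ≫ jK)) ≫ hU.fromSpec) ≫ f := by simp only [Spec.map_comp, Category.assoc]
        _ = (g ≫ FinFr.extπ K f) ≫ f := by rw [hψ, hφA]
        _ = (g ≫ FinFr.extStr K f) ≫ FinFr.specι k K := by simp only [Category.assoc, pullback.condition]
        _ = Spec.map jK ≫ Spec.map (CommRingCat.ofHom (algebraMap k K)) := by rw [hjK]
    refine congrArg Spec.map ?_
    ext c
    exact jK.hom.injective (congrArg (fun φ => φ.hom c) h)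
  let pt : Spec (CommRingCat.of K) ⟶ FinFr.ext K f := pullback.lift _ _ hcompat
  have hg : Spec.map jK ≫ pt = g := by
    refine pullback.hom_ext ?_ ?_
    · rw [Category.assoc, pullback.lift_fst, ← Category.assoc, ← Spec.map_comp, hψ, hφA]
    · rw [Category.assoc, pullback.lift_snd, Category.comp_id, hjK]
  have hpt : pt.base (IsLocalRing.closedPoint K) = i.base z := by
    haveI : Subsingleton ↥(Spec (CommRingCat.of K)) := inferInstanceAs (Subsingleton (PrimeSpectrum K))
    let cR : ↥(Spec R) := IsLocalRing.closedPoint R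
    have h : pt ((Spec.map jK) cR) = i (Y.fromSpecStalk z cR) := congrArg (fun m => m.base cR) hg
    calc pt.base _ = pt ((Spec.map jK) cR) := congrArg pt.base (Subsingleton.elim _ _)
      _ = _ := h.trans (congrArg (fun w => i.base w) Scheme.fromSpecStalk_closedPoint)
  obtain ⟨χ, hχ⟩ := exists_lift_stalk pt (i.base z) hpt
  have hs : i.stalkMap z = χ ≫ jK := by
    apply Spec.map_injective
    rw [← cancel_mono ((FinFr.ext K f).fromSpecStalk (i.base z)), Scheme.SpecMap_stalkMap_fromSpecStalk, Spec.map_comp,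
      Category.assoc, hχ, hg]
  have hsurj : Function.Surjective jK.hom := fun r => by
    obtain ⟨s, hs'⟩ := i.stalkMap_surjective z r
    exact ⟨χ.hom s, by rw [← hs', hs]; rfl⟩
  exact (RingEquiv.ofBijective jK.hom ⟨jK.hom.injective, hsurj⟩).symm.toMulEquiv.isField (Field.toIsField K)

theorem isReduced_fixScheme (hF2 : F ≫ FinFr.extStr K f = FinFr.extStr K f) :
    IsReduced (FinFr.fixScheme (FinFr.extStr K f) F hF2) := by
  haveI : IsImmersion (pullback.lift (𝟙 _) (𝟙 _) rfl : FinFr.ext K f ⟶ pullback (FinFr.extStr K f) (FinFr.extStr K f)) :=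
    inferInstanceAs (IsImmersion (pullback.diagonal (FinFr.extStr K f)))
  have hi : (pullback.fst _ _ : FinFr.fixScheme (FinFr.extStr K f) F hF2 ⟶ _) ≫ F = pullback.fst _ _ := by
    have h1 := congrArg (· ≫ pullback.fst _ _) (pullback.condition (f := pullback.lift (𝟙 _) F (by rw [hF2, Category.id_comp]) )
      (g := (pullback.lift (𝟙 _) (𝟙 _) rfl : FinFr.ext K f ⟶ pullback (FinFr.extStr K f) (FinFr.extStr K f))))
    have h2 := congrArg (· ≫ pullback.snd _ _) (pullback.condition (f := pullback.lift (𝟙 _) F (by rw [hF2, Category.id_comp]) )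
      (g := (pullback.lift (𝟙 _) (𝟙 _) rfl : FinFr.ext K f ⟶ pullback (FinFr.extStr K f) (FinFr.extStr K f))))
    simp only [Category.assoc, pullback.lift_fst, pullback.lift_snd, Category.comp_id] at h1 h2
    exact h2.trans h1.symm
  haveI : ∀ z : FinFr.fixScheme (FinFr.extStr K f) F hF2,
      _root_.IsReduced ((FinFr.fixScheme (FinFr.extStr K f) F hF2).presheaf.stalk z) := fun z => by
    haveI : IsDomain ((FinFr.fixScheme (FinFr.extStr K f) F hF2).presheaf.stalk z) :=
      (isField_stalk f FX hle hFapp F hF1 (pullback.fst _ _) hi z).isDomain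
    infer_instance
  exact isReduced_of_isReduced_stalk _

theorem finite_fixScheme [LocallyOfFiniteType f] [QuasiCompact f] (hF2 : F ≫ FinFr.extStr K f = FinFr.extStr K f) :
    Finite ↥(FinFr.fixScheme (FinFr.extStr K f) F hF2) := by
  haveI : IsImmersion (pullback.lift (𝟙 _) (𝟙 _) rfl : FinFr.ext K f ⟶ pullback (FinFr.extStr K f) (FinFr.extStr K f)) :=
    inferInstanceAs (IsImmersion (pullback.diagonal (FinFr.extStr K f)))
  haveI : IsLocallyNoetherian (FinFr.ext K f) := LocallyOfFiniteType.isLocallyNoetherian (FinFr.extStr K f)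
  haveI : CompactSpace (FinFr.ext K f) := QuasiCompact.compactSpace_of_compactSpace (FinFr.extStr K f)
  haveI : IsNoetherian (FinFr.ext K f) := ⟨⟩
  let Y := FinFr.fixScheme (FinFr.extStr K f) F hF2
  let i : Y ⟶ FinFr.ext K f := pullback.fst _ _
  haveI : IsImmersion i := inferInstanceAs (IsImmersion (pullback.fst _ _))
  haveI : TopologicalSpace.NoetherianSpace ↥Y := i.isEmbedding.isInducing.noetherianSpace
  have hi : i ≫ F = i := by
    have h1 := congrArg (· ≫ pullback.fst _ _) (pullback.condition (f := pullback.lift (𝟙 _) F (by rw [hF2, Category.id_comp]) )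
      (g := (pullback.lift (𝟙 _) (𝟙 _) rfl : FinFr.ext K f ⟶ pullback (FinFr.extStr K f) (FinFr.extStr K f))))
    have h2 := congrArg (· ≫ pullback.snd _ _) (pullback.condition (f := pullback.lift (𝟙 _) F (by rw [hF2, Category.id_comp]) )
      (g := (pullback.lift (𝟙 _) (𝟙 _) rfl : FinFr.ext K f ⟶ pullback (FinFr.extStr K f) (FinFr.extStr K f))))
    simp only [Category.assoc, pullback.lift_fst, pullback.lift_snd, Category.comp_id] at h1 h2
    exact h2.trans h1.symm
  have hmax : ∀ y z : ↥Y, y ⤳ z → y = z := fun y z h => by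
    have hy : y ∈ Set.range (Y.fromSpecStalk z) := by rw [Scheme.range_fromSpecStalk]; exact h
    obtain ⟨w, hw⟩ := hy
    letI := (isField_stalk f FX hle hFapp F hF1 i hi z).toField
    haveI : Subsingleton ↥(Spec (Y.presheaf.stalk z)) := inferInstanceAs (Subsingleton (PrimeSpectrum (Y.presheaf.stalk z)))
    exact hw.symm.trans ((congrArg _ (Subsingleton.elim w (IsLocalRing.closedPoint (Y.presheaf.stalk z) : ↥(Spec _)))).trans Scheme.fromSpecStalk_closedPoint)
  haveI := (TopologicalSpace.NoetherianSpace.finite_irreducibleComponents (α := ↥Y)).to_subtype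
  refine Finite.of_injective (fun z : ↥Y => (⟨irreducibleComponent z, irreducibleComponent_mem_irreducibleComponents z⟩ :
    irreducibleComponents ↥Y)) fun a b h => ?_
  have hgen : ∀ z : ↥Y, (isIrreducible_irreducibleComponent (x := z)).genericPoint = z := fun z =>
    hmax _ z (isIrreducible_irreducibleComponent.isGenericPoint_genericPoint
      isClosed_irreducibleComponent |>.specializes mem_irreducibleComponent)
  have h' : irreducibleComponent a = irreducibleComponent b := congrArg Subtype.val h
  rw [← hgen a, ← hgen b]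
  congr 1

end Groth.L11.FixFrob
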