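import Groth.Agent.L11.Zeta.Spread
import Mathlib.FieldTheory.PurelyInseparable.Basic
import Mathlib.FieldTheory.SeparableClosure
import Mathlib.FieldTheory.PrimitiveElement

/-!
The equation of a regular separably generated extension of transcendence degree one is absolutely irreducible.
-/

set_option autoImplicit false
universe u

open Polynomial

namespace Groth.L11.Zeta

variable {K₀ : Type u} [Field K₀] {L : Type u} [Field L] [Algebra (RatFunc K₀) L] [Algebra K₀ L]
  [IsScalarTower K₀ (RatFunc K₀) L] {g : K₀[X][X]} (hg : g.Monic) {θ : L}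
  (hθ : Polynomial.aeval θ (g.map (algebraMap K₀[X] (RatFunc K₀))) = 0)
  (hfin : Module.finrank (RatFunc K₀) L = g.natDegree)
  (hirr : Irreducible g) (hclosed : ∀ z : L, IsIntegral K₀ z → z ∈ Set.range (algebraMap K₀ L))

omit [Algebra (RatFunc K₀) L] [IsScalarTower K₀ (RatFunc K₀) L] in
include hclosed in
theorem irreducible_map_of_closed {h : K₀[X]} (hh : h.Monic) (hi : Irreducible h) :
    Irreducible (h.map (algebraMap K₀ L)) := by
  refine ((hh.map _).irreducible_iff_natDegree).mpr ⟨fun h1 => ?_, fun a b ha hb hab => ?_⟩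
  · rw [← Polynomial.map_one (algebraMap K₀ L)] at h1
    exact hi.ne_one (Polynomial.map_injective _ (algebraMap K₀ L).injective h1)
  · have hl : ∀ c : L[X], c.Monic → c ∣ h.map (algebraMap K₀ L) → ∃ c₀ : K₀[X], c₀.map (algebraMap K₀ L) = c :=
      fun c hc hdvd => by
        have hl := integralClosure.mem_lifts_of_monic_of_dvd_map L hh hc hdvd
        rw [Polynomial.lifts_iff_coeff_lifts] at hl
        refine (Polynomial.mem_lifts c).mp ((Polynomial.lifts_iff_coeff_lifts c).mpr fun n => ?_)
        obtain ⟨z, hz⟩ := hl n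
        exact hclosed _ (hz ▸ z.2)
    obtain ⟨a₀, rfl⟩ := hl a ha ⟨b, hab.symm⟩
    obtain ⟨b₀, rfl⟩ := hl b hb ⟨_, by rw [mul_comm, hab]⟩
    rw [← Polynomial.map_mul] at hab
    rcases hi.isUnit_or_isUnit (Polynomial.map_injective _ (algebraMap K₀ L).injective hab).symm with hu | hu
    · left; rw [Polynomial.natDegree_map]; exact Polynomial.natDegree_eq_zero_of_isUnit hu
    · right; rw [Polynomial.natDegree_map]; exact Polynomial.natDegree_eq_zero_of_isUnit hu

include hg hθ hfin hirr hclosed in
/-- Irreducibility persists in a finite separable extension of the constants. -/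
theorem irreducible_map_separable (K₁ : Type u) [Field K₁] [Algebra K₀ K₁] [FiniteDimensional K₀ K₁]
    [Algebra.IsSeparable K₀ K₁] : Irreducible (g.map (Polynomial.mapRingHom (algebraMap K₀ K₁))) := by
  classical
  have hd : 0 < g.natDegree := by
    rcases Nat.eq_zero_or_pos g.natDegree with h | h
    · exact absurd (hg.natDegree_eq_zero.mp h ▸ hirr) not_irreducible_one
    · exact h
  haveI : FiniteDimensional (RatFunc K₀) L := Module.finite_of_finrank_pos (by omega)
  let pb := Field.powerBasisOfFiniteOfSeparable K₀ K₁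
  set h := minpoly K₀ pb.gen with hh
  have hint : IsIntegral K₀ pb.gen := pb.isIntegral_gen
  haveI := Fact.mk (irreducible_map_of_closed hclosed (minpoly.monic hint) (minpoly.irreducible hint))
  let L₁ := AdjoinRoot (h.map (algebraMap K₀ L))
  let ε : L₁ := AdjoinRoot.root _
  have hε : Polynomial.aeval ε h = 0 := by
    have := AdjoinRoot.eval₂_root (h.map (algebraMap K₀ L))
    rw [Polynomial.eval₂_map] at this
    exact this
  let j : K₁ →ₐ[K₀] L₁ := pb.lift ε hε
  let x₁ : L₁ := algebraMap (RatFunc K₀) L₁ RatFunc.X
  let θ₁ : L₁ := algebraMap L L₁ θ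
  let τ : K₁[X] →+* L₁ := Polynomial.eval₂RingHom j.toRingHom x₁
  let E := IntermediateField.adjoin (RatFunc K₀) ({ε} : Set L₁)
  have hτ : ∀ p, τ p ∈ E := fun p => by
    induction p using Polynomial.induction_on' with
    | add p q hp hq => rw [map_add]; exact add_mem hp hq
    | monomial n c =>
      rw [show τ (Polynomial.monomial n c) = j c * x₁ ^ n from Polynomial.eval₂_monomial _ _]
      refine mul_mem ?_ (pow_mem (IntermediateField.algebraMap_mem _ _) n)
      obtain ⟨P, rfl⟩ := pb.exists_eq_aeval' c
      rw [← Polynomial.aeval_algHom_apply, show j pb.gen = ε from pb.lift_gen _ _, Polynomial.aeval_eq_sum_range]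
      refine sum_mem fun i _ => ?_
      rw [Algebra.smul_def, IsScalarTower.algebraMap_apply K₀ (RatFunc K₀) L₁]
      exact mul_mem (IntermediateField.algebraMap_mem _ _) (pow_mem (IntermediateField.mem_adjoin_simple_self _ _) i)
  have hdeg : ∀ a : K₁[X][X], a.Monic → a.eval₂ τ θ₁ = 0 → g.natDegree ≤ a.natDegree := fun a ha hroot => by
    haveI : Module.Finite L L₁ := (AdjoinRoot.powerBasis ((minpoly.monic hint).map _).ne_zero).finite
    haveI : Module.Finite (RatFunc K₀) L₁ := Module.Finite.trans L L₁
    have hEm : Module.finrank (RatFunc K₀) E ≤ h.natDegree := by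
      rw [IntermediateField.adjoin.finrank (IsIntegral.of_finite _ ε)]
      refine le_of_le_of_eq (Polynomial.natDegree_le_of_dvd (minpoly.dvd _ _ ?_) ((minpoly.monic hint).map _).ne_zero)
        ((minpoly.monic hint).natDegree_map (algebraMap K₀ (RatFunc K₀)))
      rw [Polynomial.aeval_map_algebraMap]
      exact hε
    let aE : (E : Type u)[X] := a.map (τ.codRestrict E hτ)
    have haE : Polynomial.aeval θ₁ aE = 0 := by
      rw [Polynomial.aeval_def, Polynomial.eval₂_map]
      exact hroot
    have htop : IntermediateField.adjoin E ({θ₁} : Set L₁) = ⊤ := by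
      refine eq_top_iff.mpr fun z _ => ?_
      induction z using AdjoinRoot.induction_on with
      | ih P =>
        rw [← AdjoinRoot.aeval_eq, Polynomial.aeval_eq_sum_range]
        refine sum_mem fun i _ => ?_
        rw [Algebra.smul_def]
        refine mul_mem ?_ (pow_mem (IntermediateField.algebraMap_mem _ (⟨ε, IntermediateField.mem_adjoin_simple_self _ _⟩ : E)) i)
        have hL : P.coeff i ∈ Algebra.adjoin (RatFunc K₀) ({θ} : Set L) := by
          have hθdeg : (minpoly (RatFunc K₀) θ).natDegree = g.natDegree := by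
            rw [← minpoly.eq_of_irreducible_of_monic (irreducible_map_ratFunc hg hirr) hθ (hg.map _)]
            exact hg.natDegree_map _
          have : IntermediateField.adjoin (RatFunc K₀) ({θ} : Set L) = ⊤ :=
            IntermediateField.eq_of_le_of_finrank_eq le_top (by
              rw [IntermediateField.adjoin.finrank (IsIntegral.of_finite _ θ), hθdeg, IntermediateField.finrank_top', hfin])
          rw [← IntermediateField.adjoin_simple_toSubalgebra_of_isAlgebraic (IsIntegral.of_finite _ θ).isAlgebraic, this]
          trivial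
        generalize P.coeff i = z at hL ⊢
        induction hL using Algebra.adjoin_induction with
        | mem z hz =>
          rw [Set.mem_singleton_iff.mp hz]
          exact IntermediateField.mem_adjoin_simple_self _ _
        | algebraMap r =>
          rw [← IsScalarTower.algebraMap_apply (RatFunc K₀) L L₁, IsScalarTower.algebraMap_apply (RatFunc K₀) E L₁]
          exact IntermediateField.algebraMap_mem _ _
        | add z z' _ _ hz hz' => rw [map_add]; exact add_mem hz hz'
        | mul z z' _ _ hz hz' => rw [map_mul]; exact mul_mem hz hz'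
    have h1 : Module.finrank E L₁ ≤ a.natDegree := by
      rw [← IntermediateField.finrank_top', ← htop, IntermediateField.adjoin.finrank (IsIntegral.of_finite _ θ₁)]
      exact le_of_le_of_eq (Polynomial.natDegree_le_of_dvd (minpoly.dvd _ _ haE) (ha.map _).ne_zero) (ha.natDegree_map _)
    have h2 := Module.finrank_mul_finrank (RatFunc K₀) L L₁
    have h3 := Module.finrank_mul_finrank (RatFunc K₀) E L₁
    rw [hfin, (AdjoinRoot.powerBasis ((minpoly.monic hint).map (algebraMap K₀ L)).ne_zero).finrank,
      AdjoinRoot.powerBasis_dim, (minpoly.monic hint).natDegree_map] at h2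
    have h4 : g.natDegree * h.natDegree ≤ a.natDegree * h.natDegree := by
      rw [h2, ← h3, mul_comm a.natDegree]
      exact Nat.mul_le_mul hEm h1
    exact Nat.le_of_mul_le_mul_right h4 (minpoly.natDegree_pos hint)
  refine ((hg.map _).irreducible_iff_natDegree).mpr ⟨fun h1 => ?_, fun a b ha hb hab => ?_⟩
  · have := congrArg Polynomial.natDegree h1
    rw [hg.natDegree_map, Polynomial.natDegree_one] at this
    omega
  · have hroot : a.eval₂ τ θ₁ * b.eval₂ τ θ₁ = 0 := by
      rw [← Polynomial.eval₂_mul, hab, Polynomial.eval₂_map,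
        show τ.comp (Polynomial.mapRingHom (algebraMap K₀ K₁)) =
          (algebraMap L L₁).comp ((algebraMap (RatFunc K₀) L).comp (algebraMap K₀[X] (RatFunc K₀))) from
          Polynomial.ringHom_ext (fun c => by
            simp only [RingHom.comp_apply, Polynomial.coe_mapRingHom, Polynomial.map_C, τ, Polynomial.coe_eval₂RingHom,
              Polynomial.eval₂_C, RatFunc.algebraMap_C, show RatFunc.C c = algebraMap K₀ (RatFunc K₀) c from rfl]
            rw [← IsScalarTower.algebraMap_apply K₀ (RatFunc K₀) L, ← IsScalarTower.algebraMap_apply K₀ L L₁]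
            exact j.commutes c)
            (by simp [τ, x₁, ← IsScalarTower.algebraMap_apply]),
        ← Polynomial.hom_eval₂, ← Polynomial.eval₂_map, ← Polynomial.aeval_def, hθ, map_zero]
    have hsum : a.natDegree + b.natDegree = g.natDegree := by rw [← ha.natDegree_mul hb, hab, hg.natDegree_map]
    rcases mul_eq_zero.mp hroot with h0 | h0
    · have := hdeg a ha h0; omega
    · have := hdeg b hb h0; omega

include hg hθ hfin hirr hclosed in
/-- The equation is absolutely irreducible. -/
theorem irreducible_map_algClosure (hsep : Polynomial.derivative g ≠ 0) :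
    Irreducible (g.map (Polynomial.mapRingHom (algebraMap K₀ (AlgebraicClosure K₀)))) := by
  classical
  let Kb := AlgebraicClosure K₀
  obtain ⟨q, hq⟩ := ExpChar.exists K₀
  haveI : ExpChar Kb q := expChar_of_injective_algebraMap (algebraMap K₀ Kb).injective q
  haveI : ExpChar Kb[X] q := expChar_of_injective_ringHom Polynomial.C_injective q
  haveI : ExpChar Kb[X][X] q := expChar_of_injective_ringHom Polynomial.C_injective q
  set G := g.map (Polynomial.mapRingHom (algebraMap K₀ Kb))
  have hG : G.Monic := hg.map _
  have hGd : G.natDegree = g.natDegree := hg.natDegree_map _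
  have hG' : Polynomial.derivative G ≠ 0 := by
    rw [Polynomial.derivative_map, Ne, Polynomial.map_eq_zero_iff]
    · exact hsep
    · exact Polynomial.map_injective _ (algebraMap K₀ Kb).injective
  have hd : 0 < g.natDegree := by
    rcases Nat.eq_zero_or_pos g.natDegree with h | h
    · exact absurd (hg.natDegree_eq_zero.mp h ▸ hirr) not_irreducible_one
    · exact h
  refine (hG.irreducible_iff_natDegree).mpr ⟨fun h1 => ?_, fun a b ha hb hab => ?_⟩
  · rw [h1, Polynomial.natDegree_one] at hGd; omega
  by_contra! hne
  have hsum : a.natDegree + b.natDegree = G.natDegree := by rw [← ha.natDegree_mul hb, hab]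
  -- descend to a finite separable extension
  let cs : Finset Kb := (Finset.range (a.natDegree + 1)).biUnion (fun i => (a.coeff i).coeffs) ∪
    (Finset.range (b.natDegree + 1)).biUnion (fun i => (b.coeff i).coeffs)
  haveI : IsPurelyInseparable (separableClosure K₀ Kb) Kb := separableClosure.isPurelyInseparable K₀ Kb
  haveI : ExpChar (separableClosure K₀ Kb) q := expChar_of_injective_algebraMap (algebraMap K₀ _).injective q
  choose n hn using fun c : Kb => IsPurelyInseparable.pow_mem (separableClosure K₀ Kb) q c
  set N := cs.sup n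
  have hN : ∀ c ∈ cs, c ^ q ^ N ∈ separableClosure K₀ Kb := fun c hc => by
    obtain ⟨z, hz⟩ := hn c
    have hle : n c ≤ N := Finset.le_sup hc
    rw [← Nat.add_sub_cancel' hle, pow_add, pow_mul, ← hz]
    exact pow_mem z.2 _
  let S : Set Kb := ↑(cs.image fun c => c ^ q ^ N)
  let K₁ := IntermediateField.adjoin K₀ S
  haveI : FiniteDimensional K₀ K₁ := IntermediateField.finiteDimensional_adjoin fun z _ => Algebra.IsIntegral.isIntegral z
  haveI : Algebra.IsSeparable K₀ K₁ := (IntermediateField.isSeparable_adjoin_iff_isSeparable K₀ Kb).mpr fun z hz => by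
    obtain ⟨c, hc, rfl⟩ := Finset.mem_image.mp hz
    exact mem_separableClosure_iff.mp (hN c hc)
  let M : (K₁ : Type u)[X][X] →+* Kb[X][X] := Polynomial.mapRingHom (Polynomial.mapRingHom (algebraMap K₁ Kb))
  have hMinj : Function.Injective M :=
    Polynomial.map_injective _ (Polynomial.map_injective _ (algebraMap K₁ Kb).injective)
  have hlift : ∀ P : Kb[X][X], (∀ i l, i ≤ P.natDegree → (P.coeff i).coeff l ≠ 0 → (P.coeff i).coeff l ∈ cs) →
      P ^ q ^ N ∈ M.range := fun P hP => by
    have hF := map_sum (iterateFrobenius Kb[X][X] q N)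
      (fun i => Polynomial.C (P.coeff i) * Polynomial.X ^ i) (Finset.range (P.natDegree + 1))
    rw [← Polynomial.as_sum_range_C_mul_X_pow P] at hF
    simp only [iterateFrobenius_def] at hF
    rw [hF]
    refine Subring.sum_mem _ fun i hi => ?_
    rw [mul_pow, ← Polynomial.C_pow]
    refine Subring.mul_mem _ ?_ (Subring.pow_mem _ (Subring.pow_mem _ (RingHom.mem_range.mpr ⟨Polynomial.X, by simp [M]⟩) _) _)
    have hF2 := map_sum (iterateFrobenius Kb[X] q N)
      (fun l => Polynomial.C ((P.coeff i).coeff l) * Polynomial.X ^ l) (Finset.range ((P.coeff i).natDegree + 1))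
    rw [← Polynomial.as_sum_range_C_mul_X_pow (P.coeff i)] at hF2
    simp only [iterateFrobenius_def] at hF2
    rw [hF2, map_sum]
    refine Subring.sum_mem _ fun l _ => ?_
    rw [mul_pow, ← Polynomial.C_pow, map_mul]
    refine Subring.mul_mem _ ?_ (RingHom.mem_range.mpr ⟨Polynomial.C ((Polynomial.X ^ l) ^ q ^ N), by simp [M]⟩)
    by_cases h0 : (P.coeff i).coeff l = 0
    · rw [h0, zero_pow (pow_ne_zero _ (expChar_pos Kb q).ne')]
      exact RingHom.mem_range.mpr ⟨0, by simp⟩
    · have hmem : ((P.coeff i).coeff l) ^ q ^ N ∈ K₁ := IntermediateField.subset_adjoin K₀ S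
        (Finset.mem_image_of_mem _ (hP i l (Nat.lt_succ_iff.mp (Finset.mem_range.mp hi)) h0))
      exact RingHom.mem_range.mpr ⟨Polynomial.C (Polynomial.C (⟨_, hmem⟩ : K₁)), by simp [M]⟩
  obtain ⟨a₁, ha₁⟩ := hlift a fun i l hi h0 => Finset.mem_union_left _
    (Finset.mem_biUnion.mpr ⟨i, Finset.mem_range.mpr (Nat.lt_succ_of_le hi), Polynomial.coeff_mem_coeffs h0⟩)
  obtain ⟨b₁, hb₁⟩ := hlift b fun i l hi h0 => Finset.mem_union_right _
    (Finset.mem_biUnion.mpr ⟨i, Finset.mem_range.mpr (Nat.lt_succ_of_le hi), Polynomial.coeff_mem_coeffs h0⟩)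
  set g₁ := g.map (Polynomial.mapRingHom (algebraMap K₀ K₁))
  have hMg : M g₁ = G := by
    change (g.map _).map _ = _
    rw [Polynomial.map_map, Polynomial.mapRingHom_comp, ← IsScalarTower.algebraMap_eq]
  have hprod : a₁ * b₁ = g₁ ^ q ^ N := hMinj (by rw [map_mul, map_pow, ha₁, hb₁, ← mul_pow, hab, hMg])
  have hg₁ : Prime g₁ := (irreducible_map_separable hg hθ hfin hirr hclosed K₁).prime
  obtain ⟨m, -, hm⟩ := (dvd_prime_pow hg₁ _).mp ⟨b₁, hprod.symm⟩
  have ha₁m : a₁.Monic := Polynomial.monic_of_injective (Polynomial.map_injective _ (algebraMap K₁ Kb).injective)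
    (show (M a₁).Monic from ha₁ ▸ ha.pow _)
  have hm' : a ^ q ^ N = G ^ m := by
    rw [← ha₁, ← hMg, ← map_pow, Polynomial.eq_of_monic_of_associated ha₁m ((hg.map _).pow m) hm]
  -- remove the Frobenius
  have key : ∀ N m, a ^ q ^ N = G ^ m → False := fun N => by
    induction N with
    | zero =>
      intro m hm
      rw [pow_zero, pow_one] at hm
      have := congrArg Polynomial.natDegree hm
      rw [hG.natDegree_pow] at this
      rcases Nat.eq_zero_or_pos m with rfl | hpos
      · omega
      · have : G.natDegree ≤ m * G.natDegree := Nat.le_mul_of_pos_left _ hpos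
        omega
    | succ N ih =>
      intro m hm
      rcases (expChar_is_prime_or_one Kb q).symm with h1 | hp
      · subst h1
        exact ih m (by simpa using hm)
      haveI := Fact.mk hp
      haveI : CharP Kb[X] q := by
        rcases ‹ExpChar Kb[X] q› with _ | ⟨_⟩
        · exact absurd hp Nat.not_prime_one
        · assumption
      haveI : CharP Kb[X][X] q := by
        rcases ‹ExpChar Kb[X][X] q› with _ | ⟨_⟩
        · exact absurd hp Nat.not_prime_one
        · assumption
      have hder := congrArg Polynomial.derivative hm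
      rw [Polynomial.derivative_pow, Polynomial.derivative_pow, Nat.cast_pow, CharP.cast_eq_zero Kb[X] q,
        zero_pow (Nat.succ_ne_zero N), map_zero, zero_mul, zero_mul] at hder
      have hm0 : (m : Kb[X][X]) = 0 := by
        by_contra hne0
        have h3 : (Polynomial.C (m : Kb[X]) : Kb[X][X]) * G ^ (m - 1) * Polynomial.derivative G ≠ 0 :=
          mul_ne_zero (mul_ne_zero (by simpa using hne0) (pow_ne_zero _ hG.ne_zero)) hG'
        exact h3 hder.symm
      obtain ⟨m', rfl⟩ := (CharP.cast_eq_zero_iff Kb[X][X] q m).mp hm0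
      refine ih m' (frobenius_inj Kb[X][X] q ?_)
      rw [frobenius_def, frobenius_def, ← pow_mul, ← pow_succ, hm, ← pow_mul, mul_comm]
  exact key N m hm'

end Groth.L11.Zeta
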