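import Mathlib.NumberTheory.LSeries.Basic
import Mathlib.NumberTheory.LSeries.Convergence
import Mathlib.Analysis.SpecialFunctions.Pow.Real
import Mathlib.Analysis.Normed.Ring.InfiniteSum
import Mathlib.Data.Finset.Powerset
import Mathlib.Algebra.BigOperators.Finsupp.Basic

/-!
Euler products over an arbitrary index set: Dirichlet series counting finitely supported exponent vectors.
-/

set_option autoImplicit false

open Complex

namespace Groth.L11.Zeta

variable {ι : Type*} (N : ι → ℕ)

/-- The norm of an exponent vector. -/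
def norm' (α : ι →₀ ℕ) : ℕ := α.prod fun x m => N x ^ m

/-- The number of exponent vectors of given norm. -/
noncomputable def count (n : ℕ) : ℕ := Nat.card {α : ι →₀ ℕ // norm' N α = n}

variable {N}

theorem norm'_pos (h2 : ∀ x, 2 ≤ N x) (α : ι →₀ ℕ) : 0 < norm' N α :=
  Finset.prod_pos fun x _ => pow_pos (by have := h2 x; omega) _

theorem norm'_add (α β : ι →₀ ℕ) : norm' N (α + β) = norm' N α * norm' N β :=
  Finsupp.prod_add_index' (fun _ => pow_zero _) fun x m m' => pow_add _ m m'

theorem rpow_norm' (σ : ℝ) (α : ι →₀ ℕ) :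
    ((norm' N α : ℝ)) ^ (-σ) = α.prod fun x m => ((N x : ℝ) ^ (-σ)) ^ m := by
  rw [norm', Finsupp.prod, Finsupp.prod, Nat.cast_prod, ← Real.finsetProd_rpow _ _ fun i _ => by positivity]
  refine Finset.prod_congr rfl fun x _ => ?_
  rw [Nat.cast_pow, ← Real.rpow_natCast ((N x : ℝ) ^ (-σ)), ← Real.rpow_natCast (N x : ℝ),
    ← Real.rpow_mul (by positivity), ← Real.rpow_mul (by positivity), mul_comm]

/-- Finite Euler products. -/
theorem sum_prod_le {w : ι → ℝ} (hw : ∀ x, 0 ≤ w x) (hw1 : ∀ x, w x < 1) :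
    ∀ (S : Finset ι) (T : Finset (ι →₀ ℕ)), (∀ α ∈ T, α.support ⊆ S) →
      ∑ α ∈ T, α.prod (fun x m => w x ^ m) ≤ ∏ x ∈ S, (1 - w x)⁻¹ := by
  classical
  intro S
  induction S using Finset.induction_on with
  | empty =>
    intro T hT
    rw [Finset.prod_empty]
    calc ∑ α ∈ T, α.prod (fun x m => w x ^ m) ≤ ∑ α ∈ ({0} : Finset (ι →₀ ℕ)), α.prod (fun x m => w x ^ m) := by
          refine Finset.sum_le_sum_of_subset_of_nonneg (fun α hα => ?_)
            fun α _ _ => Finset.prod_nonneg fun x _ => pow_nonneg (hw x) _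
          rw [Finset.mem_singleton, ← Finsupp.support_eq_empty]
          exact Finset.subset_empty.mp (hT α hα)
      _ = 1 := by simp
  | insert a S ha ih =>
    intro T hT
    let M := T.sup fun α => α a
    have hinj : Function.Injective fun α : ι →₀ ℕ => (α a, α.erase a) := fun α β h => by
      simp only [Prod.mk.injEq] at h
      rw [← Finsupp.single_add_erase a α, ← Finsupp.single_add_erase a β, h.1, h.2]
    have key : ∀ α : ι →₀ ℕ, α.prod (fun x m => w x ^ m) = w a ^ α a * (α.erase a).prod (fun x m => w x ^ m) :=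
      fun α => (Finsupp.mul_prod_erase' α a (fun x m => w x ^ m) fun x => pow_zero _).symm
    calc ∑ α ∈ T, α.prod (fun x m => w x ^ m)
        = ∑ z ∈ T.image (fun α => (α a, α.erase a)), w a ^ z.1 * z.2.prod (fun x m => w x ^ m) := by
          rw [Finset.sum_image hinj.injOn]
          exact Finset.sum_congr rfl fun α _ => key α
      _ ≤ ∑ z ∈ Finset.range (M + 1) ×ˢ T.image (Finsupp.erase a), w a ^ z.1 * z.2.prod (fun x m => w x ^ m) := by
          refine Finset.sum_le_sum_of_subset_of_nonneg ?_ fun z _ _ =>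
            mul_nonneg (pow_nonneg (hw a) _) (Finset.prod_nonneg fun x _ => pow_nonneg (hw x) _)
          intro z hz
          obtain ⟨α, hα, rfl⟩ := Finset.mem_image.mp hz
          exact Finset.mem_product.mpr ⟨Finset.mem_range.mpr (Nat.lt_succ_of_le (Finset.le_sup (f := fun α => α a) hα)),
            Finset.mem_image_of_mem _ hα⟩
      _ = (∑ i ∈ Finset.range (M + 1), w a ^ i) * ∑ β ∈ T.image (Finsupp.erase a), β.prod (fun x m => w x ^ m) := by
          rw [Finset.sum_product, Finset.sum_mul]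
          exact Finset.sum_congr rfl fun i _ => by rw [Finset.mul_sum]
      _ ≤ (1 - w a)⁻¹ * ∏ x ∈ S, (1 - w x)⁻¹ := by
          refine mul_le_mul ?_ (ih _ fun β hβ => ?_) (Finset.sum_nonneg fun β _ =>
            Finset.prod_nonneg fun x _ => pow_nonneg (hw x) _) (inv_nonneg.mpr (by linarith [hw1 a]))
          · rw [← tsum_geometric_of_lt_one (hw a) (hw1 a)]
            exact (summable_geometric_of_lt_one (hw a) (hw1 a)).sum_le_tsum _ fun i _ => pow_nonneg (hw a) i
          · obtain ⟨α, hα, rfl⟩ := Finset.mem_image.mp hβ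
            rw [Finsupp.support_erase]
            intro x hx
            obtain ⟨hxa, hx⟩ := Finset.mem_erase.mp hx
            exact (Finset.mem_insert.mp (hT α hα hx)).resolve_left hxa
      _ = ∏ x ∈ insert a S, (1 - w x)⁻¹ := by rw [Finset.prod_insert ha]

variable (h2 : ∀ x, 2 ≤ N x) {σ : ℝ} (hσ : 0 < σ) (hsum : Summable fun x => (N x : ℝ) ^ (-σ))

include h2 hσ in
theorem weight_lt_one (x : ι) : (N x : ℝ) ^ (-σ) < 1 :=
  Real.rpow_lt_one_of_one_lt_of_neg (by have := h2 x; exact_mod_cast this) (by linarith)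

include h2 hσ hsum in
/-- Convergence of the Euler product. -/
theorem summable_exponents : Summable fun α : ι →₀ ℕ => (norm' N α : ℝ) ^ (-σ) := by
  classical
  set c : ℝ := 1 - (2 : ℝ) ^ (-σ) with hc
  have hc0 : 0 < c := by
    have : (2 : ℝ) ^ (-σ) < 1 := Real.rpow_lt_one_of_one_lt_of_neg (by norm_num) (by linarith)
    linarith
  have hle : ∀ x, (N x : ℝ) ^ (-σ) ≤ 1 - c := fun x => by
    have : (N x : ℝ) ^ (-σ) ≤ (2 : ℝ) ^ (-σ) :=
      Real.rpow_le_rpow_of_nonpos (by norm_num) (by exact_mod_cast h2 x) (by linarith)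
    linarith
  refine summable_of_sum_le (c := Real.exp (c⁻¹ * ∑' x, (N x : ℝ) ^ (-σ))) (fun α => by positivity) fun T => ?_
  simp only [rpow_norm']
  refine (sum_prod_le (fun x => by positivity) (weight_lt_one h2 hσ) (T.biUnion Finsupp.support) T
    fun α hα => Finset.subset_biUnion_of_mem Finsupp.support hα).trans ?_
  refine le_trans (Finset.prod_le_prod (fun x _ => inv_nonneg.mpr (by linarith [weight_lt_one h2 hσ x]))
    fun x _ => ?_) (((Real.exp_sum _ (fun x => c⁻¹ * (N x : ℝ) ^ (-σ))).symm.le).trans (Real.exp_le_exp.mpr ?_))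
  · refine le_trans ?_ (Real.add_one_le_exp _)
    set w := (N x : ℝ) ^ (-σ) with hw
    have h1 : 0 ≤ w := by positivity
    have h3 : c ≤ 1 - w := by linarith [hle x]
    rw [inv_le_iff_one_le_mul₀ (by linarith), add_mul, one_mul]
    have h4 : c⁻¹ * c = 1 := inv_mul_cancel₀ hc0.ne'
    have h5 : w * (c⁻¹ * c) ≤ w * (c⁻¹ * (1 - w)) :=
      mul_le_mul_of_nonneg_left (mul_le_mul_of_nonneg_left h3 (inv_nonneg.mpr hc0.le)) h1
    rw [h4] at h5
    nlinarith
  · rw [← Finset.mul_sum]
    exact mul_le_mul_of_nonneg_left (hsum.sum_le_tsum _ fun x _ => by positivity) (inv_nonneg.mpr hc0.le)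

include h2 hσ hsum in
theorem finite_fibre (n : ℕ) : Finite {α : ι →₀ ℕ // norm' N α = n} := by
  by_contra h
  rw [not_finite_iff_infinite] at h
  obtain ⟨α⟩ := h.nonempty
  have hs := (summable_exponents h2 hσ hsum).comp_injective
    (Subtype.val_injective (p := fun α : ι →₀ ℕ => norm' N α = n))
  have : (fun α : {α : ι →₀ ℕ // norm' N α = n} => (norm' N α.1 : ℝ) ^ (-σ)) = fun _ => (n : ℝ) ^ (-σ) :=
    funext fun α => by rw [α.2]
  rw [Function.comp_def, this, summable_const_iff] at hs
  have hn : (0 : ℝ) < n := by exact_mod_cast α.2 ▸ norm'_pos h2 α.1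
  exact (Real.rpow_pos_of_pos hn _).ne' hs

/-- The weight of a single index. -/
noncomputable def cweight (N : ι → ℕ) (s : ℂ) (x : ι) : ℂ := (N x : ℂ) ^ (-s)

theorem cpow_norm' (h2 : ∀ x, 2 ≤ N x) (s : ℂ) (α : ι →₀ ℕ) :
    (norm' N α : ℂ) ^ (-s) = α.prod fun x m => cweight N s x ^ m := by
  induction α using Finsupp.induction with
  | zero => simp [norm']
  | single_add a m f ha hm ih =>
    rw [norm'_add, Nat.cast_mul, natCast_mul_natCast_cpow, ih,
      Finsupp.prod_add_index' (fun _ => pow_zero _) fun x m m' => pow_add _ m m']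
    congr 1
    rw [norm', Finsupp.prod_single_index (h := fun x m => N x ^ m) (pow_zero _),
      Finsupp.prod_single_index (h := fun x m => cweight N s x ^ m) (pow_zero _), cweight, Nat.cast_pow,
      ← natCast_cpow_natCast_mul (N a) m, ← cpow_mul_nat, mul_comm (m : ℂ)]

variable {s : ℂ}

include h2 hσ hsum in
theorem summable_cweight (hs : σ ≤ s.re) : Summable fun α : ι →₀ ℕ => (norm' N α : ℂ) ^ (-s) := by
  refine Summable.of_norm_bounded (summable_exponents h2 hσ hsum) fun α => ?_
  rw [norm_natCast_cpow_of_pos (norm'_pos h2 α), neg_re]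
  exact Real.rpow_le_rpow_of_exponent_le (by exact_mod_cast norm'_pos h2 α) (by linarith)

include h2 hσ hsum in
theorem lseries_eq_tsum (hs : σ ≤ s.re) (g : ℕ → ℂ) (hg : ∀ n, g n = (count N n : ℂ)) :
    LSeriesSummable g s ∧ LSeries g s = ∑' α : ι →₀ ℕ, (norm' N α : ℂ) ^ (-s) := by
  have hS := summable_cweight h2 hσ hsum hs
  let e := Equiv.sigmaFiberEquiv (norm' N)
  have hS' : Summable fun z : Σ n, {α : ι →₀ ℕ // norm' N α = n} => (norm' N z.2.1 : ℂ) ^ (-s) :=
    (e.summable_iff (f := fun α => (norm' N α : ℂ) ^ (-s))).mpr hS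
  have hfib : ∀ n, LSeries.term g s n = ∑' α : {α : ι →₀ ℕ // norm' N α = n}, (norm' N α.1 : ℂ) ^ (-s) := fun n => by
    haveI := finite_fibre h2 hσ hsum n
    haveI := Fintype.ofFinite {α : ι →₀ ℕ // norm' N α = n}
    rw [tsum_fintype, Finset.sum_congr rfl (fun α _ => by rw [α.2] :
      ∀ α ∈ (Finset.univ : Finset {α : ι →₀ ℕ // norm' N α = n}), (norm' N α.1 : ℂ) ^ (-s) = (n : ℂ) ^ (-s)),
      Finset.sum_const, Finset.card_univ, nsmul_eq_mul, ← Nat.card_eq_fintype_card]
    rcases eq_or_ne n 0 with rfl | hn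
    · haveI : IsEmpty {α : ι →₀ ℕ // norm' N α = 0} := ⟨fun α => (norm'_pos h2 α.1).ne' α.2⟩
      simp
    · rw [LSeries.term_of_ne_zero hn, hg, cpow_neg, ← div_eq_mul_inv]
      rfl
  refine ⟨?_, ?_⟩
  · change Summable (LSeries.term g s)
    rw [funext hfib]
    exact hS'.sigma
  · rw [LSeries, funext hfib, ← e.tsum_eq fun α => (norm' N α : ℂ) ^ (-s)]
    exact hS'.tsum_sigma.symm

include h2 hσ hsum in
/-- The Dirichlet series of the exponent vectors has no zero where it converges absolutely. -/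
theorem tsum_cweight_ne_zero (hs : σ ≤ s.re) : ∑' α : ι →₀ ℕ, (norm' N α : ℂ) ^ (-s) ≠ 0 := by
  classical
  let ind : Finset ι → (ι →₀ ℕ) := fun S => Finsupp.indicator S fun _ _ => 1
  have hind : ∀ S, (ind S).support = S := fun S => by
    ext x; simp [ind, Finsupp.mem_support_iff]
  have hind_inj : Function.Injective ind := fun S T h => by rw [← hind S, h, hind]
  let F : (ι →₀ ℕ) → ℂ := fun α => (norm' N α : ℂ) ^ (-s)
  let G : Finset ι → ℂ := fun S => (-1) ^ S.card * F (ind S)
  have hF : Summable fun α => ‖F α‖ := (summable_cweight h2 hσ hsum hs).norm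
  have hG : Summable fun S => ‖G S‖ := by
    refine (hF.comp_injective hind_inj).congr fun S => ?_
    simp [G]
  have hprod := summable_mul_of_summable_norm hF hG
  have hmul := tsum_mul_tsum_of_summable_norm hF hG
  -- collect by the sum of the two exponent vectors
  let e : (ι →₀ ℕ) × Finset ι ≃ Σ γ : ι →₀ ℕ, {S : Finset ι // S ∈ γ.support.powerset} :=
    { toFun := fun z => ⟨z.1 + ind z.2, z.2, Finset.mem_powerset.mpr fun x hx => by
        rw [Finsupp.mem_support_iff, Finsupp.add_apply]
        have : ind z.2 x = 1 := Finsupp.indicator_of_mem hx _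
        omega⟩
      invFun := fun z => (z.1 - ind z.2.1, z.2.1)
      left_inv := fun z => by simp
      right_inv := fun ⟨γ, S, hS⟩ => by
        have h : γ - ind S + ind S = γ := by
          ext x
          rw [Finsupp.add_apply, Finsupp.tsub_apply]
          by_cases hx : x ∈ S
          · have h1 : ind S x = 1 := Finsupp.indicator_of_mem hx _
            have h2 := Finsupp.mem_support_iff.mp (Finset.mem_powerset.mp hS hx)
            omega
          · have h1 : ind S x = 0 := Finsupp.indicator_of_notMem hx _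
            omega
        exact Sigma.subtype_ext h rfl }
  have he : ∀ z : (ι →₀ ℕ) × Finset ι, F z.1 * G z.2 = (-1) ^ z.2.card * F (e z).1 := fun z => by
    change F z.1 * ((-1) ^ z.2.card * F (ind z.2)) = _ * ((norm' N (z.1 + ind z.2) : ℂ) ^ (-s))
    rw [norm'_add, Nat.cast_mul, natCast_mul_natCast_cpow]
    ring
  have hsig : Summable fun z : Σ γ : ι →₀ ℕ, {S : Finset ι // S ∈ γ.support.powerset} =>
      (-1 : ℂ) ^ z.2.1.card * F z.1 := by
    refine e.summable_iff.mp (hprod.congr fun z => ?_)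
    exact he z
  have hone : (∑' α, F α) * ∑' S, G S = 1 := by
    rw [hmul, tsum_congr he]
    refine (e.tsum_eq (fun z => (-1 : ℂ) ^ z.2.1.card * F z.1)).trans ?_
    rw [hsig.tsum_sigma, tsum_eq_single (0 : ι →₀ ℕ) fun γ hγ => ?_]
    · rw [Finset.tsum_subtype (0 : ι →₀ ℕ).support.powerset (fun S => (-1 : ℂ) ^ S.card * F 0)]
      simp [F, norm']
    · rw [Finset.tsum_subtype γ.support.powerset (fun S => (-1 : ℂ) ^ S.card * F γ), ← Finset.sum_mul]
      have h0 : ∑ S ∈ γ.support.powerset, (-1 : ℤ) ^ S.card = 0 :=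
        Finset.sum_powerset_neg_one_pow_card_of_nonempty (Finsupp.support_nonempty_iff.mpr hγ)
      have h1 := congrArg (Int.cast : ℤ → ℂ) h0
      push_cast at h1
      rw [h1, zero_mul]
  exact fun h => by rw [h, zero_mul] at hone; exact zero_ne_one hone

end Groth.L11.Zeta
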