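import Groth.Agent.L11.Zeta.Induction
import Mathlib.RingTheory.Spectrum.Prime.Basic
import Mathlib.Order.RelSeries

/-!
Chains of primes of a ring of finite type over `ℤ` are no longer than the transcendence degree over the prime field,
plus one in characteristic zero.
-/

set_option autoImplicit false
universe u

open MvPolynomial

namespace Groth.L11.Zeta

variable {A : Type u} [CommRing A]

/-- Independence modulo `P`, over the prime field of characteristic `c`. -/
def IndMod (P : Ideal A) (c : ℕ) {n : ℕ} (x : Fin n → A) : Prop :=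
  ∀ f : MvPolynomial (Fin n) ℤ, aeval x f ∈ P → C (c : ℤ) ∣ f

theorem IndMod.cons {P Q : Ideal A} [P.IsPrime] {c n : ℕ} {x : Fin n → A} (hx : IndMod Q c x) (hPQ : P ≤ Q)
    (hc : (c : A) ∈ P) {q : A} (hq : q ∈ Q) (hqP : q ∉ P) : IndMod P c (Fin.cons q x : Fin (n + 1) → A) := by
  have key : ∀ G : Polynomial (MvPolynomial (Fin n) ℤ), G.eval₂ (aeval x).toRingHom q ∈ P →
      Polynomial.C (C (c : ℤ)) ∣ G := by
    intro G
    induction G using Polynomial.recOnHorner with
    | M0 => exact fun _ => dvd_zero _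
    | MC G a hG0 ha ih =>
      intro h
      obtain ⟨G', hG'⟩ := Polynomial.X_dvd_iff.mpr hG0
      have haQ : aeval x a ∈ Q := by
        have h' := hPQ h
        rw [Polynomial.eval₂_add, Polynomial.eval₂_C, hG', Polynomial.eval₂_mul, Polynomial.eval₂_X] at h'
        exact (Ideal.add_mem_iff_right _ (Ideal.mul_mem_right _ _ hq)).mp h'
      obtain ⟨b, rfl⟩ := hx a haQ
      refine dvd_add (ih ?_) (by rw [map_mul]; exact dvd_mul_right _ _)
      have : Polynomial.eval₂ (aeval x).toRingHom q (Polynomial.C (C (c : ℤ) * b)) ∈ P := by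
        rw [Polynomial.eval₂_C]
        change aeval x (C (c : ℤ) * b) ∈ P
        rw [map_mul, aeval_C]
        exact Ideal.mul_mem_right _ _ (by simpa using hc)
      rw [Polynomial.eval₂_add] at h
      exact (Ideal.add_mem_iff_left _ this).mp h
    | MX G _ ih =>
      intro h
      rw [Polynomial.eval₂_mul, Polynomial.eval₂_X] at h
      exact dvd_mul_of_dvd_left (ih (((inferInstance : P.IsPrime).mem_or_mem h).resolve_right hqP)) _
  intro f hf
  have heq : (Polynomial.eval₂RingHom (aeval x).toRingHom q).comp (finSuccEquiv ℤ n).toRingEquiv.toRingHom =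
      (aeval (Fin.cons q x : Fin (n + 1) → A)).toRingHom :=
    MvPolynomial.ringHom_ext (fun r => by simp) fun i => by
      induction i using Fin.cases with
      | zero => simp [finSuccEquiv_X_zero]
      | succ j => simp [finSuccEquiv_X_succ]
  have h1 := key (finSuccEquiv ℤ n f) (by
    have := RingHom.congr_fun heq f
    change Polynomial.eval₂ (aeval x).toRingHom q (finSuccEquiv ℤ n f) = _ at this
    rw [this]; exact hf)
  obtain ⟨G, hG⟩ := h1
  refine ⟨(finSuccEquiv ℤ n).symm G, (finSuccEquiv ℤ n).injective ?_⟩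
  rw [map_mul, AlgEquiv.apply_symm_apply, hG]
  congr 1
  simp

theorem IndMod.lift {P Q : Ideal A} [P.IsPrime] {p n : ℕ} (hp : 2 ≤ p) {x : Fin n → A} (hx : IndMod Q p x)
    (hPQ : P ≤ Q) (hpP : (p : A) ∉ P) : IndMod P 0 x := by
  intro f hf
  have key : ∀ (N : ℕ) (f : MvPolynomial (Fin n) ℤ) (m : Fin n →₀ ℕ), (f.coeff m).natAbs ≤ N → aeval x f ∈ P →
      f.coeff m = 0 := by
    intro N
    induction N with
    | zero => exact fun f m h _ => Int.natAbs_eq_zero.mp (Nat.le_zero.mp h)
    | succ N ih =>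
      intro f m h hf
      obtain ⟨g, rfl⟩ := hx f (hPQ hf)
      rw [map_mul, aeval_C] at hf
      have hg : aeval x g ∈ P := ((inferInstance : P.IsPrime).mem_or_mem hf).resolve_left (by simpa using hpP)
      by_cases h0 : g.coeff m = 0
      · rw [coeff_C_mul, h0, mul_zero]
      · rw [coeff_C_mul, Int.natAbs_mul, Int.natAbs_natCast] at h
        have := Int.natAbs_pos.mpr h0
        exact absurd (ih g m (by nlinarith) hg) h0
  have : f = 0 := MvPolynomial.ext _ _ fun m => by rw [coeff_zero]; exact key _ f m le_rfl hf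
  rw [this]
  exact dvd_zero _

theorem exists_indMod_singleton (P : Ideal A) [P.IsPrime] :
    ∃ c : ℕ, (c = 0 ∨ c.Prime) ∧ (c : A) ∈ P ∧ IndMod P c (Fin.elim0 : Fin 0 → A) := by
  obtain ⟨c, hc⟩ := CharP.exists (A ⧸ P)
  haveI := hc
  refine ⟨c, (CharP.char_is_prime_or_zero (A ⧸ P) c).symm, ?_, fun f hf => ?_⟩
  · rw [← Ideal.Quotient.eq_zero_iff_mem, map_natCast, CharP.cast_eq_zero]
  · obtain ⟨a, rfl⟩ := C_surjective (R := ℤ) (Fin 0) f
    rw [aeval_C, algebraMap_int_eq, Int.coe_castRingHom, ← Ideal.Quotient.eq_zero_iff_mem, map_intCast,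
      CharP.intCast_eq_zero_iff (A ⧸ P) c] at hf
    exact map_dvd C hf

/-- A chain of primes gives independent elements modulo its first term. -/
theorem exists_indMod (l : LTSeries (PrimeSpectrum A)) :
    ∃ (c n : ℕ) (x : Fin n → A), (c = 0 ∨ c.Prime) ∧ (c : A) ∈ l.head.asIdeal ∧ IndMod l.head.asIdeal c x ∧
      l.length ≤ n + (if c = 0 then 1 else 0) ∧ (c ≠ 0 → l.length ≤ n) := by
  induction l using RelSeries.inductionOn with
  | singleton P =>
    obtain ⟨c, h1, h2, h3⟩ := exists_indMod_singleton P.asIdeal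
    exact ⟨c, 0, Fin.elim0, h1, h2, h3, Nat.zero_le _, fun _ => le_rfl⟩
  | cons l P hP ih =>
    obtain ⟨c, n, x, hc, hcQ, hx, hlen, hlen'⟩ := ih
    rw [RelSeries.head_cons]
    have hlt : P.asIdeal < l.head.asIdeal := hP
    obtain ⟨c', hc', hc'P, hx'⟩ := exists_indMod_singleton P.asIdeal
    have hdvd : (c : ℤ) ∣ c' := by
      have h := hx (C (c' : ℤ)) (by simpa using hlt.le hc'P)
      have h2 := (C_dvd_iff_dvd_coeff _ _).mp h 0
      rwa [MvPolynomial.coeff_C, if_pos rfl] at h2
    have hlen2 : (RelSeries.cons l P hP).length = l.length + 1 := by simp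
    rw [hlen2]
    by_cases hcc : c' = c
    · subst hcc
      obtain ⟨q, hq, hqP⟩ := SetLike.exists_of_lt hlt
      exact ⟨c', n + 1, Fin.cons q x, hc, hc'P, hx.cons hlt.le hc'P hq hqP, by omega, fun h => by
        have := hlen' h; omega⟩
    · have hcp : c.Prime := hc.resolve_left fun h0 => by
        subst h0
        simp only [Nat.cast_zero, zero_dvd_iff, Nat.cast_eq_zero] at hdvd
        exact hcc hdvd
      have hc'0 : c' = 0 := hc'.resolve_right fun h =>
        hcc ((Nat.prime_dvd_prime_iff_eq hcp h).mp (Int.natCast_dvd_natCast.mp hdvd)).symm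
      subst hc'0
      have hcP : (c : A) ∉ P.asIdeal := fun h => by
        have h1 := hx' (C (c : ℤ)) (by simpa using h)
        simp at h1
        exact hcp.ne_zero h1
      exact ⟨0, n, x, Or.inl rfl, by simp, hx.lift hcp.two_le hlt.le hcP, by
        have := hlen' hcp.ne_zero
        simp only [if_true]; omega, fun h => absurd rfl h⟩

end Groth.L11.Zeta
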