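import Groth.Agent.L11.Zeta.Abscissa
import Groth.Agent.L11.Zeta.Weight
import Groth.Agent.L06.Dim
import Mathlib.RingTheory.EssentialFiniteness
import Mathlib.Algebra.Algebra.Rat

/-!
The abscissa of the zeta function of a scheme of finite type over `ℤ` is at least its dimension.
-/

set_option autoImplicit false
universe u

open AlgebraicGeometry CategoryTheory Filter Topology

namespace Groth.L11.Zeta

section Algebra

variable {D : Type u} [CommRing D] [IsDomain D] [Algebra.FiniteType ℤ D]
  {L : Type u} [Field L] [Algebra D L] [IsFractionRing D L]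

/-- Independent elements in a finitely generated field over a prime field `k`. -/
theorem le_card_basis {k : Type} [Field k] [PerfectField k]
    (hk : ∀ c : k, ∃ a N : ℤ, (N : k) ≠ 0 ∧ (a : k) = N * c) [Algebra k L] (c : ℕ) (hck : (c : k) = 0)
    {n : ℕ} (x : Fin n → D) (hx : IndMod (⊥ : Ideal D) c x) :
    Algebra.EssFiniteType k L ∧
      ∃ (m : ℕ) (y : Fin m → L), n ≤ m ∧ IsTranscendenceBasis k y := by
  classical
  haveI : Algebra.EssFiniteType ℤ L := (haveI : Algebra.EssFiniteType D L := Algebra.EssFiniteType.of_isLocalization L (nonZeroDivisors D)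
      Algebra.EssFiniteType.comp ℤ D L)
  haveI : @IsScalarTower ℤ k L Algebra.toSMul Algebra.toSMul Algebra.toSMul :=
    IsScalarTower.of_algebraMap_eq' (RingHom.ext_int _ _)
  haveI hL : Algebra.EssFiniteType k L := Algebra.EssFiniteType.of_comp ℤ k L
  let xL : Fin n → L := fun i => algebraMap D _ (x i)
  have hind : AlgebraicIndependent k xL := by
    rw [algebraicIndependent_iff]
    intro f hf
    have hclear : ∀ P : MvPolynomial (Fin n) k, ∃ (Q : MvPolynomial (Fin n) ℤ) (N : ℤ), (N : k) ≠ 0 ∧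
        MvPolynomial.map (Int.castRingHom k) Q = MvPolynomial.C (N : k) * P := fun P => by
      induction P using MvPolynomial.induction_on with
      | C c =>
        obtain ⟨a, N, hN, h⟩ := hk c
        exact ⟨MvPolynomial.C a, N, hN, by rw [MvPolynomial.map_C, ← map_mul, ← h]; simp⟩
      | add P P' h h' =>
        obtain ⟨Q, N, hN, hQ⟩ := h
        obtain ⟨Q', N', hN', hQ'⟩ := h'
        refine ⟨MvPolynomial.C N' * Q + MvPolynomial.C N * Q', N * N', by simp [hN, hN'], ?_⟩
        simp only [map_add, map_mul, hQ, hQ', Int.cast_mul, MvPolynomial.map_C, Int.coe_castRingHom]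
        ring
      | mul_X P i h =>
        obtain ⟨Q, N, hN, hQ⟩ := h
        exact ⟨Q * MvPolynomial.X i, N, hN, by rw [map_mul, hQ, MvPolynomial.map_X, mul_assoc]⟩
    obtain ⟨Q, N, hN, hQ⟩ := hclear f
    have h1 : MvPolynomial.aeval xL (MvPolynomial.map (Int.castRingHom k) Q) = 0 := by rw [hQ, map_mul, hf, mul_zero]
    rw [show Int.castRingHom k = algebraMap ℤ k from RingHom.ext_int _ _, MvPolynomial.aeval_map_algebraMap] at h1
    have h2 : MvPolynomial.aeval x Q ∈ (⊥ : Ideal D) := by
      rw [Ideal.mem_bot]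
      refine IsFractionRing.injective D L ?_
      rw [map_zero, ← h1]
      exact DFunLike.congr_fun (MvPolynomial.comp_aeval x ((algebraMap D L).toIntAlgHom)) Q
    obtain ⟨G, hG⟩ := hx Q h2
    have h3 : MvPolynomial.C (N : k) * f = 0 := by
      rw [← hQ, hG, map_mul, MvPolynomial.map_C, eq_intCast]
      simp [hck]
    exact (mul_eq_zero.mp h3).resolve_left fun h => hN (MvPolynomial.C_injective (Fin n) k (h.trans MvPolynomial.C_0.symm))
  obtain ⟨s, hs, -⟩ := exists_isTranscendenceBasis_and_isSeparable_of_perfectField k L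
  let e : Fin s.card ≃ s := s.equivFin.symm
  refine ⟨hL, s.card, fun i => (e i : L), ?_, hs.comp_equiv e⟩
  have h := hind.lift_cardinalMk_le_trdeg
  rw [← hs.cardinalMk_eq_trdeg] at h
  simpa using h

/-- Divergence for a domain with independent elements. -/
theorem div_model {c n r : ℕ} (hc : c = 0 ∨ c.Prime) (hcD : (c : D) = 0) (x : Fin n → D)
    (hx : IndMod (⊥ : Ideal D) c x) (hr : 0 < r) (hlen : r ≤ n + (if c = 0 then 1 else 0)) :
    ∃ (A : Subalgebra ℤ L) (π : D →+* A), Function.Surjective π ∧ Div A r := by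
  classical
  refine ⟨(algebraMap D L).toIntAlgHom.range, (algebraMap D L).toIntAlgHom.rangeRestrict.toRingHom,
    AlgHom.rangeRestrict_surjective _, ?_⟩
  set A := (algebraMap D L).toIntAlgHom.range
  have hFG : A.FG := by
    rw [Subalgebra.fg_iff_finiteType]
    exact Algebra.FiniteType.of_surjective (algebraMap D L).toIntAlgHom.rangeRestrict
      (AlgHom.rangeRestrict_surjective _)
  have hgen : Gen A := by
    intro z
    obtain ⟨a, b, hb, rfl⟩ := IsFractionRing.div_surjective D z
    exact ⟨_, ⟨a, rfl⟩, _, ⟨b, rfl⟩,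
      (map_ne_zero_iff _ (IsFractionRing.injective D L)).mpr (nonZeroDivisors.ne_zero hb), rfl⟩
  have key : ∀ d : ℕ, r ≤ d → Dense L d → Div A r := fun d hd h y hy =>
    h A hFG hgen y (hy.trans_le (by exact_mod_cast hd))
  rcases hc with rfl | hp
  · haveI : CharZero D := charZero_of_inj_zero fun m hm => by
      have h1 := hx (MvPolynomial.C (m : ℤ)) (by simpa using hm)
      simp at h1
      exact_mod_cast h1
    haveI : CharZero L := charZero_of_injective_algebraMap (IsFractionRing.injective D L)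
    obtain ⟨hL, m, y, hnm, hy⟩ := le_card_basis (L := L) (k := ℚ)
      (fun c => ⟨c.num, c.den, by simp, by rw [mul_comm]; exact_mod_cast (Rat.mul_den_eq_num c).symm⟩) 0 (by simp) x hx
    haveI := hL
    simp only [if_true] at hlen
    exact key (m + 1) (by omega) (dense_rat m _ y hy)
  · haveI := Fact.mk hp
    haveI : CharP L c := (CharP.charP_iff_prime_eq_zero hp).2 (by
      rw [← map_natCast (algebraMap D L), hcD, map_zero])
    letI : Algebra (ZMod c) L := ZMod.algebra _ c
    obtain ⟨hL, m, y, hnm, hy⟩ := le_card_basis (L := L) (k := ZMod c) (fun a => by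
      obtain ⟨b, rfl⟩ := ZMod.intCast_surjective a
      exact ⟨b, 1, by simp, by simp⟩) c (ZMod.natCast_self c) x hx
    haveI := hL
    rw [if_neg hp.ne_zero, Nat.add_zero] at hlen
    exact key m (hlen.trans hnm) (dense_zmod c m _ y hy (by omega))

end Algebra

variable {X : Scheme.{u}} (f : X ⟶ Spec (CommRingCat.of (ULift.{u} ℤ))) [LocallyOfFiniteType f]

include f in
/-- A maximal ideal of an affine open gives a closed point with the same residue field. -/
theorem exists_closed_of_maximal {U : X.Opens} (hU : IsAffineOpen U) :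
    ∃ J : Max Γ(X, U) → Closed X, Function.Injective J ∧ ∀ m, ptNorm X (J m) = nm Γ(X, U) m := by
  haveI : IsJacobsonRing (ULift.{u} ℤ) := isJacobsonRing_ulift
  haveI : JacobsonSpace X := LocallyOfFiniteType.jacobsonSpace f
  refine ⟨fun m => ⟨hU.fromSpec ⟨m.1, m.2.isPrime⟩, ?_⟩, fun m m' h => ?_, fun m => ?_⟩
  · have h : (⟨m.1, m.2.isPrime⟩ : PrimeSpectrum Γ(X, U)) ∈ closedPoints (Spec Γ(X, U)) :=
      (PrimeSpectrum.isClosed_singleton_iff_isMaximal _).mpr m.2
    rw [← hU.fromSpec.isOpenEmbedding.preimage_closedPoints] at h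
    exact h
  · simp only [Subtype.mk.injEq] at h
    have h2 := hU.fromSpec.isOpenEmbedding.injective h
    exact Subtype.ext (congrArg PrimeSpectrum.asIdeal h2)
  · haveI := m.2
    change Nat.card (X.residueField (hU.fromSpec ⟨m.1, m.2.isPrime⟩)) = Nat.card (Γ(X, U) ⧸ m.1)
    exact (Nat.card_congr (asIso (hU.fromSpec.residueFieldMap ⟨m.1, m.2.isPrime⟩) ≪≫
      Scheme.Spec.residueFieldIso _ ⟨m.1, m.2.isPrime⟩).commRingCatIsoToRingEquiv.toEquiv).trans
      (Nat.card_congr (Equiv.ofBijective _ m.1.bijective_algebraMap_quotient_residueField)).symm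

include f in
/-- The sum over the closed points diverges below the dimension. -/
theorem not_summable_ptNorm {r : ℕ} (hr : topologicalKrullDim X = r) (hr0 : 0 < r) {y : ℝ} (hy : y < r) :
    ¬ Summable fun x : Closed X => (ptNorm X x : ℝ) ^ (-y) := by
  intro hsum
  obtain ⟨p, hp⟩ := Order.le_krullDim_iff.mp (le_of_eq hr.symm :
    ((r : ℕ) : WithBot ℕ∞) ≤ topologicalKrullDim X)
  obtain ⟨x₀, hx₀⟩ := p.head.isIrreducible.nonempty
  obtain ⟨_, ⟨U, hU, rfl⟩, hxU, -⟩ :=
    X.isBasis_affineOpens.exists_subset_of_mem_open (Set.mem_univ x₀) isOpen_univ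
  have hdim : (r : WithBot ℕ∞) ≤ ringKrullDim Γ(X, U) := by
    rw [← Groth.L22.SchemeDim.topologicalKrullDim_affineOpen hU, ← hp]
    exact Groth.L06.Dim.length_le_of_head_inter p U.2 ⟨x₀, hx₀, hxU⟩
  haveI := finiteType_sections f hU
  obtain ⟨l, hl⟩ := Order.le_krullDim_iff.mp hdim
  obtain ⟨c, n, x, hc, hcP, hx, hlen, -⟩ := exists_indMod l
  rw [hl] at hlen
  set P := l.head.asIdeal
  haveI : P.IsPrime := l.head.2
  haveI : @Algebra.FiniteType ℤ (Γ(X, U) ⧸ P) _ _ (Ring.toIntAlgebra _) :=
    Algebra.FiniteType.of_surjective (Ideal.Quotient.mk P).toIntAlgHom Ideal.Quotient.mk_surjective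
  obtain ⟨A', π₀, hπ₀, hdiv⟩ := div_model (D := Γ(X, U) ⧸ P) (L := FractionRing (Γ(X, U) ⧸ P)) hc (by rw [← map_natCast (Ideal.Quotient.mk P)]; exact Ideal.Quotient.eq_zero_iff_mem.mpr hcP)
    (fun i => Ideal.Quotient.mk P (x i)) (fun g hg => hx g (by
      rw [← Ideal.Quotient.eq_zero_iff_mem, ← Ideal.mem_bot]
      rwa [show Ideal.Quotient.mk P (MvPolynomial.aeval x g) = MvPolynomial.aeval (fun i => Ideal.Quotient.mk P (x i)) g from
        DFunLike.congr_fun (MvPolynomial.comp_aeval x (Ideal.Quotient.mk P).toIntAlgHom) g])) hr0 hlen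
  set π : Γ(X, U) →+* A' := π₀.comp (Ideal.Quotient.mk P)
  have hπ : Function.Surjective π := hπ₀.comp Ideal.Quotient.mk_surjective
  obtain ⟨J, hJ, hJn⟩ := exists_closed_of_maximal f hU
  let K : Max A' → Max Γ(X, U) := fun m =>
    ⟨m.1.comap π, haveI := m.2; Ideal.comap_isMaximal_of_surjective π hπ⟩
  have hK : Function.Injective K := fun m m' h =>
    Subtype.ext (Ideal.comap_injective_of_surjective π hπ (congrArg Subtype.val h))
  have hKn : ∀ m, nm Γ(X, U) (K m) = nm A' m := fun m => by
    refine Nat.card_congr (Equiv.ofBijective (Ideal.quotientMap m.1 π le_rfl)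
      ⟨Ideal.quotientMap_injective, Ideal.quotientMap_surjective hπ⟩)
  have h1 := hsum.comp_injective (hJ.comp hK)
  simp only [Function.comp_def, hJn, hKn] at h1
  exact hdiv y hy h1

variable [QuasiCompact f]

include f in
theorem abscissa_eq_dim {r : ℕ} (hr : topologicalKrullDim X = r) :
    LSeries.abscissaOfAbsConv (Zeta.arithCoeff X) = (r : ℝ) := by
  classical
  refine le_antisymm (abscissa_le_dim_and_ne_zero f hr.le).1 ?_
  by_contra hlt
  obtain ⟨y, hy1, hy2⟩ := EReal.lt_iff_exists_real_btwn.mp (not_le.mp hlt)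
  have hyr : y < r := EReal.coe_lt_coe_iff.mp hy2
  have hsum := LSeriesSummable_of_abscissaOfAbsConv_lt_re (f := Zeta.arithCoeff X) (s := (y : ℂ)) (by simpa using hy1)
  haveI : ∀ n, Finite {α : Closed X →₀ ℕ // norm' (ptNorm X) α = n} := fun n =>
    finite_fibre (two_le_ptNorm f) (by positivity : (0 : ℝ) < r + 1) (summable_ptNorm f hr.le (lt_add_one _)) n
  haveI := fun n => Fintype.ofFinite {α : Closed X →₀ ℕ // norm' (ptNorm X) α = n}
  have hall : Summable fun α : Closed X →₀ ℕ => (norm' (ptNorm X) α : ℝ) ^ (-y) := by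
    refine (Equiv.sigmaFiberEquiv (norm' (ptNorm X))).summable_iff.mp ?_
    refine (summable_sigma_of_nonneg fun z => Real.rpow_nonneg (Nat.cast_nonneg _) _).mpr ⟨fun n => Summable.of_finite, ?_⟩
    refine hsum.norm.congr fun n => ?_
    simp only [Equiv.sigmaFiberEquiv_apply, Function.comp_apply]
    rw [tsum_congr fun α : {α : Closed X →₀ ℕ // norm' (ptNorm X) α = n} => by rw [α.2], tsum_const, nsmul_eq_mul]
    rcases eq_or_ne n 0 with rfl | hn
    · haveI : IsEmpty {α : Closed X →₀ ℕ // norm' (ptNorm X) α = 0} :=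
        ⟨fun α => (norm'_pos (two_le_ptNorm f) α.1).ne' α.2⟩
      simp
    · rw [LSeries.term_of_ne_zero hn, norm_div, Zeta.arithCoeff, cycleNormCount_eq, Complex.norm_natCast,
        Complex.norm_natCast_cpow_of_pos (Nat.pos_of_ne_zero hn), Complex.ofReal_re, div_eq_mul_inv,
        ← Real.rpow_neg (Nat.cast_nonneg n)]
      rfl
  rcases Nat.eq_zero_or_pos r with rfl | hr0
  · haveI : CompactSpace X := QuasiCompact.compactSpace_of_compactSpace f
    obtain ⟨p, -⟩ := Order.le_krullDim_iff.mp (le_of_eq hr.symm : ((0 : ℕ) : WithBot ℕ∞) ≤ topologicalKrullDim X)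
    obtain ⟨z, hz⟩ := p.head.isIrreducible.nonempty
    haveI : IsJacobsonRing (ULift.{u} ℤ) := isJacobsonRing_ulift
    haveI : JacobsonSpace X := LocallyOfFiniteType.jacobsonSpace f
    obtain ⟨x₀, -, hx₀⟩ := nonempty_inter_closedPoints (X := X) (Z := Set.univ) ⟨z, trivial⟩ isOpen_univ.isLocallyClosed
    have h := (hall.comp_injective (Finsupp.single_injective (⟨x₀, hx₀⟩ : Closed X))).tendsto_atTop_zero
    obtain ⟨m, hm⟩ := (h.eventually (gt_mem_nhds one_pos)).exists
    simp only [Function.comp_apply] at hm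
    have h1 : (1 : ℝ) ≤ (norm' (ptNorm X) (Finsupp.single (⟨x₀, hx₀⟩ : Closed X) m) : ℝ) :=
      by exact_mod_cast norm'_pos (two_le_ptNorm f) _
    exact not_le.mpr hm (Real.one_le_rpow h1 (by simp at hyr; linarith))
  · refine not_summable_ptNorm f hr hr0 hyr ?_
    have := hall.comp_injective (Finsupp.single_left_injective (α := Closed X) (one_ne_zero : (1 : ℕ) ≠ 0))
    simpa [Function.comp_def, norm'] using this

end Groth.L11.Zeta
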