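import Groth.Agent.L22.AffineDim
import Groth.Agent.S9612
import Mathlib.RingTheory.NoetherNormalization
import Mathlib.RingTheory.KrullDimension.Polynomial
import Mathlib.FieldTheory.Finite.Basic
import Mathlib.Algebra.CharP.CharAndCard

/-!
Upper bounds for the number of points of a ring of finite type over `ℤ` with values in finite fields.
-/

set_option autoImplicit false
universe u v

open Polynomial

set_option maxHeartbeats 200000

namespace Groth.L11.Zeta

/-- Homomorphisms are bounded by the values on some elements over which all generators satisfy equations. -/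
theorem card_hom_le {A : Type u} [CommRing A] (F : Type v) [Field F] [Finite F] {K : Ideal A} {s n : ℕ}
    (y : Fin s → A) (a : Fin n → A) (ha : Algebra.adjoin ℤ (Set.range a) = ⊤)
    (G : Fin n → Polynomial (MvPolynomial (Fin s) ℤ))
    (hG : ∀ j, Polynomial.eval₂ (MvPolynomial.aeval y).toRingHom (a j) (G j) ∈ K)
    (N : Fin n → ℤ) (hN : ∀ j, (G j).leadingCoeff = MvPolynomial.C (N j)) (hNF : ∀ j, (N j : F) ≠ 0) :
    Finite {φ : A →+* F // K ≤ RingHom.ker φ} ∧
      Nat.card {φ : A →+* F // K ≤ RingHom.ker φ} ≤ (∏ j, (G j).natDegree) * Nat.card F ^ s := by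
  classical
  haveI := Fintype.ofFinite F
  let P : (Fin s → F) → Fin n → Finset F := fun v j =>
    ((G j).map (MvPolynomial.aeval v).toRingHom).roots.toFinset
  have hne : ∀ v j, (G j).map (MvPolynomial.aeval v).toRingHom ≠ 0 := fun v j h => by
    have := congrArg (fun P : Polynomial F => P.coeff (G j).natDegree) h
    simp only [Polynomial.coeff_map, Polynomial.coeff_zero] at this
    rw [← Polynomial.leadingCoeff, hN] at this
    simp at this
    exact hNF j this
  have hmem : ∀ (φ : {φ : A →+* F // K ≤ RingHom.ker φ}) j, φ.1 (a j) ∈ P (fun i => φ.1 (y i)) j := fun φ j => by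
    simp only [P, Multiset.mem_toFinset, Polynomial.mem_roots (hne _ j), Polynomial.IsRoot.def,
      Polynomial.eval_map]
    have h0 : φ.1 (Polynomial.eval₂ (MvPolynomial.aeval y).toRingHom (a j) (G j)) = 0 := φ.2 (hG j)
    rw [Polynomial.hom_eval₂] at h0
    rw [show (MvPolynomial.aeval fun i => φ.1 (y i)).toRingHom = φ.1.comp (MvPolynomial.aeval y).toRingHom from
      MvPolynomial.ringHom_ext (fun r => by simp) fun i => by simp]
    exact h0
  let e : {φ : A →+* F // K ≤ RingHom.ker φ} → Σ v : Fin s → F, ∀ j, P v j := fun φ =>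
    ⟨fun i => φ.1 (y i), fun j => ⟨φ.1 (a j), hmem φ j⟩⟩
  have he : Function.Injective e := fun φ ψ h => by
    refine Subtype.ext ?_
    have hj : ∀ j, φ.1 (a j) = ψ.1 (a j) := fun j => congrArg (fun z => ((z.2 j : F))) h
    have h2 : φ.1.toIntAlgHom = ψ.1.toIntAlgHom :=
      AlgHom.ext_of_adjoin_eq_top ha (by rintro _ ⟨j, rfl⟩; exact hj j)
    exact congrArg AlgHom.toRingHom h2
  refine ⟨Finite.of_injective e he, (Nat.card_le_card_of_injective e he).trans ?_⟩
  rw [Nat.card_sigma]
  refine (Finset.sum_le_sum fun v _ => (?_ : _ ≤ ∏ j, (G j).natDegree)).trans ?_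
  · rw [Nat.card_pi]
    refine Finset.prod_le_prod' fun j _ => ?_
    rw [Nat.card_eq_finsetCard]
    exact (Multiset.toFinset_card_le _).trans ((Polynomial.card_roots' _).trans Polynomial.natDegree_map_le)
  · rw [Finset.sum_const, Finset.card_univ, Fintype.card_fun, Fintype.card_fin, smul_eq_mul, mul_comm,
      Nat.card_eq_fintype_card]

/-- The bound given by a Noether normalisation of a fibre over a prime field. -/
theorem card_hom_le_fibre {A : Type u} [CommRing A] [Algebra.FiniteType ℤ A] (k : Type) [Field k]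
    (hk : ∀ c : k, ∃ a N : ℤ, (N : k) ≠ 0 ∧ (a : k) = N * c) {B : Type u} [CommRing B] [Nontrivial B] [Algebra k B]
    [Algebra.FiniteType k B] (π : A →+* B) (hπ : ∀ b : B, ∃ (a : A) (N : ℤ), (N : k) ≠ 0 ∧ π a = N * b)
    (K : Ideal A) (hK : ∀ a, π a = 0 → ∃ N : ℤ, (N : k) ≠ 0 ∧ (N : A) * a ∈ K) :
    ∃ (s : ℕ) (c : ℕ) (N : ℤ), (s : WithBot ℕ∞) ≤ ringKrullDim B ∧ (N : k) ≠ 0 ∧
      ∀ (F : Type v) [Field F] [Finite F], (N : F) ≠ 0 →
        Finite {φ : A →+* F // K ≤ RingHom.ker φ} ∧
          Nat.card {φ : A →+* F // K ≤ RingHom.ker φ} ≤ c * Nat.card F ^ s := by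
  classical
  obtain ⟨s, g, hinj, hfin⟩ := exists_finite_inj_algHom_of_fg k B
  have hdim : (s : WithBot ℕ∞) ≤ ringKrullDim B := by
    letI := g.toRingHom.toAlgebra
    haveI : Module.Finite (MvPolynomial (Fin s) k) B := hfin
    rw [Groth.L22.AffineDim.ringKrullDim_eq_of_isIntegral (R := MvPolynomial (Fin s) k) (S := B) hinj,
      MvPolynomial.ringKrullDim_of_isNoetherianRing]
    simp
  choose y Ny hNy hy using fun i : Fin s => hπ (g (MvPolynomial.X i))
  have hkB : ∀ N : ℤ, algebraMap k B (N : k) = (N : B) := fun N => map_intCast _ N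
  -- integrality over the subring generated by the `π (y i)`
  let g' : MvPolynomial (Fin s) k →ₐ[k] B := MvPolynomial.aeval fun i => π (y i)
  have hint : ∀ b : B, g'.toRingHom.IsIntegralElem b := fun b => by
    obtain ⟨P, hP, hPb⟩ := RingHom.Finite.to_isIntegral hfin b
    let σ : MvPolynomial (Fin s) k →ₐ[k] MvPolynomial (Fin s) k :=
      MvPolynomial.aeval fun i => MvPolynomial.C (Ny i : k)⁻¹ * MvPolynomial.X i
    refine ⟨P.map σ.toRingHom, hP.map _, ?_⟩
    rw [Polynomial.eval₂_map]
    have : g'.comp σ = g := MvPolynomial.algHom_ext fun i => by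
      simp only [AlgHom.comp_apply, σ, g', MvPolynomial.aeval_X, map_mul, MvPolynomial.aeval_C, hy]
      rw [← hkB, ← mul_assoc, ← map_mul, inv_mul_cancel₀ (hNy i), map_one, one_mul]
    change Polynomial.eval₂ (g'.comp σ).toRingHom b P = 0
    rw [this]; exact hPb
  -- integral lifts of polynomials
  let ι : MvPolynomial (Fin s) ℤ →+* MvPolynomial (Fin s) k := MvPolynomial.map (Int.castRingHom k)
  have hclear : ∀ P : MvPolynomial (Fin s) k, ∃ (Q : MvPolynomial (Fin s) ℤ) (N : ℤ), (N : k) ≠ 0 ∧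
      ι Q = (N : MvPolynomial (Fin s) k) * P := fun P => by
    induction P using MvPolynomial.induction_on with
    | C c =>
      obtain ⟨a, N, hN, h⟩ := hk c
      exact ⟨MvPolynomial.C a, N, hN, by
        rw [MvPolynomial.map_C, ← map_intCast (MvPolynomial.C : k →+* MvPolynomial (Fin s) k) N, ← map_mul, ← h]; simp⟩
    | add P P' h h' =>
      obtain ⟨Q, N, hN, hQ⟩ := h
      obtain ⟨Q', N', hN', hQ'⟩ := h'
      refine ⟨MvPolynomial.C N' * Q + MvPolynomial.C N * Q', N * N', by simp [hN, hN'], ?_⟩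
      simp only [map_add, map_mul, hQ, hQ', Int.cast_mul]
      simp [ι]
      ring
    | mul_X P i h =>
      obtain ⟨Q, N, hN, hQ⟩ := h
      exact ⟨Q * MvPolynomial.X i, N, hN, by rw [map_mul, hQ]; simp [ι, mul_assoc]⟩
  obtain ⟨S, hS⟩ := Algebra.FiniteType.out (R := ℤ) (A := A)
  let a : Fin S.card → A := fun j => (S.equivFin.symm j : A)
  have ha : Algebra.adjoin ℤ (Set.range a) = ⊤ := by
    rw [show Set.range a = ↑S by
      ext x; exact ⟨fun ⟨j, hj⟩ => hj ▸ (S.equivFin.symm j).2, fun hx => ⟨S.equivFin ⟨x, hx⟩, by simp [a]⟩⟩]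
    exact hS
  have hrel : ∀ j, ∃ (G : Polynomial (MvPolynomial (Fin s) ℤ)) (N : ℤ), (N : k) ≠ 0 ∧
      Polynomial.eval₂ (MvPolynomial.aeval y).toRingHom (a j) G ∈ K ∧ G.leadingCoeff = MvPolynomial.C N := fun j => by
    obtain ⟨P, hP, hPb⟩ := hint (π (a j))
    choose Q M hM hQ using fun i => hclear (P.coeff i)
    let d := P.natDegree
    let M' : ℤ := ∏ i ∈ Finset.range d, M i
    let G : Polynomial (MvPolynomial (Fin s) ℤ) := Polynomial.C (MvPolynomial.C M') * Polynomial.X ^ d +
      ∑ i ∈ Finset.range d, Polynomial.C (MvPolynomial.C (∏ l ∈ (Finset.range d).erase i, M l) * Q i) * Polynomial.X ^ i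
    have hM' : (M' : k) ≠ 0 := by
      rw [Int.cast_prod, Finset.prod_ne_zero_iff]; exact fun i _ => hM i
    have hGmap : G.map ι = Polynomial.C (M' : MvPolynomial (Fin s) k) * P := by
      have hsum := hP.as_sum
      have h1 : G.map ι = Polynomial.C (M' : MvPolynomial (Fin s) k) * Polynomial.X ^ d +
          ∑ i ∈ Finset.range d, Polynomial.C (M' : MvPolynomial (Fin s) k) * (Polynomial.C (P.coeff i) * Polynomial.X ^ i) := by
        simp only [G, Polynomial.map_add, Polynomial.map_mul, Polynomial.map_C, Polynomial.map_pow, Polynomial.map_X,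
          Polynomial.map_sum, map_mul, hQ]
        congr 1
        · simp [ι]
        · refine Finset.sum_congr rfl fun i hi => ?_
          have hMi : M' = M i * ∏ l ∈ (Finset.range d).erase i, M l := (Finset.mul_prod_erase _ M hi).symm
          have hC : ι (MvPolynomial.C (∏ l ∈ (Finset.range d).erase i, M l)) =
              ((∏ l ∈ (Finset.range d).erase i, M l : ℤ) : MvPolynomial (Fin s) k) := by simp [ι]
          rw [hC, hMi, Int.cast_mul, map_mul]
          ring
      rw [h1, ← Finset.mul_sum, ← mul_add, ← hsum]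
    have h0 : π (Polynomial.eval₂ (MvPolynomial.aeval y).toRingHom (a j) G) = 0 := by
      rw [Polynomial.hom_eval₂, show π.comp (MvPolynomial.aeval y).toRingHom = g'.toRingHom.comp ι from
        MvPolynomial.ringHom_ext (fun r => by simp [ι, g']) fun i => by simp [ι, g'],
        ← Polynomial.eval₂_map, hGmap, Polynomial.eval₂_mul, hPb, mul_zero]
    obtain ⟨N', hN', hKmem⟩ := hK _ h0
    refine ⟨Polynomial.C (MvPolynomial.C N') * G, N' * M', by simp [hN', hM'], ?_, ?_⟩
    · rw [Polynomial.eval₂_mul, Polynomial.eval₂_C]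
      simpa using hKmem
    · have hN'0 : N' ≠ 0 := fun h => hN' (by simp [h])
      have hM'0 : M' ≠ 0 := fun h => hM' (by simp [h])
      rw [Polynomial.leadingCoeff_mul, Polynomial.leadingCoeff_C, map_mul]
      congr 1
      have hlt : (∑ i ∈ Finset.range d, Polynomial.C (MvPolynomial.C (∏ l ∈ (Finset.range d).erase i, M l) * Q i) *
          Polynomial.X ^ i).degree < (d : WithBot ℕ) := by
        refine (Polynomial.degree_sum_le _ _).trans_lt ((Finset.sup_lt_iff (WithBot.bot_lt_coe d)).mpr fun i hi => ?_)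
        exact (Polynomial.degree_C_mul_X_pow_le i _).trans_lt (WithBot.coe_lt_coe.mpr (Finset.mem_range.mp hi))
      rw [Polynomial.leadingCoeff_add_of_degree_lt']
      · exact Polynomial.leadingCoeff_C_mul_X_pow _ _
      · rw [Polynomial.degree_C_mul_X_pow _ (by simpa using hM'0)]
        exact hlt
  choose G N hN hG hlc using hrel
  refine ⟨s, ∏ j, (G j).natDegree, ∏ j, N j, hdim, ?_, fun F _ _ hNF => ?_⟩
  · rw [Int.cast_prod, Finset.prod_ne_zero_iff]; exact fun j _ => hN j
  · exact card_hom_le F y a ha G hG N hlc fun j => by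
      rw [Int.cast_prod, Finset.prod_ne_zero_iff] at hNF; exact hNF j (Finset.mem_univ j)

/-- The dimension of the generic fibre is smaller than the dimension of a ring of finite type over `ℤ`. -/
theorem ringKrullDim_generic_add_one_le {A B : Type u} [CommRing A] [Algebra.FiniteType ℤ A] [CommRing B]
    [Algebra A B] {M : Submonoid A} [IsLocalization M B] (hM : ∀ N : ℤ, N ≠ 0 → IsUnit ((N : B)))
    {s r : ℕ} (hs : (s : WithBot ℕ∞) ≤ ringKrullDim B) (hr : ringKrullDim A ≤ r) : s + 1 ≤ r := by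
  haveI : IsJacobsonRing A := Groth.Agent.S9612.result
  obtain ⟨l, hl⟩ := Order.le_krullDim_iff.mp hs
  let l' : LTSeries (PrimeSpectrum A) := l.map (fun P => PrimeSpectrum.comap (algebraMap A B) P)
    fun P Q h => by
      refine lt_of_le_of_ne (Ideal.comap_mono h.le) fun he => h.ne ?_
      exact PrimeSpectrum.localization_comap_injective B M he
  haveI := l'.last.2
  obtain ⟨m, hm, hle⟩ := l'.last.asIdeal.exists_le_maximal l'.last.2.ne_top
  have hne : l'.last.asIdeal ≠ m := fun h => by
    haveI := hm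
    letI := Ideal.Quotient.field m
    haveI : IsJacobsonRing ℤ := by
      haveI : Algebra.FiniteType ℤ ℤ := inferInstance
      exact Groth.Agent.S9612.result
    haveI : Algebra.FiniteType ℤ (A ⧸ m) :=
      Algebra.FiniteType.of_surjective (Ideal.Quotient.mkₐ ℤ m) Ideal.Quotient.mk_surjective
    haveI := finite_of_finite_type_of_isJacobsonRing ℤ (A ⧸ m)
    by_cases hinj : Function.Injective (algebraMap ℤ (A ⧸ m))
    · exact Int.not_isField (isField_of_isIntegral_of_isField hinj (Field.toIsField (A ⧸ m)))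
    · rw [injective_iff_map_eq_zero] at hinj
      push Not at hinj
      obtain ⟨N, hN, hN0⟩ := hinj
      have hmem : (N : A) ∈ m := Ideal.Quotient.eq_zero_iff_mem.mp (by simpa using hN)
      rw [← h] at hmem
      have hlast : l'.last = PrimeSpectrum.comap (algebraMap A B) l.last := LTSeries.last_map ..
      rw [hlast] at hmem
      haveI := l.last.2
      exact l.last.2.ne_top (Ideal.eq_top_of_isUnit_mem _ (by simpa using hmem) (hM N hN0))
  let l'' := l'.snoc ⟨m, hm.isPrime⟩
    (lt_of_le_of_ne (show l'.last ≤ ⟨m, hm.isPrime⟩ from hle) fun h => hne (congrArg PrimeSpectrum.asIdeal h))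
  have h2 : (l''.length : WithBot ℕ∞) ≤ ringKrullDim A := Order.LTSeries.length_le_krullDim l''
  have h3 : l''.length = s + 1 := by simp [l'', l', hl]
  rw [h3] at h2
  exact_mod_cast h2.trans hr

/-- Points of an affine scheme of finite type over `ℤ` and of dimension at most `r`. -/
theorem exists_card_hom_le {A : Type u} [CommRing A] [Algebra.FiniteType ℤ A] {r : ℕ} (hr : ringKrullDim A ≤ r) :
    ∃ c p₀ : ℕ, ∀ (p : ℕ), p.Prime → ∀ (F : Type v) [Field F] [Finite F] [CharP F p],
      Finite (A →+* F) ∧ Nat.card (A →+* F) ≤ c * Nat.card F ^ r ∧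
        (p₀ ≤ p → Nat.card (A →+* F) * Nat.card F ≤ c * Nat.card F ^ r) := by
  classical
  -- the generic fibre
  have hgen : ∃ c p₀ : ℕ, ∀ p : ℕ, p.Prime → p₀ ≤ p → ∀ (F : Type v) [Field F] [Finite F] [CharP F p],
      Finite (A →+* F) ∧ Nat.card (A →+* F) * Nat.card F ≤ c * Nat.card F ^ r := by
    let M : Submonoid A := Algebra.algebraMapSubmonoid A (nonZeroDivisors ℤ)
    let B := Localization M
    have hu : ∀ N : ℤ, N ≠ 0 → IsUnit ((N : B)) := fun N hN => by
      simpa using IsLocalization.map_units B (⟨algebraMap ℤ A N, N, mem_nonZeroDivisors_of_ne_zero hN, rfl⟩ : M)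
    have hMint : ∀ m : M, ∃ N : ℤ, N ≠ 0 ∧ (m : A) = (N : A) := fun m => by
      obtain ⟨N, hN, hm⟩ := m.2
      exact ⟨N, nonZeroDivisors.ne_zero hN, by rw [← hm]; simp⟩
    by_cases hB : Nontrivial B
    · letI : Algebra ℚ B := (IsLocalization.lift (R := ℤ) (M := nonZeroDivisors ℤ) (S := ℚ) (g := Int.castRingHom B)
        (fun y => by simpa using hu y (nonZeroDivisors.ne_zero y.2))).toAlgebra
      have hk : ∀ c : ℚ, ∃ a N : ℤ, (N : ℚ) ≠ 0 ∧ (a : ℚ) = N * c := fun c =>
        ⟨c.num, c.den, by simp, by rw [mul_comm]; exact_mod_cast (Rat.mul_den_eq_num c).symm⟩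
      have hπ : ∀ b : B, ∃ (a : A) (N : ℤ), (N : ℚ) ≠ 0 ∧ algebraMap A B a = N * b := fun b => by
        obtain ⟨a, m, rfl⟩ := IsLocalization.exists_mk'_eq M b
        obtain ⟨N, hN, hm⟩ := hMint m
        refine ⟨a, N, Int.cast_ne_zero.mpr hN, ?_⟩
        rw [← IsLocalization.mk'_spec B a m, hm, map_intCast, mul_comm]
      haveI : Algebra.FiniteType ℚ B := by
        obtain ⟨S, hS⟩ := Algebra.FiniteType.out (R := ℤ) (A := A)
        refine ⟨⟨S.image (algebraMap A B), eq_top_iff.mpr fun b _ => ?_⟩⟩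
        obtain ⟨a, N, hN, ha⟩ := hπ b
        have h1 : algebraMap A B a ∈ Algebra.adjoin ℚ (↑(S.image (algebraMap A B)) : Set B) := by
          clear ha
          have ha' : a ∈ Algebra.adjoin ℤ (S : Set A) := hS ▸ Algebra.mem_top
          induction ha' using Algebra.adjoin_induction with
          | mem x hx => exact Algebra.subset_adjoin (by simpa using ⟨x, hx, rfl⟩)
          | algebraMap n => simpa using intCast_mem _ n
          | add x y _ _ hx hy => rw [map_add]; exact add_mem hx hy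
          | mul x y _ _ hx hy => rw [map_mul]; exact mul_mem hx hy
        have h2 : b = algebraMap ℚ B (N : ℚ)⁻¹ * algebraMap A B a := by
          rw [ha, ← map_intCast (algebraMap ℚ B), ← mul_assoc, ← map_mul, inv_mul_cancel₀ hN, map_one, one_mul]
        rw [h2]
        exact mul_mem (Subalgebra.algebraMap_mem _ _) h1
      have hK : ∀ a, algebraMap A B a = 0 → ∃ N : ℤ, (N : ℚ) ≠ 0 ∧ (N : A) * a ∈ (⊥ : Ideal A) := fun a ha => by
        obtain ⟨m, hm⟩ := (IsLocalization.map_eq_zero_iff M B a).mp ha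
        obtain ⟨N, hN, hmN⟩ := hMint m
        exact ⟨N, Int.cast_ne_zero.mpr hN, by rw [← hmN, hm]; exact zero_mem _⟩
      obtain ⟨s, c, N, hs, hN, hF⟩ := card_hom_le_fibre.{u, v} ℚ hk (algebraMap A B) hπ ⊥ hK
      have hsr := ringKrullDim_generic_add_one_le (M := M) hu hs hr
      refine ⟨c, N.natAbs + 1, fun p hp hpN F _ _ _ => ?_⟩
      have hNF : (N : F) ≠ 0 := fun h => by
        rw [CharP.intCast_eq_zero_iff F p, Int.natCast_dvd] at h
        have := Nat.le_of_dvd (Int.natAbs_pos.mpr fun h0 => hN (by simp [h0])) h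
        omega
      obtain ⟨h1, h2⟩ := hF F hNF
      have e : {φ : A →+* F // ⊥ ≤ RingHom.ker φ} ≃ (A →+* F) := Equiv.subtypeUnivEquiv fun _ => bot_le
      haveI := h1
      refine ⟨Finite.of_equiv _ e, ?_⟩
      rw [← Nat.card_congr e]
      calc _ ≤ c * Nat.card F ^ s * Nat.card F := Nat.mul_le_mul_right _ h2
        _ = c * Nat.card F ^ (s + 1) := by rw [mul_assoc, pow_succ]
        _ ≤ c * Nat.card F ^ r := Nat.mul_le_mul_left _ (Nat.pow_le_pow_right Nat.card_pos hsr)
    · rw [not_nontrivial_iff_subsingleton] at hB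
      obtain ⟨m, hm⟩ := (IsLocalization.map_eq_zero_iff M B (1 : A)).mp (Subsingleton.elim _ _)
      obtain ⟨N, hN, hmN⟩ := hMint m
      refine ⟨0, N.natAbs + 1, fun p hp hpN F _ _ _ => ?_⟩
      haveI : IsEmpty (A →+* F) := ⟨fun φ => by
        have h0 := congrArg φ hm
        rw [mul_one, hmN, map_intCast, map_zero, CharP.intCast_eq_zero_iff F p, Int.natCast_dvd] at h0
        have := Nat.le_of_dvd (Int.natAbs_pos.mpr hN) h0
        omega⟩
      simp [Finite.of_subsingleton]
  -- the special fibres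
  have hsp : ∀ p : ℕ, p.Prime → ∃ c : ℕ, ∀ (F : Type v) [Field F] [Finite F] [CharP F p],
      Finite (A →+* F) ∧ Nat.card (A →+* F) ≤ c * Nat.card F ^ r := fun p hp => by
    haveI := Fact.mk hp
    set I : Ideal A := Ideal.span {(p : A)}
    have hker : ∀ (F : Type v) [Field F] [CharP F p] (φ : A →+* F), I ≤ RingHom.ker φ := fun F _ _ φ => by
      rw [Ideal.span_le, Set.singleton_subset_iff]; simp
    by_cases hI : I = ⊤
    · refine ⟨0, fun F _ _ _ => ?_⟩
      haveI : IsEmpty (A →+* F) := ⟨fun φ => RingHom.ker_ne_top φ (eq_top_iff.mpr (hI ▸ hker F φ))⟩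
      simp [Finite.of_subsingleton]
    · haveI : Nontrivial (A ⧸ I) := Ideal.Quotient.nontrivial_iff.mpr hI
      haveI : CharP (A ⧸ I) p := (CharP.charP_iff_prime_eq_zero hp).2 (by
        rw [← map_natCast (Ideal.Quotient.mk I)]
        exact Ideal.Quotient.eq_zero_iff_mem.mpr (Ideal.subset_span rfl))
      letI : Algebra (ZMod p) (A ⧸ I) := (ZMod.castHom dvd_rfl (A ⧸ I)).toAlgebra
      haveI : IsScalarTower ℤ (ZMod p) (A ⧸ I) := IsScalarTower.of_algebraMap_eq fun _ => by simp
      haveI : Algebra.FiniteType ℤ (A ⧸ I) :=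
        Algebra.FiniteType.of_surjective (Ideal.Quotient.mkₐ ℤ I) Ideal.Quotient.mk_surjective
      haveI : Algebra.FiniteType (ZMod p) (A ⧸ I) := Algebra.FiniteType.of_restrictScalars_finiteType ℤ (ZMod p) _
      have hπ : ∀ b : A ⧸ I, ∃ (a : A) (N : ℤ), (N : ZMod p) ≠ 0 ∧ Ideal.Quotient.mk I a = N * b := fun b => by
        obtain ⟨a, rfl⟩ := Ideal.Quotient.mk_surjective b
        exact ⟨a, 1, by simp, by simp⟩
      have hk : ∀ c : ZMod p, ∃ a N : ℤ, (N : ZMod p) ≠ 0 ∧ (a : ZMod p) = N * c := fun c => by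
        obtain ⟨a, rfl⟩ := ZMod.intCast_surjective c
        exact ⟨a, 1, by simp, by simp⟩
      have hK : ∀ a, Ideal.Quotient.mk I a = 0 → ∃ N : ℤ, (N : ZMod p) ≠ 0 ∧ (N : A) * a ∈ I := fun a ha =>
        ⟨1, by simp, by simpa using Ideal.Quotient.eq_zero_iff_mem.mp ha⟩
      obtain ⟨s, c, N, hs, hN, hF⟩ := card_hom_le_fibre.{u, v} (ZMod p) hk (Ideal.Quotient.mk I) hπ I hK
      refine ⟨c, fun F _ _ _ => ?_⟩
      have hNF : (N : F) ≠ 0 := fun h => by
        rw [CharP.intCast_eq_zero_iff F p] at h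
        exact hN ((CharP.intCast_eq_zero_iff (ZMod p) p N).mpr h)
      obtain ⟨h1, h2⟩ := hF F hNF
      have e : {φ : A →+* F // I ≤ RingHom.ker φ} ≃ (A →+* F) := Equiv.subtypeUnivEquiv fun φ => hker F φ
      haveI := h1
      refine ⟨Finite.of_equiv _ e, ?_⟩
      rw [← Nat.card_congr e]
      refine h2.trans (Nat.mul_le_mul_left _ (Nat.pow_le_pow_right Nat.card_pos ?_))
      have := hs.trans ((ringKrullDim_le_of_surjective _ Ideal.Quotient.mk_surjective).trans hr)
      exact_mod_cast this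
  obtain ⟨c, p₀, hg⟩ := hgen
  choose c' hc' using hsp
  let C := c + ∑ p ∈ Finset.range p₀, if h : p.Prime then c' p h else 0
  refine ⟨C, p₀, fun p hp F _ _ _ => ?_⟩
  by_cases hpp : p₀ ≤ p
  · obtain ⟨h1, h2⟩ := hg p hp hpp F
    refine ⟨h1, ?_, fun _ => h2.trans (Nat.mul_le_mul_right _ (Nat.le_add_right _ _))⟩
    calc Nat.card (A →+* F) ≤ Nat.card (A →+* F) * Nat.card F := Nat.le_mul_of_pos_right _ Nat.card_pos
      _ ≤ _ := h2.trans (Nat.mul_le_mul_right _ (Nat.le_add_right _ _))
  · obtain ⟨h1, h2⟩ := hc' p hp F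
    refine ⟨h1, h2.trans (Nat.mul_le_mul_right _ ?_), fun h => absurd h hpp⟩
    refine le_trans ?_ (Nat.le_add_left _ c)
    have := Finset.single_le_sum (f := fun q => if h : q.Prime then c' q h else 0) (fun _ _ => Nat.zero_le _)
      (Finset.mem_range.mpr (not_le.mp hpp))
    simpa [hp] using this

end Groth.L11.Zeta
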