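import Groth.Agent.L11.Zeta.Family
import Groth.Agent.L11.Zeta.Euler
import Groth.Agent.L11.Zeta.Upper
import Mathlib.FieldTheory.Finite.Extension
import Mathlib.NumberTheory.NumberField.DedekindZeta
import Mathlib.GroupTheory.FiniteAbelian.Basic
import Mathlib.Algebra.Field.ULift

/-!
The sum of `N(m)^(-y)` over the maximal ideals of a finitely generated domain diverges below the dimension.
-/

set_option autoImplicit false
universe u

open Filter Topology

namespace Groth.L11.Zeta

/-- The maximal ideals. -/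
abbrev Max (A : Type u) [CommRing A] : Type u := {m : Ideal A // m.IsMaximal}

/-- The norm of a maximal ideal. -/
noncomputable def nm (A : Type u) [CommRing A] (m : Max A) : ℕ := Nat.card (A ⧸ m.1)

/-- Divergence of `Σ N(m)^(-y)` for `y < d`. -/
def Div (A : Type u) [CommRing A] (d : ℕ) : Prop :=
  ∀ y : ℝ, y < d → ¬ Summable fun m : Max A => (nm A m : ℝ) ^ (-y)

/-- Divergence for all models of a field. -/
def Dense (L : Type u) [Field L] (d : ℕ) : Prop :=
  ∀ A : Subalgebra ℤ L, A.FG → Gen A → Div A d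

section Basic

variable {A : Type u} [CommRing A] [Algebra.FiniteType ℤ A]

theorem finite_quotient (m : Max A) : Finite (A ⧸ m.1) := by
  haveI := m.2
  letI := Ideal.Quotient.field m.1
  haveI : IsJacobsonRing ℤ := Groth.Agent.S9612.result
  haveI : Algebra.FiniteType ℤ (A ⧸ m.1) :=
    Algebra.FiniteType.of_surjective (Ideal.Quotient.mkₐ ℤ m.1) Ideal.Quotient.mk_surjective
  haveI := finite_of_finite_type_of_isJacobsonRing ℤ (A ⧸ m.1)
  refine Module.finite_of_fg_torsion (A ⧸ m.1) fun {z} => ?_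
  by_cases hinj : Function.Injective (algebraMap ℤ (A ⧸ m.1))
  · exact absurd (isField_of_isIntegral_of_isField hinj (Field.toIsField (A ⧸ m.1))) Int.not_isField
  · rw [injective_iff_map_eq_zero] at hinj
    push Not at hinj
    obtain ⟨N, hN, hN0⟩ := hinj
    refine ⟨⟨N, mem_nonZeroDivisors_of_ne_zero hN0⟩, ?_⟩
    change N • z = 0
    rw [Algebra.smul_def, hN, zero_mul]

theorem two_le_nm (m : Max A) : 2 ≤ nm A m := by
  haveI := finite_quotient m
  haveI := Ideal.Quotient.nontrivial_iff.mpr m.2.ne_top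
  exact Finite.one_lt_card

theorem finite_hom (F : Type*) [CommRing F] [Finite F] : Finite (A →+* F) := by
  obtain ⟨S, hS⟩ := Algebra.FiniteType.out (R := ℤ) (A := A)
  refine Finite.of_injective (fun φ : A →+* F => fun s : S => φ s) fun φ ψ h => ?_
  have h2 : φ.toIntAlgHom = ψ.toIntAlgHom :=
    AlgHom.ext_of_adjoin_eq_top hS fun s hs => congrFun h ⟨s, hs⟩
  exact congrArg AlgHom.toRingHom h2

theorem finite_nm_eq (n : ℕ) : {m : Max A | nm A m = n}.Finite := by
  rcases Set.eq_empty_or_nonempty {m : Max A | nm A m = n} with h | ⟨m₀, hm₀⟩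
  · rw [h]; exact Set.finite_empty
  haveI := finite_quotient m₀
  haveI := m₀.2
  letI := Ideal.Quotient.field m₀.1
  haveI := Fintype.ofFinite (A ⧸ m₀.1)
  haveI := finite_hom (A := A) (A ⧸ m₀.1)
  have hex : ∀ m : {m : Max A | nm A m = n}, ∃ φ : A →+* A ⧸ m₀.1, RingHom.ker φ = m.1.1 := fun m => by
    haveI := finite_quotient m.1
    haveI := m.1.2
    letI := Ideal.Quotient.field m.1.1
    haveI := Fintype.ofFinite (A ⧸ m.1.1)
    have h : Fintype.card (A ⧸ m.1.1) = Fintype.card (A ⧸ m₀.1) := by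
      rw [← Nat.card_eq_fintype_card, ← Nat.card_eq_fintype_card]
      exact m.2.trans hm₀.symm
    refine ⟨(FiniteField.ringEquivOfCardEq h).toRingHom.comp (Ideal.Quotient.mk m.1.1), ?_⟩
    ext a
    simp [RingHom.mem_ker, Ideal.Quotient.eq_zero_iff_mem]
  choose φ hφ using hex
  exact Set.finite_coe_iff.mp (Finite.of_injective φ fun m m' h =>
    Subtype.ext (Subtype.ext (by rw [← hφ m, ← hφ m', h])))

theorem finite_nm_le (n : ℕ) : {m : Max A | nm A m ≤ n}.Finite := by
  refine ((Finset.range (n + 1)).finite_toSet.biUnion fun i _ => finite_nm_eq (A := A) i).subset fun m hm => ?_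
  exact Set.mem_biUnion (Finset.mem_coe.mpr (Finset.mem_range.mpr (Nat.lt_succ_of_le hm))) rfl

end Basic

/-- Points of `A` over points of `B` give distinct maximal ideals with the same norm. -/
theorem injective_family {A : Type u} [CommRing A] {B : Type u} [CommRing B] [Algebra.FiniteType ℤ B]
    (S : Finset B) (a : B → A) (w ax : A)
    (hT : ∀ (F : Type u) [Field F] [Finite F] (φ : B →+* F) (T : Subring F), (∀ b ∈ S, φ b ∈ T) → ∀ b, φ b ∈ T)
    (hext : ∀ (F : Type u) [Field F] (φ φ' : B →+* F), (∀ b ∈ S, φ b = φ' b) → φ = φ')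
    {ι : Type u} (mB : ι → Max B) (x0 : (z : ι) → B ⧸ (mB z).1)
    (hinj : Function.Injective fun z => (⟨mB z, x0 z⟩ : Σ m : Max B, B ⧸ m.1))
    (hψ : ∀ z, ∃ ψ : A →+* B ⧸ (mB z).1, ψ w ≠ 0 ∧ ψ ax = x0 z * ψ w ∧
      ∀ b ∈ S, ψ (a b) = Ideal.Quotient.mk (mB z).1 b * ψ w) :
    ∃ J : ι → Max A, Function.Injective J ∧ ∀ z, nm A (J z) = nm B (mB z) := by
  classical
  choose ψ hw hx ha using hψ
  have hsurj : ∀ z, Function.Surjective (ψ z) := fun z => by
    haveI := (mB z).2
    letI := Ideal.Quotient.field (mB z).1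
    haveI := finite_quotient (mB z)
    haveI := Fintype.ofFinite (B ⧸ (mB z).1)
    have hinv : ∀ t ∈ (ψ z).range, t⁻¹ ∈ (ψ z).range := fun t ht => by
      by_cases h0 : t = 0
      · subst h0; simpa using ht
      · have : t⁻¹ = t ^ (Fintype.card (B ⧸ (mB z).1) - 2) := by
          refine mul_left_cancel₀ h0 ?_
          rw [mul_inv_cancel₀ h0, ← pow_succ', show Fintype.card (B ⧸ (mB z).1) - 2 + 1 = Fintype.card (B ⧸ (mB z).1) - 1 by
            have := Fintype.one_lt_card (α := B ⧸ (mB z).1); omega, FiniteField.pow_card_sub_one_eq_one _ h0]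
        rw [this]; exact Subring.pow_mem _ ht _
    intro t
    obtain ⟨b, rfl⟩ := Ideal.Quotient.mk_surjective t
    refine RingHom.mem_range.mp (hT _ (Ideal.Quotient.mk _) (ψ z).range (fun b hb => ?_) b)
    have h1 : Ideal.Quotient.mk (mB z).1 b = ψ z (a b) * (ψ z w)⁻¹ := by
      rw [ha z b hb, mul_assoc, mul_inv_cancel₀ (hw z), mul_one]
    rw [h1]
    exact Subring.mul_mem _ ⟨a b, rfl⟩ (hinv _ ⟨w, rfl⟩)
  let J : ι → Max A := fun z => ⟨RingHom.ker (ψ z),
    haveI := (mB z).2
    letI := Ideal.Quotient.field (mB z).1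
    RingHom.ker_isMaximal_of_surjective (ψ z) (hsurj z)⟩
  refine ⟨J, fun z z' h => hinj ?_, fun z => Nat.card_congr (RingHom.quotientKerEquivOfSurjective (hsurj z)).toEquiv⟩
  have hk : RingHom.ker (ψ z) = RingHom.ker (ψ z') := congrArg Subtype.val h
  let e : B ⧸ (mB z).1 ≃+* B ⧸ (mB z').1 := ((RingHom.quotientKerEquivOfSurjective (hsurj z)).symm.trans
    (Ideal.quotEquivOfEq hk)).trans (RingHom.quotientKerEquivOfSurjective (hsurj z'))
  have he : ∀ t, e (ψ z t) = ψ z' t := fun t => by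
    have : (RingHom.quotientKerEquivOfSurjective (hsurj z)).symm (ψ z t) = Ideal.Quotient.mk _ t := by
      rw [RingEquiv.symm_apply_eq]; rfl
    simp only [e, RingEquiv.trans_apply, this]
    rfl
  haveI := (mB z').2
  letI := Ideal.Quotient.field (mB z').1
  have hφ : e.toRingHom.comp (Ideal.Quotient.mk (mB z).1) = Ideal.Quotient.mk (mB z').1 :=
    hext _ _ _ fun b hb => mul_right_cancel₀ (hw z') (by
      change e (Ideal.Quotient.mk _ b) * _ = _
      conv_lhs => rw [← he w, ← map_mul, ← ha z b hb, he]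
      exact ha z' b hb)
  have hm : mB z = mB z' := by
    refine Subtype.ext ?_
    ext b
    rw [← Ideal.Quotient.eq_zero_iff_mem, ← Ideal.Quotient.eq_zero_iff_mem, ← hφ]
    simp
  have hex : e (x0 z) = x0 z' := mul_right_cancel₀ (hw z') (by
    conv_lhs => rw [← he w, ← map_mul, ← hx z, he]
    exact hx z')
  obtain ⟨b, hb⟩ := Ideal.Quotient.mk_surjective (x0 z)
  rw [← hb, show e (Ideal.Quotient.mk _ b) = Ideal.Quotient.mk _ b from RingHom.congr_fun hφ b] at hex
  have key : ∀ (m : Max B) (_ : mB z = m) (x : B ⧸ m.1), Ideal.Quotient.mk m.1 b = x →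
      (⟨mB z, x0 z⟩ : Σ m : Max B, B ⧸ m.1) = ⟨m, x⟩ := by
    rintro m rfl x rfl
    rw [hb]
  exact key _ hm _ hex

section Step

variable {K₀ : Type u} [Field K₀] {L : Type u} [Field L] [Algebra (RatFunc K₀) L] [Algebra K₀ L]
  [IsScalarTower K₀ (RatFunc K₀) L] [FiniteDimensional (RatFunc K₀) L] [Algebra.IsSeparable (RatFunc K₀) L]
  (hclosed : ∀ z : L, IsIntegral K₀ z → z ∈ Set.range (algebraMap K₀ L))
  (hmodel : ∃ B₀ : Subalgebra ℤ K₀, B₀.FG ∧ Gen B₀)

include hclosed hmodel in
/-- Fibring in curves. -/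
theorem dense_step {d : ℕ} (hd : Dense K₀ d) : Dense L (d + 1) := by
  classical
  intro A hA hgen y hy hsum
  obtain ⟨B₀, hB₀, hgen₀⟩ := hmodel
  obtain ⟨Bf, hBf, hgenf, S, a, u, ax, C, Q₀, hT, hext, hpts⟩ := exists_family hclosed B₀ hB₀ hgen₀ A hA hgen
  haveI : Algebra.FiniteType ℤ Bf := (Subalgebra.fg_iff_finiteType _).mp hBf
  let big : Set (Max Bf) := {m | Q₀ < nm Bf m}
  have hbig : ∀ m : big, ∃ G : Finset (Bf ⧸ m.1.1), nm Bf m.1 ≤ C * G.card ∧ ∀ x0 ∈ G, ∃ ψ : A →+* Bf ⧸ m.1.1,
      ψ u ≠ 0 ∧ ψ ax = x0 * ψ u ∧ ∀ b ∈ S, ψ (a b) = Ideal.Quotient.mk m.1.1 b * ψ u := fun m => by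
    haveI := m.1.2
    letI := Ideal.Quotient.field m.1.1
    haveI := finite_quotient m.1
    exact hpts _ (Ideal.Quotient.mk m.1.1) m.2.le
  choose G hG hψ using hbig
  obtain ⟨J, hJ, hJn⟩ := injective_family S a u ax hT hext
    (ι := Σ m : big, {x // x ∈ G m}) (fun z => z.1.1) (fun z => z.2.1)
    (fun z z' h => by
      obtain ⟨⟨m, hm⟩, x, hx⟩ := z
      obtain ⟨⟨m', hm'⟩, x', hx'⟩ := z'
      simp only [Sigma.mk.inj_iff] at h
      obtain ⟨rfl, h⟩ := h
      cases eq_of_heq h
      rfl)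
    (fun z => hψ z.1 z.2.1 z.2.2)
  have h1 := hsum.comp_injective hJ
  simp only [Function.comp_def, hJn] at h1
  have h2 := h1.sigma
  simp only [tsum_fintype, Finset.sum_const, Finset.card_univ, Fintype.card_coe, nsmul_eq_mul] at h2
  have h3 : Summable fun m : big => (nm Bf m.1 : ℝ) ^ (-(y - 1)) := by
    refine Summable.of_nonneg_of_le (fun m => by positivity) (fun m => ?_) (h2.mul_left (C : ℝ))
    have hpos : (0 : ℝ) < nm Bf m.1 := by exact_mod_cast (two_le_nm m.1).trans_lt' two_pos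
    rw [← mul_assoc, show -(y - 1) = 1 + -y by ring, Real.rpow_add hpos, Real.rpow_one]
    exact mul_le_mul_of_nonneg_right (by exact_mod_cast hG m) (by positivity)
  have h4 : Summable fun m : Max Bf => (nm Bf m : ℝ) ^ (-(y - 1)) := by
    refine (Set.Finite.summable_compl_iff (s := {m : Max Bf | nm Bf m ≤ Q₀}) (finite_nm_le Q₀)).mp ?_
    refine (Equiv.summable_iff (Equiv.subtypeEquivRight fun m => ?_)).mp h3
    simp [big]
  exact hd Bf hBf hgenf (y - 1) (by push_cast at hy; linarith) h4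

include hclosed hmodel in
/-- Curves over a finite field. -/
theorem dense_curve [Finite K₀] : Dense L 1 := by
  classical
  intro A hA hgen y hy hsum
  obtain ⟨B₀, hB₀, hgen₀⟩ := hmodel
  obtain ⟨Bf, -, -, S, a, u, ax, C, Q₀, -, -, hpts⟩ := exists_family hclosed B₀ hB₀ hgen₀ A hA hgen
  haveI : Algebra.FiniteType ℤ A := (Subalgebra.fg_iff_finiteType _).mp hA
  set y' := max y 0 with hy'
  have hy'1 : y' < 1 := max_lt (by simpa using hy) one_pos
  have hsum' : Summable fun m : Max A => (nm A m : ℝ) ^ (-y') :=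
    Summable.of_nonneg_of_le (fun m => by positivity) (fun m => Real.rpow_le_rpow_of_exponent_le
      (by exact_mod_cast (two_le_nm m).trans' one_le_two) (by have := le_max_left y 0; linarith)) hsum
  set T := ∑' m : Max A, (nm A m : ℝ) ^ (-y')
  haveI := Fintype.ofFinite K₀
  obtain ⟨p, hp⟩ := CharP.exists K₀
  haveI := hp
  obtain ⟨f0, hprime, hcard⟩ := FiniteField.card K₀ p
  haveI := Fact.mk hprime
  set q : ℝ := (Nat.card K₀ : ℝ) with hqdef
  have hq1 : 1 < q := by rw [hqdef]; exact_mod_cast Finite.one_lt_card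
  have hmain : ∀ n : ℕ, 0 < n → Q₀ ≤ Nat.card K₀ ^ n → q ^ n ≤ (C * (n * f0) : ℕ) * ((q ^ n) ^ y' * T) := by
    intro n hn hQ
    haveI : NeZero n := ⟨hn.ne'⟩
    let F := ULift.{u} (FiniteField.Extension K₀ p n)
    letI : Algebra (ZMod p) K₀ := ZMod.algebra K₀ p
    haveI : Finite (FiniteField.Extension K₀ p n) := Module.finite_of_finite K₀
    haveI : Finite F := Finite.of_equiv _ Equiv.ulift.symm
    let φ : Bf →+* F := ((ULift.ringEquiv (R := FiniteField.Extension K₀ p n)).symm.toRingHom.comp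
      (algebraMap K₀ _)).comp Bf.val.toRingHom
    have hFcard : Nat.card F = Nat.card K₀ ^ n :=
      (Nat.card_congr Equiv.ulift).trans (FiniteField.natCard_extension K₀ p n)
    obtain ⟨G, hG, hψ⟩ := hpts F φ (hFcard ▸ hQ)
    choose ψ hw hx ha using hψ
    have hψinj : Function.Injective fun x : G => ψ x.1 x.2 := fun x x' h => by
      refine Subtype.ext (mul_right_cancel₀ (hw x.1 x.2) ?_)
      have h' : ψ x.1 x.2 = ψ x'.1 x'.2 := h
      rw [← hx x.1 x.2]
      conv_rhs => rw [h', ← hx x'.1 x'.2, ← h']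
    haveI := finite_hom (A := A) F
    haveI := Fintype.ofFinite (A →+* F)
    haveI : ∀ φ : A →+* F, (RingHom.ker φ).IsPrime := fun φ => RingHom.ker_isPrime φ
    have hmax : ∀ φ : A →+* F, (RingHom.ker φ).IsMaximal := fun φ => by
      refine Ideal.Quotient.maximal_of_isField _ ?_
      haveI : Finite (A ⧸ RingHom.ker φ) :=
        Finite.of_injective _ (RingHom.kerLift_injective φ)
      exact Finite.isField_of_domain _
    let K : (A →+* F) → Max A := fun φ => ⟨_, hmax φ⟩
    set M := (Finset.univ : Finset (A →+* F)).image K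
    have hfib : ∀ m ∈ M, ((Finset.univ : Finset (A →+* F)).filter fun φ => K φ = m).card ≤ n * f0 := fun m hm => by
      obtain ⟨φ₀, -, rfl⟩ := Finset.mem_image.mp hm
      haveI := (K φ₀).2
      letI := Ideal.Quotient.field (K φ₀).1
      haveI := finite_quotient (K φ₀)
      haveI : CharP (FiniteField.Extension K₀ p n) p := charP_of_injective_algebraMap (algebraMap K₀ _).injective p
      haveI : CharP F p := charP_of_injective_ringHom (ULift.ringEquiv (R := FiniteField.Extension K₀ p n)).symm.toRingHom.injective p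
      haveI : CharP (A ⧸ (K φ₀).1) p := (RingHom.kerLift φ₀).charP (RingHom.kerLift_injective φ₀) p
      letI : Algebra (ZMod p) (A ⧸ (K φ₀).1) := ZMod.algebra _ p
      letI : Algebra (ZMod p) F := ZMod.algebra F p
      let hl : {φ : A →+* F // K φ = K φ₀} → ((A ⧸ (K φ₀).1) →+* F) := fun φ =>
        Ideal.Quotient.lift (K φ₀).1 φ.1 (fun x hx => by
            rw [← congrArg Subtype.val φ.2] at hx; exact hx)
      let lift : {φ : A →+* F // K φ = K φ₀} → ((A ⧸ (K φ₀).1) →ₐ[ZMod p] F) := fun φ =>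
        { hl φ with
          commutes' := fun c => RingHom.congr_fun (Subsingleton.elim
            ((hl φ).comp (algebraMap (ZMod p) _)) (algebraMap (ZMod p) F)) c }
      have hlift : Function.Injective lift := fun φ φ' h => Subtype.ext (RingHom.ext fun x =>
        DFunLike.congr_fun h (Ideal.Quotient.mk _ x))
      haveI : Module.Finite (ZMod p) (A ⧸ (K φ₀).1) := Module.Finite.of_finite
      haveI : Finite ((A ⧸ (K φ₀).1) →ₐ[ZMod p] F) := Finite.of_injective _ DFunLike.coe_injective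
      rw [← Fintype.card_subtype, ← Nat.card_eq_fintype_card]
      refine (Nat.card_le_card_of_injective lift hlift).trans ((card_algHom_le_finrank (ZMod p) (A ⧸ (K φ₀).1) F).trans ?_)
      have h1 : Nat.card (A ⧸ (K φ₀).1) ≤ Nat.card F :=
        Nat.card_le_card_of_injective _ (RingHom.kerLift_injective φ₀)
      rw [Module.natCard_eq_pow_finrank (K := ZMod p), Nat.card_zmod, hFcard, Nat.card_eq_fintype_card, hcard, ← pow_mul,
        mul_comm] at h1
      exact (Nat.pow_le_pow_iff_right hprime.one_lt).mp h1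
    have h5 : G.card ≤ n * f0 * M.card := by
      refine le_trans ?_ (Finset.card_le_mul_card_image (f := K) Finset.univ (n * f0) hfib)
      rw [← Fintype.card_coe G, Finset.card_univ]
      exact Fintype.card_le_of_injective _ hψinj
    have hqn : (0 : ℝ) < q ^ n := pow_pos (zero_lt_one.trans hq1) n
    have h6 : (M.card : ℝ) ≤ (q ^ n) ^ y' * T := by
      have hle : ∀ m ∈ M, ((q ^ n) ^ y')⁻¹ ≤ (nm A m : ℝ) ^ (-y') := fun m hm => by
        obtain ⟨φ₀, -, rfl⟩ := Finset.mem_image.mp hm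
        have h1 : nm A (K φ₀) ≤ Nat.card F := Nat.card_le_card_of_injective _ (RingHom.kerLift_injective φ₀)
        rw [← Real.rpow_neg hqn.le]
        refine Real.rpow_le_rpow_of_nonpos (by exact_mod_cast (two_le_nm (K φ₀)).trans_lt' two_pos) ?_
          (by have := le_max_right y 0; linarith)
        rw [hqdef, ← Nat.cast_pow, ← hFcard]
        exact_mod_cast h1
      have h7 := (Finset.card_nsmul_le_sum M _ _ hle).trans (hsum'.sum_le_tsum M fun m _ => by positivity)
      rw [nsmul_eq_mul, ← div_eq_mul_inv, div_le_iff₀ (by positivity)] at h7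
      linarith
    calc q ^ n = ((Nat.card F : ℕ) : ℝ) := by rw [hFcard, Nat.cast_pow]
      _ ≤ ((C * (n * f0) * M.card : ℕ) : ℝ) := by
          refine Nat.cast_le.mpr (hG.trans ?_)
          rw [mul_assoc]
          exact Nat.mul_le_mul_left _ h5
      _ ≤ _ := by
          rw [Nat.cast_mul]
          exact mul_le_mul_of_nonneg_left h6 (Nat.cast_nonneg _)
  set ρ : ℝ := q ^ (y' - 1) with hρ
  have hρ0 : 0 < ρ := Real.rpow_pos_of_pos (zero_lt_one.trans hq1) _
  have hρ1 : ρ < 1 := Real.rpow_lt_one_of_one_lt_of_neg hq1 (by linarith)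
  have hlim : Tendsto (fun n : ℕ => ((C : ℝ) * f0 * T) * ((n : ℝ) * ρ ^ n)) atTop (𝓝 0) := by
    simpa using (tendsto_self_mul_const_pow_of_lt_one hρ0.le hρ1).const_mul ((C : ℝ) * f0 * T)
  obtain ⟨n, hn, hnQ, hn0⟩ := ((hlim.eventually (gt_mem_nhds one_pos)).and
    ((eventually_ge_atTop Q₀).and (eventually_gt_atTop 0))).exists
  have hm := hmain n hn0 (hnQ.trans (Nat.lt_pow_self Finite.one_lt_card).le)
  have hqn : (0 : ℝ) < q ^ n := pow_pos (zero_lt_one.trans hq1) n
  have hρn : (q ^ n) ^ y' = ρ ^ n * q ^ n := by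
    rw [hρ, ← Real.rpow_natCast (q ^ (y' - 1)), ← Real.rpow_mul (zero_le_one.trans hq1.le), ← Real.rpow_natCast q,
      ← Real.rpow_mul (zero_le_one.trans hq1.le), ← Real.rpow_add (zero_lt_one.trans hq1)]
    congr 1
    ring
  rw [hρn] at hm
  push_cast at hm
  nlinarith

end Step

theorem norm_tsum_le_fibre {α : Type u} (N : α → ℕ) (f : α → ℝ) (hf : Summable f) (g : ℕ → ℂ)
    (h : ∀ n, ‖g n‖ ≤ ∑' a : {a // N a = n}, f a.1) : ‖∑' n, g n‖ ≤ ∑' a, f a := by
  let e := Equiv.sigmaFiberEquiv N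
  have hs : Summable fun z : Σ n, {a // N a = n} => f z.2.1 := e.summable_iff.mpr hf
  refine (tsum_of_norm_bounded hs.sigma.hasSum h).trans_eq ?_
  rw [← hs.tsum_sigma]
  exact e.tsum_eq f

section NumberField

variable (K : Type u) [Field K] [NumberField K]

open NumberField

theorem not_summable_primes {y : ℝ} (hy : y < 1) (S : Set (Max (𝓞 K))) (hS : S.Finite) :
    ¬ Summable fun P : (Sᶜ : Set (Max (𝓞 K))) => (nm (𝓞 K) P.1 : ℝ) ^ (-y) := by
  classical
  intro h
  haveI : Algebra.FiniteType ℤ (𝓞 K) := Module.Finite.finiteType (A := 𝓞 K) (R := ℤ)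
  replace h : Summable fun P : Max (𝓞 K) => (nm (𝓞 K) P : ℝ) ^ (-y) := (Set.Finite.summable_compl_iff hS).mp h
  set y' := max y (1 / 2) with hy'
  have hy'0 : 0 < y' := lt_max_of_lt_right (by norm_num)
  have hy'1 : y' < 1 := max_lt hy (by norm_num)
  have h' : Summable fun P : Max (𝓞 K) => (nm (𝓞 K) P : ℝ) ^ (-y') :=
    Summable.of_nonneg_of_le (fun P => by positivity) (fun P => Real.rpow_le_rpow_of_exponent_le
      (by exact_mod_cast (two_le_nm P).trans' one_le_two) (by have := le_max_left y (1 / 2); linarith)) h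
  -- exponents of the prime factorisation
  let Φ : {I : Ideal (𝓞 K) // I ≠ ⊥} → (Max (𝓞 K) →₀ ℕ) := fun I =>
    Multiset.toFinsupp ((UniqueFactorizationMonoid.normalizedFactors I.1).pmap (fun P hP => ⟨P, hP⟩) fun P hP => by
      have := UniqueFactorizationMonoid.prime_of_normalized_factor P hP
      exact (Ideal.isPrime_of_prime this).isMaximal this.ne_zero)
  have hΦ : ∀ I, (Φ I).toMultiset.map Subtype.val = UniqueFactorizationMonoid.normalizedFactors I.1 := fun I => by
    simp [Φ, Multiset.map_pmap, Multiset.pmap_eq_map]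
  have hΦnorm : ∀ I, norm' (nm (𝓞 K)) (Φ I) = Ideal.absNorm I.1 := fun I => by
    conv_rhs => rw [← associated_iff_eq.mp (UniqueFactorizationMonoid.prod_normalizedFactors I.2), ← hΦ,
      map_multiset_prod, Multiset.map_map]
    rw [Finsupp.toMultiset_map, Finsupp.prod_toMultiset,
      Finsupp.prod_mapDomain_index (fun _ => pow_zero _) fun _ _ _ => pow_add _ _ _]
    rfl
  have hΦinj : Function.Injective Φ := fun I J h => by
    refine Subtype.ext ?_
    rw [← associated_iff_eq.mp (UniqueFactorizationMonoid.prod_normalizedFactors I.2),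
      ← associated_iff_eq.mp (UniqueFactorizationMonoid.prod_normalizedFactors J.2), ← hΦ, ← hΦ, h]
  have hexp := summable_exponents (two_le_nm (A := 𝓞 K)) hy'0 h'
  set E := ∑' α, (norm' (nm (𝓞 K)) α : ℝ) ^ (-y')
  have hI : Summable fun I : {I : Ideal (𝓞 K) // I ≠ ⊥} => (Ideal.absNorm I.1 : ℝ) ^ (-y') := by
    simpa [Function.comp_def, hΦnorm] using hexp.comp_injective hΦinj
  -- the zeta function stays bounded at `1`
  have hbound : ∀ s : ℝ, 1 < s → ‖dedekindZeta K (s : ℂ)‖ ≤ ∑' I : {I : Ideal (𝓞 K) // I ≠ ⊥}, (Ideal.absNorm I.1 : ℝ) ^ (-y') := by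
    intro s hs
    have hle : ∀ n, ‖LSeries.term (fun n => (Nat.card {I : Ideal (𝓞 K) // Ideal.absNorm I = n} : ℂ)) (s : ℂ) n‖ ≤
        ∑' I : {I : {I : Ideal (𝓞 K) // I ≠ ⊥} // Ideal.absNorm I.1 = n}, (Ideal.absNorm I.1.1 : ℝ) ^ (-y') := fun n => by
      rcases eq_or_ne n 0 with rfl | hn
      · simp only [LSeries.term_zero, norm_zero]
        exact tsum_nonneg fun I => by positivity
      rw [tsum_congr fun I : {I : {I : Ideal (𝓞 K) // I ≠ ⊥} // Ideal.absNorm I.1 = n} => by rw [I.2], tsum_const,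
        LSeries.term_of_ne_zero hn, norm_div, Complex.norm_natCast, Complex.norm_natCast_cpow_of_pos (Nat.pos_of_ne_zero hn),
        Complex.ofReal_re, nsmul_eq_mul, div_eq_mul_inv, ← Real.rpow_neg (Nat.cast_nonneg n)]
      refine mul_le_mul ?_ (Real.rpow_le_rpow_of_exponent_le (by exact_mod_cast Nat.pos_of_ne_zero hn) (by linarith))
        (by positivity) (Nat.cast_nonneg _)
      exact Nat.cast_le.mpr (le_of_eq (Nat.card_congr
        { toFun := fun I => ⟨⟨I.1, fun h0 => hn (by rw [← I.2, h0, Ideal.absNorm_bot])⟩, I.2⟩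
          invFun := fun I => ⟨I.1.1, I.2⟩
          left_inv := fun _ => rfl
          right_inv := fun _ => rfl }))
    exact norm_tsum_le_fibre _ _ hI _ hle
  have hlim : Tendsto (fun s : ℝ => (((s - 1 : ℝ) : ℂ)) * dedekindZeta K s) (𝓝[>] 1) (𝓝 0) := by
    refine squeeze_zero_norm' (a := fun s : ℝ => (s - 1) * ∑' I : {I : Ideal (𝓞 K) // I ≠ ⊥}, (Ideal.absNorm I.1 : ℝ) ^ (-y')) ?_ ?_
    · filter_upwards [self_mem_nhdsWithin] with s hs
      rw [norm_mul, Complex.norm_real, Real.norm_of_nonneg (sub_nonneg.mpr (le_of_lt hs))]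
      exact mul_le_mul_of_nonneg_left (hbound s hs) (sub_nonneg.mpr (le_of_lt hs))
    · have : Tendsto (fun s : ℝ => (s - 1) * ∑' I : {I : Ideal (𝓞 K) // I ≠ ⊥}, (Ideal.absNorm I.1 : ℝ) ^ (-y')) (𝓝 1)
          (𝓝 ((1 - 1) * ∑' I : {I : Ideal (𝓞 K) // I ≠ ⊥}, (Ideal.absNorm I.1 : ℝ) ^ (-y'))) :=
        Tendsto.mul_const _ (tendsto_id.sub_const 1)
      rw [sub_self, zero_mul] at this
      exact this.mono_left nhdsWithin_le_nhds
  have hres := tendsto_nhds_unique hlim (by simpa using tendsto_sub_one_mul_dedekindZeta_nhdsGT K)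
  exact dedekindZeta_residue_ne_zero K (by exact_mod_cast hres.symm)

/-- Number fields. -/
theorem dense_numberField : Dense K 1 := by
  classical
  intro A hA hgen y hy hsum
  haveI : Algebra.FiniteType ℤ (𝓞 K) := Module.Finite.finiteType (A := 𝓞 K) (R := ℤ)
  obtain ⟨G, hG⟩ := Algebra.FiniteType.out (R := ℤ) (A := 𝓞 K)
  obtain ⟨SA, hSA⟩ := hA
  choose num hnum den hden hden0 hfrac using hgen
  set u : K := ∏ o ∈ G, den (o : K) with hu
  have huA : u ∈ A := Subalgebra.prod_mem _ fun z _ => hden _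
  have hu0 : u ≠ 0 := Finset.prod_ne_zero_iff.mpr fun z _ => hden0 _
  have hGu : ∀ o ∈ G, (o : K) * u ∈ A := fun o ho => by
    rw [hu, ← Finset.mul_prod_erase G (fun o : 𝓞 K => den (o : K)) ho, ← mul_assoc]
    nth_rewrite 1 [hfrac (o : K)]
    rw [div_mul_cancel₀ _ (hden0 _)]
    exact A.mul_mem (hnum _) (Subalgebra.prod_mem _ fun z _ => hden _)
  obtain ⟨d, hd⟩ := IsLocalization.exist_integer_multiples_of_finset (nonZeroDivisors (𝓞 K)) (insert u⁻¹ SA)
  have hd0 : (d : 𝓞 K) ≠ 0 := nonZeroDivisors.ne_zero d.2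
  choose num' hnum' using hd
  let bad : Set (Max (𝓞 K)) := {P | (d : 𝓞 K) ∈ P.1}
  have hbad : bad.Finite := by
    refine Set.Finite.of_finite_image (f := Subtype.val) ?_ Subtype.val_injective.injOn
    refine (UniqueFactorizationMonoid.fintypeSubtypeDvd (Ideal.span {(d : 𝓞 K)})
      (by simpa [Ideal.span_singleton_eq_bot] using hd0)) |>.finite |> fun h => Set.Finite.subset (Set.finite_coe_iff.mp
        (@Finite.of_fintype _ (UniqueFactorizationMonoid.fintypeSubtypeDvd (Ideal.span {(d : 𝓞 K)})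
          (by simpa [Ideal.span_singleton_eq_bot] using hd0)))) ?_
    rintro _ ⟨P, hP, rfl⟩
    change P.1 ∣ Ideal.span {(d : 𝓞 K)}
    rw [Ideal.dvd_iff_le, Ideal.span_le, Set.singleton_subset_iff]
    exact hP
  let EL : Localization.Away (d : 𝓞 K) →+* K := IsLocalization.Away.lift (S := Localization.Away (d : 𝓞 K)) (d : 𝓞 K) (g := algebraMap (𝓞 K) K)
    (isUnit_iff_ne_zero.mpr ((map_ne_zero_iff _ (RingOfIntegers.coe_injective)).mpr hd0))
  have hEL : ∀ o : 𝓞 K, EL (algebraMap _ _ o) = (o : K) := fun o => IsLocalization.Away.lift_eq _ _ o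
  have hELinj : Function.Injective EL := by
    refine (IsLocalization.lift_injective_iff _).mpr fun p q => ⟨fun h => ?_, fun h => congrArg _ (RingOfIntegers.coe_injective h)⟩
    exact (hEL p).symm.trans ((congrArg EL h).trans (hEL q))
  have hW : ∀ w ∈ insert u⁻¹ SA, w ∈ EL.range := fun w hw => by
    obtain ⟨r, hr⟩ := IsLocalization.Away.algebraMap_isUnit (S := Localization.Away (d : 𝓞 K)) (d : 𝓞 K) |>.exists_left_inv
    refine RingHom.mem_range.mpr ⟨r * algebraMap _ _ (num' w hw), ?_⟩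
    have h1 : EL r * ((d : 𝓞 K) : K) = 1 := by rw [← hEL, ← map_mul, hr, map_one]
    rw [map_mul, hEL, show ((num' w hw : 𝓞 K) : K) = ((d : 𝓞 K) : K) * w by
      rw [show ((num' w hw : 𝓞 K) : K) = (d : 𝓞 K) • w from hnum' w hw, Algebra.smul_def], ← mul_assoc, h1, one_mul]
  have hAle : ∀ z ∈ A, z ∈ EL.range := fun z hz => by
    rw [← hSA] at hz
    induction hz using Algebra.adjoin_induction with
    | mem z hz => exact hW z (Finset.mem_insert_of_mem hz)
    | algebraMap n => simpa using intCast_mem _ n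
    | add z z' _ _ h h' => exact add_mem h h'
    | mul z z' _ _ h h' => exact mul_mem h h'
  let eEL : Localization.Away (d : 𝓞 K) ≃+* EL.range := RingEquiv.ofBijective EL.rangeRestrict
    ⟨fun a b h => hELinj (congrArg Subtype.val h), RingHom.rangeRestrict_surjective EL⟩
  let incl : A →+* EL.range := (A.val.toRingHom).codRestrict EL.range fun z => hAle z z.2
  let a : 𝓞 K → A := fun o => if h : (o : K) * u ∈ A then ⟨_, h⟩ else 0
  obtain ⟨J, hJ, hJn⟩ := injective_family (A := A) (B := 𝓞 K) G a ⟨u, huA⟩ 0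
    (fun F _ _ φ T hT b => by
      have hb : b ∈ Algebra.adjoin ℤ (G : Set (𝓞 K)) := hG ▸ Algebra.mem_top
      induction hb using Algebra.adjoin_induction with
      | mem z hz => exact hT z hz
      | algebraMap n => simpa using intCast_mem _ n
      | add z z' _ _ h h' => rw [map_add]; exact add_mem h h'
      | mul z z' _ _ h h' => rw [map_mul]; exact mul_mem h h')
    (fun F _ φ φ' h => congrArg AlgHom.toRingHom
      (AlgHom.ext_of_adjoin_eq_top (φ₁ := φ.toIntAlgHom) (φ₂ := φ'.toIntAlgHom) hG h))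
    (ι := (badᶜ : Set (Max (𝓞 K)))) (fun P => P.1) (fun _ => 0)
    (fun P P' h => Subtype.ext (congrArg Sigma.fst h))
    (fun P => by
      haveI := P.1.2
      letI := Ideal.Quotient.field P.1.1
      have hdP : IsUnit (Ideal.Quotient.mk P.1.1 (d : 𝓞 K)) := by
        rw [isUnit_iff_ne_zero, Ne, Ideal.Quotient.eq_zero_iff_mem]
        exact P.2
      let EF : Localization.Away (d : 𝓞 K) →+* 𝓞 K ⧸ P.1.1 := IsLocalization.Away.lift (d : 𝓞 K) hdP
      have hEF : ∀ o : 𝓞 K, EF (algebraMap _ _ o) = Ideal.Quotient.mk P.1.1 o := fun o => IsLocalization.Away.lift_eq _ _ o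
      let ψ : A →+* 𝓞 K ⧸ P.1.1 := EF.comp ((eEL.symm : EL.range →+* Localization.Away (d : 𝓞 K)).comp incl)
      have hψ : ∀ (z : A) (r : Localization.Away (d : 𝓞 K)), EL r = (z : K) → ψ z = EF r := fun z r h => by
        change EF (eEL.symm (incl z)) = EF r
        rw [← eEL.symm_apply_apply r]
        congr 2
        exact Subtype.ext h.symm
      obtain ⟨ru, hru⟩ := RingHom.mem_range.mp (hAle u huA)
      obtain ⟨ri, hri⟩ := RingHom.mem_range.mp (hW u⁻¹ (Finset.mem_insert_self _ _))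
      refine ⟨ψ, ?_, by simp, fun o ho => ?_⟩
      · rw [hψ _ ru hru]
        have h1 : ru * ri = 1 := hELinj (by rw [map_mul, hru, hri, map_one, mul_inv_cancel₀ hu0])
        exact left_ne_zero_of_mul_eq_one (b := EF ri) (by rw [← map_mul, h1, map_one])
      · rw [show a o = ⟨_, hGu o ho⟩ from dif_pos (hGu o ho), hψ _ (algebraMap _ _ o * ru) (by rw [map_mul, hEL, hru]),
          map_mul, hEF, hψ _ ru hru])
  have h1 := hsum.comp_injective hJ
  simp only [Function.comp_def, hJn] at h1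
  exact not_summable_primes K (by simpa using hy) bad hbad h1

end NumberField

end Groth.L11.Zeta
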