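import Groth.Agent.L11.Zeta.Points
import Groth.Agent.L11.Zeta.Euler
import Mathlib.Analysis.PSeries
import Mathlib.Analysis.SpecificLimits.Basic

/-!
Convergence of the Dirichlet series of a scheme of finite type over `ℤ`.
-/

set_option autoImplicit false
universe u

open AlgebraicGeometry CategoryTheory

namespace Groth.L11.Zeta

variable (X : Scheme.{u})

/-- The closed points. -/
abbrev Closed : Type u := {x : X // IsClosed ({x} : Set X)}

/-- The norm of a closed point. -/
noncomputable def ptNorm (x : Closed X) : ℕ := Nat.card (X.residueField x.1)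

theorem cycleNormCount_eq (n : ℕ) : Zeta.cycleNormCount X n = count (ptNorm X) n := by
  classical
  let e : (Closed X →₀ ℕ) → {α : X →₀ ℕ // ∀ x ∈ α.support, IsClosed ({x} : Set X)} := fun β =>
    ⟨Finsupp.embDomain (Function.Embedding.subtype _) β, fun x hx => by
      rw [Finsupp.support_embDomain, Finset.mem_map] at hx
      obtain ⟨y, -, rfl⟩ := hx
      exact y.2⟩
  have he : Function.Bijective e := by
    refine ⟨fun β β' h => Finsupp.embDomain_injective _ (congrArg Subtype.val h),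
      fun α => ⟨α.1.subtypeDomain _, Subtype.ext (Finsupp.ext fun x => ?_)⟩⟩
    by_cases hx : IsClosed ({x} : Set X)
    · exact Finsupp.embDomain_apply_self (Function.Embedding.subtype _) (α.1.subtypeDomain _) ⟨x, hx⟩
    · refine (Finsupp.embDomain_of_notMem_range _ _ _ fun ⟨y, hy⟩ => hx (hy ▸ y.2)).trans ?_
      exact (Finsupp.notMem_support_iff.mp fun h => hx (α.2 x h)).symm
  rw [Zeta.cycleNormCount, count]
  refine Nat.card_congr ?_
  refine (Equiv.subtypeSubtypeEquivSubtypeInter _ _).symm.trans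
    ((Equiv.subtypeEquiv (Equiv.ofBijective e he) fun β => ?_).symm)
  change norm' (ptNorm X) β = n ↔ (Finsupp.embDomain _ β).prod _ = n
  rw [Finsupp.prod_embDomain]
  rfl

variable {X} (f : X ⟶ Spec (CommRingCat.of (ULift.{u} ℤ))) [LocallyOfFiniteType f]

include f in
theorem two_le_ptNorm (x : Closed X) : 2 ≤ ptNorm X x := by
  haveI := finite_residueField f x.2
  exact Finite.one_lt_card

variable [QuasiCompact f]

include f in
theorem summable_ptNorm {r : ℕ} (hr : topologicalKrullDim X ≤ r) {σ : ℝ} (hσ : (r : ℝ) < σ) :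
    Summable fun x : Closed X => (ptNorm X x : ℝ) ^ (-σ) := by
  classical
  obtain ⟨c, p₀, hc, hpts⟩ := exists_card_points_le f hr
  let H : ℕ → ℝ := fun n => (c : ℝ) * (n : ℝ) ^ ((r : ℝ) - 1 - σ) +
    ∑ p ∈ (Finset.range p₀).filter Nat.Prime,
      (Set.range fun m : ℕ => p ^ m).indicator (fun n => (c : ℝ) * (n : ℝ) ^ ((r : ℝ) - σ)) n
  have hH0 : ∀ n, 0 ≤ H n := fun n => add_nonneg (by positivity)
    (Finset.sum_nonneg fun p _ => Set.indicator_nonneg (fun _ _ => by positivity) _)
  have hH : Summable H := by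
    refine ((Real.summable_nat_rpow.mpr (by linarith)).mul_left _).add (summable_sum fun p hp => ?_)
    have hp2 := (Finset.mem_filter.mp hp).2
    refine ((Nat.pow_right_injective hp2.two_le).summable_iff fun n hn => Set.indicator_of_notMem hn _).mp ?_
    have hcongr : ∀ m : ℕ, (c : ℝ) * ((p : ℝ) ^ ((r : ℝ) - σ)) ^ m =
        (Set.range fun m : ℕ => p ^ m).indicator (fun n => (c : ℝ) * (n : ℝ) ^ ((r : ℝ) - σ)) (p ^ m) := fun m => by
      rw [Set.indicator_of_mem (Set.mem_range_self (f := fun m : ℕ => p ^ m) m), Nat.cast_pow, ← Real.rpow_natCast ((p : ℝ) ^ _), ← Real.rpow_natCast (p : ℝ),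
        ← Real.rpow_mul (by positivity), ← Real.rpow_mul (by positivity), mul_comm ((r : ℝ) - σ)]
    refine ((summable_geometric_of_lt_one (by positivity) ?_).mul_left (c : ℝ)).congr hcongr
    exact Real.rpow_lt_one_of_one_lt_of_neg (by exact_mod_cast hp2.one_lt) (by linarith)
  refine summable_of_sum_le (c := ∑' n, H n) (fun x => by positivity) fun T => ?_
  rw [← Finset.sum_fiberwise_of_maps_to (g := ptNorm X) (t := T.image (ptNorm X))
    fun x hx => Finset.mem_image_of_mem _ hx]
  refine (Finset.sum_le_sum fun n hn => ?_).trans (hH.sum_le_tsum _ fun n _ => hH0 n)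
  obtain ⟨x₀, -, hx₀⟩ := Finset.mem_image.mp hn
  set F := X.residueField x₀.1
  haveI : Finite F := finite_residueField f x₀.2
  haveI := Fintype.ofFinite F
  obtain ⟨p, hp⟩ := CharP.exists F
  haveI := hp
  obtain ⟨m, hprime, hcardF⟩ := FiniteField.card F p
  have hn' : n = Nat.card F := hx₀.symm
  have hnpos : (0 : ℝ) < n := by rw [hn']; exact_mod_cast Nat.card_pos
  obtain ⟨hfin, h1, h2⟩ := hpts p hprime F
  haveI := hfin
  set A := T.filter fun x => ptNorm X x = n
  have hA : A.card ≤ Nat.card (Spec (CommRingCat.of F) ⟶ X) := by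
    rw [← Finset.card_image_of_injective A Subtype.val_injective]
    refine card_closedPoints_le F _ fun x hx => ?_
    obtain ⟨y, hy, rfl⟩ := Finset.mem_image.mp hx
    exact (Finset.mem_filter.mp hy).2.trans hn'
  rw [Finset.sum_congr rfl (fun x hx => by rw [(Finset.mem_filter.mp hx).2] :
    ∀ x ∈ A, (ptNorm X x : ℝ) ^ (-σ) = (n : ℝ) ^ (-σ)), Finset.sum_const, nsmul_eq_mul]
  by_cases hp0 : p₀ ≤ p
  · refine le_add_of_le_of_nonneg ?_ (Finset.sum_nonneg fun p _ => Set.indicator_nonneg (fun _ _ => by positivity) _)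
    have h3 : (A.card : ℝ) * n ≤ c * (n : ℝ) ^ r := by
      rw [hn']
      exact_mod_cast (Nat.mul_le_mul_right _ hA).trans (h2 hp0)
    rw [sub_sub, Real.rpow_sub hnpos, Real.rpow_natCast, Real.rpow_add hnpos, Real.rpow_one, ← mul_div_assoc,
      le_div_iff₀ (by positivity), Real.rpow_neg hnpos.le]
    have h4 : ((n : ℝ) ^ σ)⁻¹ * (n : ℝ) ^ σ = 1 := inv_mul_cancel₀ (by positivity)
    calc (A.card : ℝ) * ((n : ℝ) ^ σ)⁻¹ * ((n : ℝ) * (n : ℝ) ^ σ)
        = (A.card : ℝ) * n * (((n : ℝ) ^ σ)⁻¹ * (n : ℝ) ^ σ) := by ring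
      _ ≤ _ := by rw [h4, mul_one]; exact h3
  · refine le_add_of_nonneg_of_le (by positivity) (le_trans ?_ (Finset.single_le_sum
      (fun q _ => Set.indicator_nonneg (fun _ _ => by positivity) _)
      (Finset.mem_filter.mpr ⟨Finset.mem_range.mpr (not_le.mp hp0), hprime⟩)))
    have hmem : n ∈ Set.range fun m : ℕ => p ^ m := ⟨(m : ℕ), by rw [hn', Nat.card_eq_fintype_card, hcardF]⟩
    rw [Set.indicator_of_mem hmem,
      sub_eq_add_neg, Real.rpow_add hnpos, Real.rpow_natCast, ← mul_assoc]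
    refine mul_le_mul_of_nonneg_right ?_ (by positivity)
    rw [hn']
    exact_mod_cast hA.trans h1

include f in
theorem abscissa_le_dim_and_ne_zero {r : ℕ} (hr : topologicalKrullDim X ≤ r) :
    LSeries.abscissaOfAbsConv (Zeta.arithCoeff X) ≤ (r : ℝ) ∧
      ∀ s : ℂ, (r : ℝ) < s.re → LSeries (Zeta.arithCoeff X) s ≠ 0 := by
  have hg : ∀ n, Zeta.arithCoeff X n = (count (ptNorm X) n : ℂ) := fun n => by
    rw [Zeta.arithCoeff, cycleNormCount_eq]
  have key : ∀ s : ℂ, (r : ℝ) < s.re → LSeriesSummable (Zeta.arithCoeff X) s ∧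
      LSeries (Zeta.arithCoeff X) s ≠ 0 := fun s hs => by
    have hpos : (0 : ℝ) < s.re := lt_of_le_of_lt (Nat.cast_nonneg r) hs
    obtain ⟨h1, h2⟩ := lseries_eq_tsum (two_le_ptNorm f) hpos (summable_ptNorm f hr hs) le_rfl _ hg
    exact ⟨h1, h2 ▸ tsum_cweight_ne_zero (two_le_ptNorm f) hpos (summable_ptNorm f hr hs) le_rfl⟩
  exact ⟨LSeries.abscissaOfAbsConv_le_of_forall_lt_LSeriesSummable fun y hy => (key y (by simpa using hy)).1,
    fun s hs => (key s hs).2⟩

/-- A scheme of finite type over a finite field is of finite type over `ℤ`. -/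
theorem locallyOfFiniteType_spec_finite (k : Type u) [Field k] [Finite k]
    (g : Spec (CommRingCat.of k) ⟶ Spec (CommRingCat.of (ULift.{u} ℤ))) : LocallyOfFiniteType g := by
  rw [← Spec.map_preimage g, HasRingHomProperty.Spec_iff (P := @LocallyOfFiniteType)]
  letI := (Spec.preimage g).hom.toAlgebra
  exact RingHom.finiteType_algebraMap.mpr (inferInstance : Algebra.FiniteType (ULift.{u} ℤ) k)

end Groth.L11.Zeta
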