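import Groth.Agent.L26.Zeta.Weil
import Groth.Agent.L26.FF.Closed
import Groth.Agent.L26.FF.Riemann
import Groth.Agent.L26.FF.Degree
import Mathlib.RingTheory.Polynomial.GaussLemma
import Mathlib.FieldTheory.RatFunc.AsPolynomial
import Mathlib.RingTheory.AdjoinRoot
import Mathlib.Algebra.Polynomial.Basis
import Mathlib.RingTheory.AlgebraTower

/-!
The number of rational points of an absolutely irreducible affine plane curve over a finite field is at least
`(q - O(√q)) / d`.
-/

set_option autoImplicit false
universe u v

open Polynomial FunFld Groth.Agent.FF Groth.Agent.Zeta WithZero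

namespace Groth.L11.Zeta

variable {F : Type u} [Field F]

/-- Absolute irreducibility of a plane curve. -/
def AbsIrred (g : F[X][X]) : Prop :=
  ∀ (F' : Type u) [Field F'] [Algebra F F'], FiniteDimensional F F' →
    Irreducible (g.map (Polynomial.mapRingHom (algebraMap F F')))

theorem irreducible_map_ratFunc {g : F[X][X]} (hg : g.Monic) (h : Irreducible g) :
    Irreducible (g.map (algebraMap F[X] (RatFunc F))) :=
  (Monic.irreducible_iff_irreducible_map_fraction_map hg).mp h

variable {L : Type u} [Field L] [Algebra (RatFunc F) L] [Algebra F L] [IsScalarTower F (RatFunc F) L]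

local notation "tX" => (algebraMap (RatFunc F) L) RatFunc.X

theorem transcendental_tX : Transcendental F tX := by
  have h : Transcendental F (RatFunc.X : RatFunc F) := by
    intro ha
    obtain ⟨p, hp, h0⟩ := ha
    apply hp
    apply RatFunc.algebraMap_injective F
    rw [map_zero, ← h0, ← RatFunc.algebraMap_X, Polynomial.aeval_algebraMap_apply, Polynomial.aeval_X_left_apply]
  intro ha
  exact h ((isAlgebraic_algebraMap_iff (algebraMap (RatFunc F) L).injective).mp ha)

theorem tX_ne_zero : tX ≠ 0 := fun h => transcendental_tX (F := F) (L := L) (h ▸ isAlgebraic_zero)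

theorem algebraMap_polynomial (c : F[X]) :
    algebraMap (RatFunc F) L (algebraMap F[X] (RatFunc F) c) = Polynomial.aeval tX c := by
  rw [Polynomial.aeval_algebraMap_apply, ← RatFunc.algebraMap_X, Polynomial.aeval_algebraMap_apply,
    Polynomial.aeval_X_left_apply]

theorem finrank_adjoin_tX : Module.finrank (IntermediateField.adjoin F ({tX} : Set L)) L =
    Module.finrank (RatFunc F) L := by
  let i : RatFunc F →ₐ[F] L := IsScalarTower.toAlgHom F (RatFunc F) L
  have hX : IntermediateField.adjoin F ({RatFunc.X} : Set (RatFunc F)) = ⊤ := by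
    refine eq_top_iff.mpr fun z _ => ?_
    rw [← RatFunc.num_div_denom z]
    have hp : ∀ p : F[X], algebraMap F[X] (RatFunc F) p ∈ IntermediateField.adjoin F ({RatFunc.X} : Set (RatFunc F)) :=
      fun p => by
        induction p using Polynomial.induction_on' with
        | add p q hp hq => rw [map_add]; exact add_mem hp hq
        | monomial n a =>
          rw [← Polynomial.C_mul_X_pow_eq_monomial, map_mul, map_pow, RatFunc.algebraMap_X, RatFunc.algebraMap_C]
          exact mul_mem (IntermediateField.algebraMap_mem _ a) (pow_mem (IntermediateField.mem_adjoin_simple_self F _) n)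
    exact div_mem (hp _) (hp _)
  have hr : i.fieldRange = IntermediateField.adjoin F ({tX} : Set L) := by
    rw [AlgHom.fieldRange_eq_map, ← hX, IntermediateField.adjoin_map, Set.image_singleton]
    rfl
  let e : RatFunc F ≃+* IntermediateField.adjoin F ({tX} : Set L) :=
    ((AlgEquiv.ofInjectiveField i).trans
      ((IntermediateField.equivOfEq hr : i.fieldRange ≃ₐ[F] _))).toRingEquiv
  exact (Algebra.finrank_eq_of_equiv_equiv e (RingEquiv.refl L) (by ext z; rfl)).symm

variable {g : F[X][X]} (hg : g.Monic) (hirr : AbsIrred g) {θ : L}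
  (hθ : Polynomial.aeval θ (g.map (algebraMap F[X] (RatFunc F))) = 0)
  (hfin : Module.finrank (RatFunc F) L = g.natDegree)

include hg hirr in
theorem irreducible_self : Irreducible g := by
  have := hirr F inferInstance
  rwa [show Polynomial.mapRingHom (algebraMap F F) = RingHom.id _ by ext <;> simp, Polynomial.map_id] at this

include hg hirr hθ in
theorem natDegree_minpoly : (minpoly (RatFunc F) θ).natDegree = g.natDegree := by
  rw [← minpoly.eq_of_irreducible_of_monic (irreducible_map_ratFunc hg (irreducible_self hg hirr)) hθ (hg.map _)]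
  exact hg.natDegree_map _

include hg hirr hθ hfin in
/-- The function field of an absolutely irreducible curve has no new constants. -/
theorem isFunctionField_curve : IsFunctionField F L := by
  classical
  have hd : 0 < g.natDegree := by
    rcases Nat.eq_zero_or_pos g.natDegree with h | h
    · exact absurd (hg.natDegree_eq_zero.mp h ▸ irreducible_self hg hirr) not_irreducible_one
    · exact h
  haveI : FiniteDimensional (RatFunc F) L := Module.finite_of_finrank_pos (by omega)
  refine ⟨⟨tX, transcendental_tX, Module.finite_of_finrank_pos (by rw [finrank_adjoin_tX]; omega)⟩, fun α hα => ?_⟩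
  let F' := IntermediateField.adjoin F ({α} : Set L)
  haveI : FiniteDimensional F F' := IntermediateField.adjoin.finiteDimensional hα.isIntegral
  haveI : Algebra.IsAlgebraic F F' := Algebra.IsAlgebraic.of_finite F F'
  have htr : Transcendental F' tX := transcendental_tX.extendScalars F'
  let ι : RatFunc F' →ₐ[F'] L := RatFunc.liftAlgHom (Polynomial.aeval tX : F'[X] →ₐ[F'] L)
    fun p hp => mem_nonZeroDivisors_of_ne_zero fun h => by
      exact nonZeroDivisors.ne_zero hp (transcendental_iff.mp htr p h)
  letI : Algebra (RatFunc F') L := ι.toRingHom.toAlgebra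
  let mF : RatFunc F →+* RatFunc F' := RatFunc.liftRingHom
    ((algebraMap F'[X] (RatFunc F')).comp (Polynomial.mapRingHom (algebraMap F F')))
    fun p hp => mem_nonZeroDivisors_of_ne_zero fun h => by
      rw [RingHom.comp_apply, map_eq_zero_iff _ (RatFunc.algebraMap_injective F'), Polynomial.coe_mapRingHom,
        Polynomial.map_eq_zero_iff (algebraMap F F').injective] at h
      exact nonZeroDivisors.ne_zero hp h
  letI : Algebra (RatFunc F) (RatFunc F') := mF.toAlgebra
  have hιp : ∀ p : F'[X], algebraMap (RatFunc F') L (algebraMap F'[X] (RatFunc F') p) = Polynomial.aeval tX p :=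
    fun p => by
      change ι _ = _
      have h := RatFunc.liftAlgHom_apply_div' (Polynomial.aeval tX : F'[X] →ₐ[F'] L) (hφ := fun p hp =>
        mem_nonZeroDivisors_of_ne_zero fun h => nonZeroDivisors.ne_zero hp (transcendental_iff.mp htr p h)) p 1
      simp only [map_one, div_one] at h
      exact h
  haveI : IsScalarTower (RatFunc F) (RatFunc F') L := IsScalarTower.of_algebraMap_eq' <| by
    refine IsLocalization.ringHom_ext (nonZeroDivisors F[X]) (RingHom.ext fun p => ?_)
    simp only [RingHom.comp_apply]
    rw [algebraMap_polynomial,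
      show algebraMap (RatFunc F) (RatFunc F') (algebraMap F[X] (RatFunc F) p) =
        algebraMap F'[X] (RatFunc F') (p.map (algebraMap F F')) by
          change mF _ = _
          simp [mF, RatFunc.liftRingHom_algebraMap],
      hιp, Polynomial.aeval_map_algebraMap]
  have hg' : (g.map (Polynomial.mapRingHom (algebraMap F F'))).Monic := hg.map _
  have hirr' := irreducible_map_ratFunc hg' (hirr F' inferInstance)
  have hθ' : Polynomial.aeval θ
      ((g.map (Polynomial.mapRingHom (algebraMap F F'))).map (algebraMap F'[X] (RatFunc F'))) = 0 := by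
    rw [← hθ, Polynomial.aeval_def, Polynomial.aeval_def, Polynomial.eval₂_map, Polynomial.eval₂_map,
      Polynomial.eval₂_map]
    congr 1
    refine RingHom.ext fun p => ?_
    simp only [RingHom.comp_apply, hιp, algebraMap_polynomial, Polynomial.coe_mapRingHom,
      Polynomial.aeval_map_algebraMap]
  haveI : FiniteDimensional (RatFunc F') L := Module.Finite.of_restrictScalars_finite (RatFunc F) (RatFunc F') L
  haveI : FiniteDimensional (RatFunc F) (RatFunc F') := FiniteDimensional.left (RatFunc F) (RatFunc F') L
  have h1 : g.natDegree ≤ Module.finrank (RatFunc F') L := by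
    refine le_of_eq_of_le ?_ (minpoly.natDegree_le θ)
    rw [← minpoly.eq_of_irreducible_of_monic hirr' hθ' (hg'.map _), hg'.natDegree_map, hg.natDegree_map]
  have h2 : Module.finrank (RatFunc F) (RatFunc F') = 1 := by
    have h3 := Module.finrank_mul_finrank (RatFunc F) (RatFunc F') L
    have h4 : 0 < Module.finrank (RatFunc F) (RatFunc F') := Module.finrank_pos
    rw [hfin] at h3
    nlinarith
  obtain ⟨z, hz⟩ := exists_smul_eq_of_finrank_eq_one h2 (_root_.one_ne_zero : (1 : RatFunc F') ≠ 0)
    (RatFunc.C ⟨α, IntermediateField.mem_adjoin_simple_self F α⟩)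
  rw [Algebra.smul_def, mul_one] at hz
  have hzα : algebraMap (RatFunc F) L z = α := by
    rw [IsScalarTower.algebraMap_apply (RatFunc F) (RatFunc F') L, hz, ← RatFunc.algebraMap_C, hιp, Polynomial.aeval_C]
    rfl
  have hzi : IsIntegral F z := by
    rw [← isIntegral_algebraMap_iff (algebraMap (RatFunc F) L).injective (R := F), hzα]
    exact hα.isIntegral
  obtain ⟨p, hp⟩ := IsIntegrallyClosed.algebraMap_eq_of_integral (hzi.tower_top (A := F[X]))
  have hpi : IsIntegral F p := by
    rw [← isIntegral_algebraMap_iff (RatFunc.algebraMap_injective F) (R := F), hp]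
    exact hzi
  have hp0 : p.natDegree = 0 := by
    by_contra hne
    exact p.transcendental hne (mem_nonZeroDivisors_of_ne_zero (Polynomial.leadingCoeff_ne_zero.mpr fun h => hne (by rw [h, Polynomial.natDegree_zero]))) hpi.isAlgebraic
  rw [Polynomial.natDegree_eq_zero] at hp0
  obtain ⟨c, rfl⟩ := hp0
  refine ⟨c, ?_⟩
  rw [← hzα, ← hp, algebraMap_polynomial, Polynomial.aeval_C]

variable {e : ℕ} (he : ∀ i, (g.coeff i).natDegree ≤ e)

include hg he hθ in
/-- The pole order of `θ` is bounded by `e` times that of `x`. -/
theorem val_theta_le (P : Place F L) {m : ℤ} (hm : 0 ≤ m) (hx : P.1 tX ≤ exp m) :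
    P.1 θ ≤ exp (e * m) := by
  by_contra hlt
  rw [not_le] at hlt
  have hθ0 : P.1 θ ≠ 0 := (bot_le.trans_lt hlt).ne'
  have hpos : exp (e * m) ≥ (1 : WithZero (Multiplicative ℤ)) := by
    rw [← exp_zero, ge_iff_le, exp_le_exp]; positivity
  have h1θ : 1 ≤ P.1 θ := hpos.trans hlt.le
  have hc : ∀ c : F[X], c.natDegree ≤ e → P.1 (Polynomial.aeval tX c) ≤ exp (e * m) := fun c hc => by
    rw [Polynomial.aeval_eq_sum_range' (Nat.lt_succ_of_le hc)]
    refine P.1.map_sum_le fun i hi => ?_
    rw [Algebra.smul_def, map_mul, map_pow]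
    refine (mul_le_mul' (P.2.1 _) (pow_le_pow_left' hx i)).trans ?_
    rw [one_mul, ← exp_nsmul, exp_le_exp, nsmul_eq_mul]
    exact mul_le_mul_of_nonneg_right (by have := Finset.mem_range.mp hi; omega) hm
  have hsum : θ ^ g.natDegree = -∑ i ∈ Finset.range g.natDegree, Polynomial.aeval tX (g.coeff i) * θ ^ i := by
    rw [eq_neg_iff_add_eq_zero]
    have h0 := hθ
    rw [Polynomial.aeval_def, Polynomial.eval₂_map, Polynomial.eval₂_eq_sum_range, Finset.sum_range_succ,
      hg.coeff_natDegree, map_one, one_mul, add_comm] at h0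
    simpa [RingHom.comp_apply, algebraMap_polynomial] using h0
  have hlt2 : P.1 (∑ i ∈ Finset.range g.natDegree, Polynomial.aeval tX (g.coeff i) * θ ^ i) < P.1 θ ^ g.natDegree := by
    refine P.1.map_sum_lt (pow_ne_zero _ hθ0) fun i hi => ?_
    rw [map_mul, map_pow]
    refine (mul_le_mul' (hc _ (he i)) le_rfl).trans_lt ?_
    refine lt_of_lt_of_le (mul_lt_mul_of_pos_right hlt (pow_pos (zero_lt_iff.mpr hθ0) i)) ?_
    rw [← pow_succ']
    exact pow_le_pow_right' h1θ (Finset.mem_range.mp hi)
  rw [← map_pow, hsum, Valuation.map_neg] at hlt2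
  exact lt_irrefl _ hlt2

include hg hirr hθ hfin he in
theorem genus_le : genus F L ≤ 1 + g.natDegree * (e * g.natDegree) := by
  classical
  have hK := isFunctionField_curve hg hirr hθ hfin
  set d := g.natDegree
  have hd : 0 < d := by
    rcases Nat.eq_zero_or_pos d with h | h
    · exact absurd (hg.natDegree_eq_zero.mp h ▸ irreducible_self hg hirr) not_irreducible_one
    · exact h
  have htr : Transcendental F (tX)⁻¹ := fun h => transcendental_tX (by simpa using h.inv)
  have hadj : IntermediateField.adjoin F ({(tX)⁻¹} : Set L) = IntermediateField.adjoin F ({tX} : Set L) := by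
    refine le_antisymm ?_ ?_ <;> rw [IntermediateField.adjoin_simple_le_iff]
    · exact inv_mem (IntermediateField.mem_adjoin_simple_self F _)
    · simpa using inv_mem (IntermediateField.mem_adjoin_simple_self F (tX)⁻¹)
  set D : Divisor F L := (div F (tX)⁻¹).filter fun P => 0 < div F (tX)⁻¹ P with hDdef
  have hDapp : ∀ P, D P = max (div F (tX)⁻¹ P) 0 := fun P => by
    by_cases h : 0 < div F (tX)⁻¹ P
    · rw [hDdef, Finsupp.filter_apply, if_pos h, max_eq_left h.le]
    · rw [hDdef, Finsupp.filter_apply, if_neg h, max_eq_right (not_lt.mp h)]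
  have hDsupp : D.support = (div F (tX)⁻¹).support.filter fun P => 0 < div F (tX)⁻¹ P := by
    rw [hDdef, Finsupp.support_filter]
  have hDdeg : D.deg ≤ d := by
    have h1 : D.deg = ∑ P ∈ D.support, P.ord (tX)⁻¹ * P.deg := by
      refine Finset.sum_congr rfl fun P hP => ?_
      rw [hDsupp, Finset.mem_filter] at hP
      change D P * _ = _
      rw [hDapp, max_eq_left hP.2.le, div_apply hK.1]
    rw [h1]
    refine (sum_ord_le hK.1 htr D.support fun P hP => ?_).trans (le_of_eq ?_)
    · rw [hDsupp, Finset.mem_filter, div_apply hK.1] at hP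
      exact (val_lt_one_iff P (inv_ne_zero tX_ne_zero)).mpr hP.2
    · rw [hadj, finrank_adjoin_tX, hfin]
  have hxD : ∀ P : Place F L, P.1 tX ≤ exp (D P) := fun P => by
    rw [val_eq_exp P tX_ne_zero, exp_le_exp, hDapp, div_apply hK.1, ord_inv]
    exact le_max_left _ _
  obtain ⟨N, hN⟩ := riemann hK
  have hDpos : 1 ≤ D.deg := by
    obtain ⟨P, hP⟩ := exists_pole hK.1 transcendental_tX
    have h1 : 0 < D P := by
      by_contra h
      rw [not_lt] at h
      exact absurd ((hxD P).trans (exp_le_one'.mpr h)) (not_le.mpr hP)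
    have h2 : Finsupp.single P 1 ≤ D := fun Q => by
      rw [Finsupp.single_apply]
      split_ifs with h
      · exact h ▸ h1
      · rw [hDapp]; exact le_max_right _ _
    have h3 := deg_mono h2
    rw [deg_single, one_mul] at h3
    exact le_trans (by exact_mod_cast one_le_deg hK.1 P) h3
  set n := e * d + N.toNat
  set nD : Divisor F L := (n : ℤ) • D
  have hdeg : nD.deg = n * D.deg := deg_smul D n
  have hR : nD.deg + 1 - (ell nD : ℤ) = genus F L := hN nD (by
    rw [hdeg]
    have h1 : (n : ℤ) ≤ n * D.deg := le_mul_of_one_le_right (by positivity) hDpos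
    omega)
  have hell : (n + 1 - e * d) * d ≤ ell nD := by
    let b : Fin (n + 1 - e * d) × Fin d → L := fun z => tX ^ (z.1 : ℕ) * θ ^ (z.2 : ℕ)
    have hmem : ∀ z, b z ∈ FunFld.L nD := fun z P => by
      simp only [b, map_mul, map_pow]
      refine (mul_le_mul' (pow_le_pow_left' (hxD P) _) (pow_le_pow_left'
        (val_theta_le hg hθ he P (by rw [hDapp]; exact le_max_right _ _) (hxD P)) _)).trans ?_
      rw [← exp_nsmul, ← exp_nsmul, ← exp_add, exp_le_exp]
      change _ ≤ (n : ℤ) * D P
      simp only [nsmul_eq_mul]
      rw [← mul_assoc, ← add_mul]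
      refine mul_le_mul_of_nonneg_right ?_ (by rw [hDapp]; exact le_max_right _ _)
      have h1 := z.1.2
      have h2 := z.2.2
      have h3 : (z.2 : ℕ) * e ≤ d * e := Nat.mul_le_mul_right _ h2.le
      rw [mul_comm d e] at h3
      exact_mod_cast (show (z.1 : ℕ) + (z.2 : ℕ) * e ≤ n by omega)
    have hli : LinearIndependent F b := by
      have h1 : LinearIndependent F fun i : Fin (n + 1 - e * d) => (RatFunc.X : RatFunc F) ^ (i : ℕ) := by
        refine Fintype.linearIndependent_iff.mpr fun c hc i => ?_
        let p : F[X] := ∑ i : Fin (n + 1 - e * d), Polynomial.monomial (i : ℕ) (c i)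
        have h0 : algebraMap F[X] (RatFunc F) p = 0 := by
          rw [← hc, map_sum]
          refine Finset.sum_congr rfl fun i _ => ?_
          rw [← Polynomial.C_mul_X_pow_eq_monomial, map_mul, map_pow, RatFunc.algebraMap_X, RatFunc.algebraMap_C,
            Algebra.smul_def]
          rfl
        rw [map_eq_zero_iff _ (RatFunc.algebraMap_injective F)] at h0
        have h1 := congrArg (fun r : F[X] => r.coeff (i : ℕ)) h0
        simpa [p, Polynomial.finsetSum_coeff, Polynomial.coeff_monomial, Fin.val_inj] using h1
      have h2 : LinearIndependent (RatFunc F) fun j : Fin d => θ ^ (j : ℕ) := by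
        have h0 := linearIndependent_pow (K := RatFunc F) θ
        rw [natDegree_minpoly hg hirr hθ] at h0
        exact h0
      have hb : b = fun z => (RatFunc.X : RatFunc F) ^ (z.1 : ℕ) • θ ^ (z.2 : ℕ) := funext fun z => by
        simp [b, Algebra.smul_def]
      rw [hb]
      exact linearIndependent_smul h1 h2
    haveI := finite_L hK.1 nD
    have h3 := (LinearIndependent.of_comp (FunFld.L nD).subtype (v := fun z => (⟨b z, hmem z⟩ : FunFld.L nD)) hli).fintype_card_le_finrank
    simpa [ell] using h3
  have hcast : (((n + 1 - e * d) * d : ℕ) : ℤ) = ((n : ℤ) + 1 - (e * d : ℕ)) * d := by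
    rw [Nat.cast_mul, Nat.cast_sub (by omega)]; push_cast; ring
  have h5 : (n : ℤ) * D.deg ≤ n * d := mul_le_mul_of_nonneg_left hDdeg (by positivity)
  have h6 : (((n + 1 - e * d) * d : ℕ) : ℤ) ≤ ell nD := by exact_mod_cast hell
  rw [hcast] at h6
  rw [hdeg] at hR
  have : (genus F L : ℤ) ≤ ((1 + d * (e * d) : ℕ) : ℤ) := by
    push_cast at h6 ⊢
    nlinarith
  exact_mod_cast this

variable [Finite F]

include hg hirr hθ hfin he in
/-- The abscissae of rational points. -/
theorem card_abscissae_ge :
    ((Nat.card F : ℝ) + 1 - 2 * ((1 + g.natDegree * (e * g.natDegree) : ℕ) : ℝ) * Real.sqrt (Nat.card F)) ≤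
      g.natDegree * ((Nat.card {x0 : F // ∃ t : F, (g.map (Polynomial.evalRingHom x0)).eval t = 0} : ℝ) + 1) := by
  classical
  have hK := isFunctionField_curve hg hirr hθ hfin
  set d := g.natDegree
  obtain ⟨α, -, hα, hnorm⟩ := norm_recip_root hK
  have hN := card_deg_one hK α hα
  set N1 := Nat.card {P : Place F L // P.deg = 1}
  have hlower : ((Nat.card F : ℝ) + 1 - 2 * ((1 + d * (e * d) : ℕ) : ℝ) * Real.sqrt (Nat.card F)) ≤ N1 := by
    have h1 : ‖∑ i, α i‖ ≤ (2 * genus F L : ℕ) * Real.sqrt (Nat.card F) := by
      refine (norm_sum_le _ _).trans ?_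
      simp [hnorm]
    have h2 : ((2 * genus F L : ℕ) : ℝ) ≤ 2 * ((1 + d * (e * d) : ℕ) : ℝ) := by
      exact_mod_cast Nat.mul_le_mul_left 2 (genus_le hg hirr hθ hfin he)
    have h3 : ∑ i, α i = ((1 + (Nat.card F : ℝ) - N1 : ℝ) : ℂ) := by
      push_cast; rw [hN]; ring
    rw [h3, Complex.norm_real, Real.norm_eq_abs] at h1
    have h4 := (le_abs_self _).trans h1
    nlinarith [Real.sqrt_nonneg (Nat.card F : ℝ)]
  refine hlower.trans ?_
  haveI : Finite {P : Place F L // P.deg = 1} :=
    ((finite_places_deg_le hK.1 1).subset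
      (show {P : Place F L | P.deg = 1} ⊆ {P | P.deg ≤ 1} from fun P hP => le_of_eq hP)).to_subtype
  haveI : Fintype {P : Place F L // P.deg = 1} := Fintype.ofFinite _
  haveI := Fintype.ofFinite F
  -- the abscissa of a place
  let R : Finset (Option F) := insert none
    ((Finset.univ.filter fun x0 : F => ∃ t : F, (g.map (Polynomial.evalRingHom x0)).eval t = 0).image some)
  let φ : {P : Place F L // P.deg = 1} → Option F := fun P =>
    if h : P.1.1 tX ≤ 1 then some (exists_value P.1 P.2 h).choose else none
  have hφR : ∀ P, φ P ∈ R := fun P => by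
    by_cases h : P.1.1 tX ≤ 1
    · rw [show φ P = some _ from dif_pos h]
      refine Finset.mem_insert_of_mem (Finset.mem_image_of_mem _ (Finset.mem_filter.mpr ⟨Finset.mem_univ _, ?_⟩))
      set x0 := (exists_value P.1 P.2 h).choose
      have hx0 := (exists_value P.1 P.2 h).choose_spec
      have hθ1 : P.1.1 θ ≤ 1 := by
        have := val_theta_le hg hθ he P.1 le_rfl (h.trans_eq exp_zero.symm)
        rwa [mul_zero, exp_zero] at this
      obtain ⟨t, ht⟩ := exists_value P.1 P.2 hθ1
      refine ⟨t, ?_⟩
      by_contra hne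
      have hv := val_const P.1 hne
      set u : P.1.O := ⟨tX, h⟩
      set w : P.1.O := ⟨θ, hθ1⟩
      have hu : resMap P.1 u = algebraMap F _ x0 := by
        rw [← sub_eq_zero, ← AlgHom.commutes (resMap P.1), ← map_sub, residue_eq_zero]; exact hx0
      have hw : resMap P.1 w = algebraMap F _ t := by
        rw [← sub_eq_zero, ← AlgHom.commutes (resMap P.1), ← map_sub, residue_eq_zero]; exact ht
      have hz : g.eval₂ (Polynomial.aeval u).toRingHom w = 0 := by
        apply P.1.O.subtype_injective
        rw [Polynomial.hom_eval₂, map_zero]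
        rw [Polynomial.aeval_def, Polynomial.eval₂_map] at hθ
        rw [show (P.1.O.subtype.comp (Polynomial.aeval u).toRingHom) =
          (algebraMap (RatFunc F) L).comp (algebraMap F[X] (RatFunc F)) from RingHom.ext fun c => by
            rw [RingHom.comp_apply, RingHom.comp_apply, algebraMap_polynomial]
            exact (Polynomial.aeval_algHom_apply
              ({ P.1.O.subtype with commutes' := fun _ => rfl } : P.1.O →ₐ[F] L) u c).symm]
        exact hθ
      have h2 := congrArg (resMap P.1) hz
      rw [map_zero, ← AlgHom.coe_toRingHom, Polynomial.hom_eval₂, AlgHom.coe_toRingHom, hw] at h2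
      have hcomp : (RingHomClass.toRingHom (resMap P.1)).comp (Polynomial.aeval u).toRingHom =
          (algebraMap F _).comp (Polynomial.evalRingHom x0) := RingHom.ext fun c => by
            rw [RingHom.comp_apply, RingHom.comp_apply]
            change resMap P.1 (Polynomial.aeval u c) = algebraMap F _ (c.eval x0)
            rw [← Polynomial.aeval_algHom_apply, hu, Polynomial.aeval_algebraMap_apply_eq_algebraMap_eval]
      erw [hcomp] at h2
      rw [← Polynomial.hom_eval₂, map_eq_zero] at h2
      rw [Polynomial.eval_map] at hne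
      exact hne h2
    · rw [show φ P = none from dif_neg h]
      exact Finset.mem_insert_self _ _
  have hfib : ∀ o ∈ R, (Finset.univ.filter fun P => φ P = o).card ≤ d := fun o _ => by
    set S := (Finset.univ.filter fun P => φ P = o)
    have key : ∀ y : L, Transcendental F y → IntermediateField.adjoin F ({y} : Set L) = IntermediateField.adjoin F ({tX} : Set L) →
        (∀ P ∈ S, P.1.1 y < 1) → S.card ≤ d := fun y hy hadj hval => by
      have hy0 : y ≠ 0 := fun h => hy (h ▸ isAlgebraic_zero)
      have h1 := sum_ord_le hK.1 hy (S.image Subtype.val) fun P hP => by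
        obtain ⟨Q, hQ, rfl⟩ := Finset.mem_image.mp hP
        exact hval Q hQ
      rw [hadj, finrank_adjoin_tX, hfin, Finset.sum_image fun a _ b _ h => Subtype.ext h] at h1
      have h2 : (S.card : ℤ) ≤ ∑ P ∈ S, P.1.ord y * P.1.deg := by
        rw [Finset.card_eq_sum_ones, Nat.cast_sum]
        refine Finset.sum_le_sum fun P hP => ?_
        rw [P.2, Nat.cast_one, mul_one]
        exact (val_lt_one_iff P.1 hy0).mp (hval P hP)
      exact_mod_cast h2.trans h1
    cases o with
    | none =>
      refine key (tX)⁻¹ (fun h => transcendental_tX (by simpa using h.inv)) (le_antisymm ?_ ?_) fun P hP => ?_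
      · rw [IntermediateField.adjoin_simple_le_iff]; exact inv_mem (IntermediateField.mem_adjoin_simple_self F _)
      · rw [IntermediateField.adjoin_simple_le_iff]
        simpa using inv_mem (IntermediateField.mem_adjoin_simple_self F (tX)⁻¹)
      · have h := (Finset.mem_filter.mp hP).2
        have h1 : ¬ P.1.1 tX ≤ 1 := fun hle => by rw [show φ P = some _ from dif_pos hle] at h; cases h
        rw [map_inv₀]
        exact inv_lt_one_of_one_lt₀ (not_le.mp h1)
    | some x0 =>
      refine key (tX - algebraMap F L x0) (fun h => transcendental_tX (by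
          simpa using h.add (isAlgebraic_algebraMap x0))) (le_antisymm ?_ ?_) fun P hP => ?_
      · rw [IntermediateField.adjoin_simple_le_iff]
        exact sub_mem (IntermediateField.mem_adjoin_simple_self F _) (IntermediateField.algebraMap_mem _ _)
      · rw [IntermediateField.adjoin_simple_le_iff]
        simpa using add_mem (IntermediateField.mem_adjoin_simple_self F (tX - algebraMap F L x0))
          (IntermediateField.algebraMap_mem (IntermediateField.adjoin F ({tX - algebraMap F L x0} : Set L)) x0)
      · have h := (Finset.mem_filter.mp hP).2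
        by_cases hle : P.1.1 tX ≤ 1
        · rw [show φ P = some _ from dif_pos hle, Option.some_inj] at h
          exact h ▸ (exists_value P.1 P.2 hle).choose_spec
        · rw [show φ P = none from dif_neg hle] at h; cases h
  have hN1 : N1 ≤ d * R.card := by
    rw [show N1 = (Finset.univ : Finset {P : Place F L // P.deg = 1}).card by simp [N1, Nat.card_eq_fintype_card]]
    exact Finset.card_le_mul_card_image_of_maps_to (fun P _ => hφR P) d hfib
  have hR : R.card ≤ Nat.card {x0 : F // ∃ t : F, (g.map (Polynomial.evalRingHom x0)).eval t = 0} + 1 := by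
    refine (Finset.card_insert_le _ _).trans ?_
    rw [Nat.card_eq_fintype_card, Fintype.card_subtype]
    exact Nat.add_le_add_right Finset.card_image_le 1
  calc (N1 : ℝ) ≤ ((d * R.card : ℕ) : ℝ) := by exact_mod_cast hN1
    _ ≤ _ := by
      rw [Nat.cast_mul]
      gcongr
      exact_mod_cast hR

omit [Algebra (RatFunc F) L] [Algebra F L] in
/-- Existence of the curve's function field. -/
theorem plane_count {g : F[X][X]} (hg : g.Monic) (hirr : AbsIrred g) {e : ℕ} (he : ∀ i, (g.coeff i).natDegree ≤ e) :
    ((Nat.card F : ℝ) + 1 - 2 * ((1 + g.natDegree * (e * g.natDegree) : ℕ) : ℝ) * Real.sqrt (Nat.card F)) ≤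
      g.natDegree * ((Nat.card {x0 : F // ∃ t : F, (g.map (Polynomial.evalRingHom x0)).eval t = 0} : ℝ) + 1) := by
  haveI := Fact.mk (irreducible_map_ratFunc hg (irreducible_self hg hirr))
  refine card_abscissae_ge (L := AdjoinRoot (g.map (algebraMap F[X] (RatFunc F)))) hg hirr
    (θ := AdjoinRoot.root _) ?_ ?_ he
  · rw [AdjoinRoot.aeval_eq, AdjoinRoot.mk_self]
  · have hne : g.map (algebraMap F[X] (RatFunc F)) ≠ 0 := (hg.map _).ne_zero
    rw [(AdjoinRoot.powerBasis hne).finrank, AdjoinRoot.powerBasis_dim, hg.natDegree_map]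

end Groth.L11.Zeta
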