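import Groth.Agent.L11.Zeta.Regular
import Groth.Agent.L11.Zeta.PlaneCount
import Mathlib.RingTheory.DedekindDomain.IntegralClosure
import Mathlib.RingTheory.Localization.Integral
import Mathlib.RingTheory.Localization.Away.Basic
import Mathlib.FieldTheory.Minpoly.IsIntegrallyClosed
import Mathlib.RingTheory.FiniteType

/-!
A finitely generated domain whose fraction field has transcendence degree one over a subfield `K₀` has many points
over the points of a model of `K₀`.
-/

set_option autoImplicit false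
universe u

open Polynomial

namespace Groth.L11.Zeta

/-- Every element of the field is a quotient of two elements of the subring. -/
def Gen {L : Type u} [Field L] (A : Subalgebra ℤ L) : Prop := ∀ z : L, ∃ a ∈ A, ∃ b ∈ A, b ≠ 0 ∧ z = a / b

theorem Gen.isFractionRing {L : Type u} [Field L] {A : Subalgebra ℤ L} (h : Gen A) : IsFractionRing A L :=
  IsFractionRing.of_field A L fun z => by
    obtain ⟨a, ha, b, hb, -, hz⟩ := h z
    exact ⟨⟨a, ha⟩, ⟨b, hb⟩, hz⟩

/-- The good abscissae on the fibres. -/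
theorem exists_count_good {B : Type u} [CommRing B] [IsDomain B] (K₀ : Type u) [Field K₀] [Algebra B K₀]
    [IsFractionRing B K₀] {g : B[X][X]} (hg : g.Monic) {e : ℕ} (he : ∀ i, (g.coeff i).natDegree ≤ e)
    (hd : 0 < g.natDegree)
    (hirr : Irreducible (g.map (Polynomial.mapRingHom ((algebraMap K₀ (AlgebraicClosure K₀)).comp (algebraMap B K₀)))))
    {s : B[X]} (hs : s ≠ 0) :
    ∃ D : B, D ≠ 0 ∧ ∃ C Q₀ : ℕ, ∀ (F : Type u) [Field F] [Finite F] (φ : B →+* F), φ D ≠ 0 → Q₀ ≤ Nat.card F →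
      ∃ G : Finset F, Nat.card F ≤ C * G.card ∧ ∀ x0 ∈ G, (s.map φ).eval x0 ≠ 0 ∧
        ∃ t : F, ((g.map (Polynomial.mapRingHom φ)).map (Polynomial.evalRingHom x0)).eval t = 0 := by
  classical
  obtain ⟨D, hD, hspec⟩ := exists_absIrred_spread K₀ hg he hd hirr
  set d := g.natDegree
  set G0 := 1 + d * (e * d)
  refine ⟨D * s.leadingCoeff, mul_ne_zero hD (Polynomial.leadingCoeff_ne_zero.mpr hs), 2 * d,
    64 * G0 ^ 2 + 4 * d * (2 + s.natDegree), fun F _ _ φ hφ hQ => ?_⟩
  haveI := Fintype.ofFinite F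
  rw [map_mul] at hφ
  have hirrF := hspec F φ (left_ne_zero_of_mul hφ)
  have hdF : (g.map (Polynomial.mapRingHom φ)).natDegree = d := hg.natDegree_map _
  have hcount := plane_count (hg.map (Polynomial.mapRingHom φ)) hirrF (e := e) fun i => by
    rw [Polynomial.coeff_map, Polynomial.coe_mapRingHom]
    exact Polynomial.natDegree_map_le.trans (he i)
  rw [hdF] at hcount
  have hs' : s.map φ ≠ 0 := fun h => right_ne_zero_of_mul hφ (by
    have := congrArg (fun r : F[X] => r.coeff s.natDegree) h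
    simp only [Polynomial.coeff_map, Polynomial.coeff_zero] at this
    exact this)
  let All := Finset.univ.filter fun x0 : F =>
    ∃ t : F, ((g.map (Polynomial.mapRingHom φ)).map (Polynomial.evalRingHom x0)).eval t = 0
  let G := All.filter fun x0 => (s.map φ).eval x0 ≠ 0
  refine ⟨G, ?_, fun x0 hx0 => ?_⟩
  · have h1 : All.card ≤ G.card + s.natDegree := by
      rw [← Finset.card_filter_add_card_filter_not (s := All) fun x0 => (s.map φ).eval x0 ≠ 0]
      refine Nat.add_le_add_left ?_ _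
      refine le_trans (Finset.card_le_card (t := (s.map φ).roots.toFinset) fun x hx => ?_)
        ((Multiset.toFinset_card_le _).trans ((Polynomial.card_roots' _).trans Polynomial.natDegree_map_le))
      rw [Multiset.mem_toFinset, Polynomial.mem_roots hs']
      exact not_not.mp (Finset.mem_filter.mp hx).2
    rw [Nat.card_eq_fintype_card (α := {x0 : F // _}), Fintype.card_subtype] at hcount
    change _ ≤ (d : ℝ) * ((All.card : ℝ) + 1) at hcount
    set Q : ℝ := (Nat.card F : ℝ) with hQdef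
    have hQ' : ((64 * G0 ^ 2 + 4 * d * (2 + s.natDegree) : ℕ) : ℝ) ≤ Q := by rw [hQdef]; exact_mod_cast hQ
    push_cast at hQ'
    have hsq : 8 * (G0 : ℝ) ≤ Real.sqrt Q := by
      refine Real.le_sqrt_of_sq_le ?_
      have : (0 : ℝ) ≤ 4 * d * (2 + s.natDegree) := by positivity
      nlinarith
    have hG : 2 * (G0 : ℝ) * Real.sqrt Q ≤ Q / 4 := by
      have h2 := mul_le_mul_of_nonneg_right hsq (Real.sqrt_nonneg Q)
      rw [Real.mul_self_sqrt (Nat.cast_nonneg _)] at h2
      linarith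
    have h1' : (All.card : ℝ) ≤ G.card + s.natDegree := by exact_mod_cast h1
    have h3 : (d : ℝ) * ((All.card : ℝ) + 1) ≤ d * ((G.card : ℝ) + s.natDegree + 1) := by
      gcongr
    have : Q ≤ ((2 * d * G.card : ℕ) : ℝ) := by
      push_cast
      nlinarith
    rw [hQdef] at this
    exact_mod_cast this
  · exact ⟨(Finset.mem_filter.mp hx0).2, (Finset.mem_filter.mp (Finset.mem_filter.mp hx0).1).2⟩

section

variable {K₀ : Type u} [Field K₀] {L : Type u} [Field L] [Algebra (RatFunc K₀) L] [Algebra K₀ L]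
  [IsScalarTower K₀ (RatFunc K₀) L] [FiniteDimensional (RatFunc K₀) L] [Algebra.IsSeparable (RatFunc K₀) L]
  (hclosed : ∀ z : L, IsIntegral K₀ z → z ∈ Set.range (algebraMap K₀ L))

include hclosed in
/-- An integral primitive element with an absolutely irreducible equation. -/
theorem exists_equation : ∃ (θ : L) (g : K₀[X][X]), g.Monic ∧ 0 < g.natDegree ∧
    Polynomial.aeval θ (g.map (algebraMap K₀[X] (RatFunc K₀))) = 0 ∧
    Irreducible (g.map (algebraMap K₀[X] (RatFunc K₀))) ∧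
    (∀ z : L, ∃ q : (RatFunc K₀)[X], Polynomial.aeval θ q = z) ∧
    Irreducible (g.map (Polynomial.mapRingHom (algebraMap K₀ (AlgebraicClosure K₀)))) := by
  classical
  set R := RatFunc K₀
  obtain ⟨θ0, hθ0⟩ := Field.exists_primitive_element R L
  letI : Algebra K₀[X] L := ((algebraMap R L).comp (algebraMap K₀[X] R)).toAlgebra
  haveI : IsScalarTower K₀[X] R L := IsScalarTower.of_algebraMap_eq' rfl
  obtain ⟨y, hy, hint⟩ := exists_integral_multiples K₀[X] R (L := L) {θ0}
  set θ := y • θ0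
  have hθi : IsIntegral K₀[X] θ := hint θ0 (Finset.mem_singleton_self _)
  have hy' : algebraMap K₀[X] R y ≠ 0 := (map_ne_zero_iff _ (RatFunc.algebraMap_injective K₀)).mpr hy
  have hθtop : IntermediateField.adjoin R ({θ} : Set L) = ⊤ := by
    rw [← hθ0]
    refine le_antisymm (hθ0 ▸ le_top) (IntermediateField.adjoin_simple_le_iff.mpr ?_)
    have h1 : θ0 = algebraMap R L (algebraMap K₀[X] R y)⁻¹ * θ := by
      rw [show θ = algebraMap R L (algebraMap K₀[X] R y) * θ0 from Algebra.smul_def y θ0, ← mul_assoc, ← map_mul,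
        inv_mul_cancel₀ hy', map_one, one_mul]
    rw [h1]
    exact mul_mem (IntermediateField.algebraMap_mem _ _) (IntermediateField.mem_adjoin_simple_self _ _)
  set g := minpoly K₀[X] θ with hgdef
  have hg : g.Monic := minpoly.monic hθi
  have hgmap : g.map (algebraMap K₀[X] R) = minpoly R θ := (minpoly.isIntegrallyClosed_eq_field_fractions' R hθi).symm
  have hRi : IsIntegral R θ := IsIntegral.of_finite R θ
  have hfin : Module.finrank R L = g.natDegree := by
    rw [← IntermediateField.finrank_top', ← hθtop, IntermediateField.adjoin.finrank hRi, ← hgmap, hg.natDegree_map]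
  have hθ' : Polynomial.aeval θ (g.map (algebraMap K₀[X] R)) = 0 := by rw [hgmap, minpoly.aeval]
  have hirr : Irreducible g := minpoly.irreducible hθi
  have hd : 0 < g.natDegree := minpoly.natDegree_pos hθi
  have hsep : Polynomial.derivative g ≠ 0 := fun h0 => by
    have h1 : (minpoly R θ).Separable := Algebra.IsSeparable.isSeparable R θ
    rw [← hgmap, Polynomial.separable_def, Polynomial.derivative_map, h0, Polynomial.map_zero, isCoprime_zero_right] at h1
    have := Polynomial.natDegree_eq_zero_of_isUnit h1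
    rw [hg.natDegree_map] at this
    omega
  refine ⟨θ, g, hg, hd, hθ', irreducible_map_ratFunc hg hirr, fun z => ?_, irreducible_map_algClosure hg hθ' hfin hirr hclosed hsep⟩
  have hz : z ∈ Algebra.adjoin R ({θ} : Set L) := by
    rw [← IntermediateField.adjoin_simple_toSubalgebra_of_isAlgebraic hRi.isAlgebraic, hθtop]; trivial
  rw [Algebra.adjoin_singleton_eq_range_aeval] at hz
  exact hz

/-- Finitely many elements of a field are fractions with a common denominator. -/
theorem exists_common_denominator {B₀ : Subalgebra ℤ K₀} (h : Gen B₀) (S : Finset K₀) :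
    ∃ D ∈ B₀, D ≠ 0 ∧ ∀ c ∈ S, c * D ∈ B₀ := by
  classical
  induction S using Finset.induction_on with
  | empty => exact ⟨1, B₀.one_mem, one_ne_zero, by simp⟩
  | insert c S _ ih =>
    obtain ⟨D, hD, hD0, hS⟩ := ih
    obtain ⟨a, ha, b, hb, hb0, rfl⟩ := h c
    refine ⟨D * b, B₀.mul_mem hD hb, mul_ne_zero hD0 hb0, fun c hc => ?_⟩
    rcases Finset.mem_insert.mp hc with rfl | hc
    · rw [show a / b * (D * b) = D * a by field_simp]
      exact B₀.mul_mem hD ha
    · rw [← mul_assoc]; exact B₀.mul_mem (hS c hc) hb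

include hclosed in
/-- Many points over the points of a model of the constants. -/
theorem exists_family (B₀ : Subalgebra ℤ K₀) (hB₀ : B₀.FG) (hgen₀ : Gen B₀) (A : Subalgebra ℤ L) (hA : A.FG)
    (hgen : Gen A) :
    ∃ (Bf : Subalgebra ℤ K₀), Bf.FG ∧ Gen Bf ∧ ∃ (S : Finset Bf) (a : Bf → A) (u ax : A) (C Q₀ : ℕ),
      (∀ (F : Type u) [Field F] [Finite F] (φ : Bf →+* F) (T : Subring F), (∀ b ∈ S, φ b ∈ T) → ∀ b, φ b ∈ T) ∧
      (∀ (F : Type u) [Field F] (φ φ' : Bf →+* F), (∀ b ∈ S, φ b = φ' b) → φ = φ') ∧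
      ∀ (F : Type u) [Field F] [Finite F] (φ : Bf →+* F), Q₀ ≤ Nat.card F →
        ∃ G : Finset F, Nat.card F ≤ C * G.card ∧ ∀ x0 ∈ G, ∃ ψ : A →+* F,
          ψ u ≠ 0 ∧ ψ ax = x0 * ψ u ∧ ∀ b ∈ S, ψ (a b) = φ b * ψ u := by
  classical
  set R := RatFunc K₀
  obtain ⟨θ, g, hg, hd, hθ, hirrR, hspan, hirrK⟩ := exists_equation hclosed
  set x : L := algebraMap R L RatFunc.X with hxdef
  let ι : K₀ →+* L := algebraMap K₀ L
  obtain ⟨S₀, hS₀⟩ := hB₀
  obtain ⟨SA, hSA⟩ := hA
  -- `u`
  choose num hnum den hden hden0 hfrac using hgen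
  let Z : Finset L := insert x (insert θ (S₀.image ι))
  set u : L := ∏ z ∈ Z, den z with hudef
  have huA : u ∈ A := Subalgebra.prod_mem _ fun z _ => hden z
  have hu0 : u ≠ 0 := Finset.prod_ne_zero_iff.mpr fun z _ => hden0 z
  have hZ : ∀ z ∈ Z, z * u ∈ A := fun z hz => by
    rw [hudef, ← Finset.mul_prod_erase Z den hz, ← mul_assoc]
    nth_rewrite 1 [hfrac z]
    rw [div_mul_cancel₀ _ (hden0 z)]
    exact A.mul_mem (hnum z) (Subalgebra.prod_mem _ fun z _ => hden z)
  -- polynomial expressions for the generators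
  let W : Finset L := insert u⁻¹ SA
  have hclear : ∀ w : L, ∃ (P : K₀[X][X]) (s : K₀[X]), s ≠ 0 ∧
      Polynomial.aeval θ (P.map (algebraMap K₀[X] R)) = algebraMap R L (algebraMap K₀[X] R s) * w := fun w => by
    obtain ⟨q, hq⟩ := hspan w
    obtain ⟨⟨s, hs⟩, hs'⟩ := IsLocalization.integerNormalization_map_to_map (nonZeroDivisors K₀[X]) q
    refine ⟨IsLocalization.integerNormalization (nonZeroDivisors K₀[X]) q, s, nonZeroDivisors.ne_zero hs, ?_⟩
    rw [hs', show (s • q) = Polynomial.C (algebraMap K₀[X] R s) * q by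
      rw [← algebraMap_smul R s q, Polynomial.smul_eq_C_mul], map_mul, Polynomial.aeval_C, hq]
  choose P s hs hP using hclear
  let S : K₀[X] := ∏ w ∈ W, s w
  have hS : S ≠ 0 := Finset.prod_ne_zero_iff.mpr fun w _ => hs w
  -- the model of the constants
  let cs : K₀[X][X] → Finset K₀ := fun p => (Finset.range (p.natDegree + 1)).biUnion fun i => (p.coeff i).coeffs
  obtain ⟨D, hDB, hD0, hD⟩ := exists_common_denominator hgen₀ (cs g ∪ W.biUnion (fun w => cs (P w)) ∪ W.biUnion (fun w => (s w).coeffs))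
  let B₁ : Subalgebra ℤ K₀ := Algebra.adjoin ℤ (insert D⁻¹ (↑S₀ : Set K₀))
  have hB₀₁ : B₀ ≤ B₁ := hS₀ ▸ Algebra.adjoin_mono (Set.subset_insert _ _)
  have hgen₁ : Gen B₁ := fun z => by
    obtain ⟨a, ha, b, hb, hb0, h⟩ := hgen₀ z
    exact ⟨a, hB₀₁ ha, b, hB₀₁ hb, hb0, h⟩
  haveI : IsFractionRing B₁ K₀ := hgen₁.isFractionRing
  have hcB : ∀ c ∈ cs g ∪ W.biUnion (fun w => cs (P w)) ∪ W.biUnion (fun w => (s w).coeffs), c ∈ B₁ := fun c hc => by
    have h1 : c = c * D * D⁻¹ := by rw [mul_assoc, mul_inv_cancel₀ hD0, mul_one]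
    rw [h1]
    exact B₁.mul_mem (hB₀₁ (hD c hc)) (Algebra.subset_adjoin (Set.mem_insert _ _))
  let j : B₁ →+* K₀ := algebraMap B₁ K₀
  have hjinj : Function.Injective j := Subtype.val_injective
  have hlift1 : ∀ p : K₀[X], (∀ c ∈ p.coeffs, c ∈ B₁) → ∃ p₁ : (B₁ : Type u)[X], p₁.map j = p := fun p hp => by
    refine (Polynomial.mem_lifts p).mp ((Polynomial.lifts_iff_coeff_lifts p).mpr fun n => ?_)
    by_cases h0 : p.coeff n = 0
    · exact ⟨0, by rw [map_zero, h0]⟩
    · exact ⟨⟨_, hp _ (Polynomial.coeff_mem_coeffs h0)⟩, rfl⟩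
  have hlift2 : ∀ p : K₀[X][X], (∀ c ∈ cs p, c ∈ B₁) → ∃ p₁ : (B₁ : Type u)[X][X], p₁.map (Polynomial.mapRingHom j) = p :=
    fun p hp => by
      refine (Polynomial.mem_lifts p).mp ((Polynomial.lifts_iff_coeff_lifts p).mpr fun n => ?_)
      by_cases h0 : p.coeff n = 0
      · exact ⟨0, by rw [map_zero, h0]⟩
      · obtain ⟨p₁, hp₁⟩ := hlift1 (p.coeff n) fun c hc => hp c (Finset.mem_biUnion.mpr
          ⟨n, Finset.mem_range.mpr (Nat.lt_succ_of_le (Polynomial.le_natDegree_of_ne_zero h0)), hc⟩)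
        exact ⟨p₁, hp₁⟩
  obtain ⟨g₁, hg₁⟩ := hlift2 g fun c hc => hcB c (Finset.mem_union_left _ (Finset.mem_union_left _ hc))
  have hP₁ : ∀ w : W, ∃ p₁ : (B₁ : Type u)[X][X], p₁.map (Polynomial.mapRingHom j) = P w := fun w =>
    hlift2 _ fun c hc => hcB c (Finset.mem_union_left _ (Finset.mem_union_right _ (Finset.mem_biUnion.mpr ⟨w, w.2, hc⟩)))
  have hs₁ : ∀ w : W, ∃ p₁ : (B₁ : Type u)[X], p₁.map j = s w := fun w =>
    hlift1 _ fun c hc => hcB c (Finset.mem_union_right _ (Finset.mem_biUnion.mpr ⟨w, w.2, hc⟩))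
  choose P₁ hP₁ using hP₁
  choose s₁ hs₁ using hs₁
  let S₁ : (B₁ : Type u)[X] := ∏ w, s₁ w
  have hS₁ : S₁.map j = S := by
    rw [Polynomial.map_prod]
    change _ = ∏ w ∈ W, s w
    rw [← Finset.prod_coe_sort W s]
    exact Finset.prod_congr rfl fun w _ => hs₁ w
  have hS₁0 : S₁ ≠ 0 := fun h => hS (by rw [← hS₁, h, Polynomial.map_zero])
  have hj2inj : Function.Injective (Polynomial.mapRingHom j) := Polynomial.map_injective _ hjinj
  have hg₁m : g₁.Monic := Polynomial.monic_of_injective hj2inj (by rw [hg₁]; exact hg)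
  have hd₁ : 0 < g₁.natDegree := by rw [← hg₁m.natDegree_map (Polynomial.mapRingHom j), hg₁]; exact hd
  have hirr₁ : Irreducible (g₁.map (Polynomial.mapRingHom ((algebraMap K₀ (AlgebraicClosure K₀)).comp (algebraMap B₁ K₀)))) := by
    rw [← Polynomial.mapRingHom_comp, ← Polynomial.map_map, hg₁]
    exact hirrK
  obtain ⟨D₁, hD₁, C, Q₀, hcount⟩ := exists_count_good (B := B₁) K₀ hg₁m (e := g₁.support.sup fun i => (g₁.coeff i).natDegree)
    (fun i => by
      by_cases h0 : g₁.coeff i = 0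
      · simp [h0]
      · exact Finset.le_sup (f := fun i => (g₁.coeff i).natDegree) (Polynomial.mem_support_iff.mpr h0))
    hd₁ hirr₁ hS₁0
  let Bf : Subalgebra ℤ K₀ := Algebra.adjoin ℤ (↑(insert D⁻¹ (insert (D₁ : K₀)⁻¹ S₀)) : Set K₀)
  have h1f : B₁ ≤ Bf := Algebra.adjoin_mono (by
    rw [Finset.coe_insert, Finset.coe_insert]
    exact Set.insert_subset_insert (Set.subset_insert _ _))
  have hS₀f : ∀ b ∈ S₀, b ∈ Bf := fun b hb => h1f (hB₀₁ (hS₀ ▸ Algebra.subset_adjoin hb))
  let e₁ : B₁ →+* Bf := (Subalgebra.inclusion h1f).toRingHom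
  -- closure principles
  have hclosure : ∀ (M : Set Bf), (∀ b ∈ S₀, ∀ h : b ∈ Bf, (⟨b, h⟩ : Bf) ∈ M) → (∀ n : ℤ, (n : Bf) ∈ M) →
      (∀ a b, a ∈ M → b ∈ M → a + b ∈ M) → (∀ a b, a ∈ M → b ∈ M → a * b ∈ M) →
      (∀ a b : Bf, a ∈ M → a * b = 1 → b ∈ M) → ∀ b, b ∈ M := by
    intro M hgenM hint hadd hmul hinv b
    have hB₀M : ∀ c (hc : c ∈ B₀) (h : c ∈ Bf), (⟨c, h⟩ : Bf) ∈ M := fun c hc => by
      rw [← hS₀] at hc
      induction hc using Algebra.adjoin_induction with
      | mem c hc => exact hgenM c hc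
      | algebraMap n => exact fun h => (show (⟨_, h⟩ : Bf) = (n : Bf) from Subtype.ext (by simp)) ▸ hint n
      | add c c' hc hc' h h' =>
        exact fun _ => hadd _ _ (h (h1f (hB₀₁ (hS₀ ▸ hc)))) (h' (h1f (hB₀₁ (hS₀ ▸ hc'))))
      | mul c c' hc hc' h h' =>
        exact fun _ => hmul _ _ (h (h1f (hB₀₁ (hS₀ ▸ hc)))) (h' (h1f (hB₀₁ (hS₀ ▸ hc'))))
    have hB₁M : ∀ c (hc : c ∈ B₁) (h : c ∈ Bf), (⟨c, h⟩ : Bf) ∈ M := fun c hc => by
      induction hc using Algebra.adjoin_induction with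
      | mem c hc =>
        rcases hc with rfl | hc
        · exact fun h => hinv ⟨D, h1f (hB₀₁ hDB)⟩ _ (hB₀M D hDB _) (Subtype.ext (mul_inv_cancel₀ hD0))
        · exact hgenM c hc
      | algebraMap n => exact fun h => (show (⟨_, h⟩ : Bf) = (n : Bf) from Subtype.ext (by simp)) ▸ hint n
      | add c c' hc hc' h h' => exact fun _ => hadd _ _ (h (h1f hc)) (h' (h1f hc'))
      | mul c c' hc hc' h h' => exact fun _ => hmul _ _ (h (h1f hc)) (h' (h1f hc'))
    obtain ⟨b, hb⟩ := b
    have key : ∀ h : b ∈ Bf, (⟨b, h⟩ : Bf) ∈ M := by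
      induction hb using Algebra.adjoin_induction with
      | mem c hc =>
        rw [Finset.coe_insert, Finset.coe_insert] at hc
        rcases hc with rfl | rfl | hc
        · exact fun h => hB₁M _ (Algebra.subset_adjoin (Set.mem_insert _ _)) h
        · exact fun h => hinv ⟨D₁, h1f D₁.2⟩ _ (hB₁M _ D₁.2 _)
            (Subtype.ext (mul_inv_cancel₀ fun h0 => hD₁ (Subtype.ext h0)))
        · exact hgenM c hc
      | algebraMap n => exact fun h => (show (⟨_, h⟩ : Bf) = (n : Bf) from Subtype.ext (by simp)) ▸ hint n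
      | add c c' hc hc' h h' => exact fun _ => hadd _ _ (h hc) (h' hc')
      | mul c c' hc hc' h h' => exact fun _ => hmul _ _ (h hc) (h' hc')
    exact key hb
  let SB : Finset Bf := S₀.attach.image fun b => ⟨b.1, hS₀f b.1 b.2⟩
  have hSB : ∀ b ∈ S₀, ∀ h : b ∈ Bf, (⟨b, h⟩ : Bf) ∈ SB := fun b hb h =>
    Finset.mem_image.mpr ⟨⟨b, hb⟩, Finset.mem_attach _ _, rfl⟩
  let a : Bf → A := fun b => if h : ι b * u ∈ A then ⟨_, h⟩ else 0
  refine ⟨Bf, ⟨_, rfl⟩, fun z => ?_, SB, a, ⟨u, huA⟩, ⟨x * u, hZ x (Finset.mem_insert_self _ _)⟩, C, Q₀,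
    fun F _ _ φ T hT => ?_, fun F _ φ φ' h => ?_, fun F _ _ φ hQ => ?_⟩
  · obtain ⟨a, ha, b, hb, hb0, h⟩ := hgen₁ z
    exact ⟨a, h1f ha, b, h1f hb, hb0, h⟩
  · haveI := Fintype.ofFinite F
    refine hclosure {b | φ b ∈ T} (fun b hb h => hT _ (hSB b hb h)) (fun n => by simp [intCast_mem])
      (fun a b ha hb => by simpa using T.add_mem ha hb) (fun a b ha hb => by simpa using T.mul_mem ha hb)
      fun a b ha hab => ?_
    have h1 : φ a * φ b = 1 := by rw [← map_mul, hab, map_one]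
    have h2 : φ b = φ a ^ (Fintype.card F - 2) := by
      have hne : φ a ≠ 0 := left_ne_zero_of_mul_eq_one h1
      refine mul_left_cancel₀ hne ?_
      rw [h1, ← pow_succ', show Fintype.card F - 2 + 1 = Fintype.card F - 1 by
        have := Fintype.one_lt_card (α := F); omega, FiniteField.pow_card_sub_one_eq_one _ hne]
    change φ b ∈ T
    rw [h2]; exact T.pow_mem ha _
  · refine RingHom.ext (hclosure {b | φ b = φ' b} (fun b hb hb' => h _ (hSB b hb hb')) (fun n => by simp)
      (fun a b (ha : φ a = φ' a) (hb : φ b = φ' b) => by simp [ha, hb])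
      (fun a b (ha : φ a = φ' a) (hb : φ b = φ' b) => by simp [ha, hb]) fun a b (ha : φ a = φ' a) hab => ?_)
    have h1 : φ a * φ b = 1 := by rw [← map_mul, hab, map_one]
    have h2 : φ' a * φ' b = 1 := by rw [← map_mul, hab, map_one]
    rw [← ha, ← h1] at h2
    exact (mul_left_cancel₀ (left_ne_zero_of_mul_eq_one h1) h2).symm
  set φ₁ := φ.comp e₁
  have hφD : φ₁ D₁ ≠ 0 := fun h => by
    have hmem : (D₁ : K₀)⁻¹ ∈ Bf := Algebra.subset_adjoin
      (Finset.mem_insert_of_mem (Finset.mem_insert_self _ _))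
    have h1 : e₁ D₁ * ⟨_, hmem⟩ = 1 := Subtype.ext (mul_inv_cancel₀ fun h0 => hD₁ (Subtype.ext h0))
    have h2 := congrArg φ h1
    rw [map_mul, map_one, show φ (e₁ D₁) = 0 from h, zero_mul] at h2
    exact zero_ne_one h2
  obtain ⟨G, hGcard, hG⟩ := hcount F φ₁ hφD hQ
  refine ⟨G, hGcard, fun x0 hx0 => ?_⟩
  obtain ⟨hsx0, t, ht⟩ := hG x0 hx0
  -- evaluation in `L` and in `F`
  let c : (B₁ : Type u)[X] →+* L := (algebraMap R L).comp ((algebraMap K₀[X] R).comp (Polynomial.mapRingHom j))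
  have hc : ∀ p, c p = algebraMap R L (algebraMap K₀[X] R (p.map j)) := fun p => rfl
  have hce : ∀ p : (B₁ : Type u)[X][X], p.eval₂ c θ =
      Polynomial.aeval θ ((p.map (Polynomial.mapRingHom j)).map (algebraMap K₀[X] R)) := fun p => by
    rw [Polynomial.aeval_def, Polynomial.eval₂_map, Polynomial.eval₂_map]
    rfl
  let evL : AdjoinRoot g₁ →+* L := AdjoinRoot.lift c θ (by rw [hce, hg₁, hθ])
  let evF : AdjoinRoot g₁ →+* F := AdjoinRoot.lift (Polynomial.eval₂RingHom φ₁ x0) t (by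
    rw [show Polynomial.eval₂RingHom φ₁ x0 = (Polynomial.evalRingHom x0).comp (Polynomial.mapRingHom φ₁) from
      Polynomial.ringHom_ext (fun b => by simp) (by simp), ← Polynomial.eval₂_map, ← Polynomial.eval_map]
    exact ht)
  have hevLinj : Function.Injective evL := by
    rw [injective_iff_map_eq_zero]
    intro z hz
    induction z using AdjoinRoot.induction_on with
    | ih p =>
      rw [AdjoinRoot.lift_mk, hce] at hz
      have hdvd := minpoly.dvd R θ hz
      rw [← minpoly.eq_of_irreducible_of_monic hirrR hθ (hg.map _),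
        ← Polynomial.modByMonic_eq_zero_iff_dvd (hg.map _), ← Polynomial.map_modByMonic _ hg, ← hg₁,
        ← Polynomial.map_modByMonic _ hg₁m] at hdvd
      rw [AdjoinRoot.mk_eq_zero, ← Polynomial.modByMonic_eq_zero_iff_dvd hg₁m]
      exact Polynomial.map_injective _ hj2inj (by
        rw [Polynomial.map_zero]
        exact Polynomial.map_injective _ (RatFunc.algebraMap_injective K₀) (by rw [Polynomial.map_zero]; exact hdvd))
  let sA : AdjoinRoot g₁ := AdjoinRoot.of g₁ S₁
  have hsL : IsUnit (evL sA) := by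
    rw [isUnit_iff_ne_zero, AdjoinRoot.lift_of, hc, hS₁]
    exact (_root_.map_ne_zero _).mpr ((map_ne_zero_iff _ (RatFunc.algebraMap_injective K₀)).mpr hS)
  have hsF : IsUnit (evF sA) := by
    rw [isUnit_iff_ne_zero, AdjoinRoot.lift_of, Polynomial.coe_eval₂RingHom, ← Polynomial.eval_map]
    exact hsx0
  let EL : Localization.Away sA →+* L := IsLocalization.Away.lift sA hsL
  let EF : Localization.Away sA →+* F := IsLocalization.Away.lift sA hsF
  have hEL : ∀ z, EL (algebraMap _ _ z) = evL z := fun z => IsLocalization.Away.lift_eq sA hsL z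
  have hEF : ∀ z, EF (algebraMap _ _ z) = evF z := fun z => IsLocalization.Away.lift_eq sA hsF z
  have hELinj : Function.Injective EL := by
    refine (IsLocalization.lift_injective_iff _).mpr fun p q => ⟨fun h => ?_, fun h => congrArg _ (hevLinj h)⟩
    rw [← hEL p, h, hEL]
  have hW : ∀ w ∈ W, w ∈ EL.range := fun w hw => by
    obtain ⟨r, hr⟩ := IsLocalization.Away.algebraMap_isUnit (S := Localization.Away sA) sA |>.exists_left_inv
    refine RingHom.mem_range.mpr ⟨r * algebraMap _ _ (AdjoinRoot.mk g₁ (P₁ ⟨w, hw⟩) *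
      AdjoinRoot.of g₁ (∏ v ∈ Finset.univ.erase ⟨w, hw⟩, s₁ v)), ?_⟩
    have h1 : evL sA * EL r = 1 := by rw [← hEL, ← map_mul, mul_comm, hr, map_one]
    have h2 : evL (AdjoinRoot.mk g₁ (P₁ ⟨w, hw⟩) * AdjoinRoot.of g₁ (∏ v ∈ Finset.univ.erase ⟨w, hw⟩, s₁ v)) =
        w * evL sA := by
      rw [map_mul, AdjoinRoot.lift_mk, hce, hP₁, hP, AdjoinRoot.lift_of, AdjoinRoot.lift_of, ← hs₁ ⟨w, hw⟩, ← hc,
        show S₁ = s₁ ⟨w, hw⟩ * ∏ v ∈ Finset.univ.erase (⟨w, hw⟩ : W), s₁ v from
          (Finset.mul_prod_erase _ _ (Finset.mem_univ _)).symm, map_mul]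
      ring
    rw [map_mul, hEL, h2, mul_comm (EL r), mul_assoc, h1, mul_one]
  have hAle : ∀ z ∈ A, z ∈ EL.range := fun z hz => by
    rw [← hSA] at hz
    induction hz using Algebra.adjoin_induction with
    | mem z hz => exact hW z (Finset.mem_insert_of_mem hz)
    | algebraMap n => simpa using intCast_mem _ n
    | add z z' _ _ h h' => exact add_mem h h'
    | mul z z' _ _ h h' => exact mul_mem h h'
  let eEL : Localization.Away sA ≃+* EL.range := RingEquiv.ofBijective EL.rangeRestrict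
    ⟨fun a b h => hELinj (congrArg Subtype.val h), RingHom.rangeRestrict_surjective EL⟩
  let incl : A →+* EL.range := (A.val.toRingHom).codRestrict EL.range fun z => hAle z z.2
  let ψ : A →+* F := EF.comp ((eEL.symm : EL.range →+* Localization.Away sA).comp incl)
  have hψ : ∀ (z : A) (r : Localization.Away sA), EL r = (z : L) → ψ z = EF r := fun z r h => by
    change EF (eEL.symm (incl z)) = EF r
    rw [← eEL.symm_apply_apply r]
    congr 2
    exact Subtype.ext h.symm
  obtain ⟨ru, hru⟩ := RingHom.mem_range.mp (hAle u huA)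
  obtain ⟨ri, hri⟩ := RingHom.mem_range.mp (hW u⁻¹ (Finset.mem_insert_self _ _))
  have hψu : ψ ⟨u, huA⟩ ≠ 0 := by
    rw [hψ _ ru hru]
    have h1 : ru * ri = 1 := hELinj (by rw [map_mul, hru, hri, map_one, mul_inv_cancel₀ hu0])
    exact left_ne_zero_of_mul_eq_one (b := EF ri) (by rw [← map_mul, h1, map_one])
  refine ⟨ψ, hψu, ?_, fun b hb => ?_⟩
  · rw [hψ _ (algebraMap _ _ (AdjoinRoot.of g₁ Polynomial.X) * ru)
      (by rw [map_mul, hEL, hru, AdjoinRoot.lift_of, hc]; simp [x, R, RatFunc.algebraMap_X]), map_mul, hEF, hψ _ ru hru]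
    simp [evF]
  · obtain ⟨⟨b₀, hb₀⟩, -, rfl⟩ := Finset.mem_image.mp hb
    have hmem : ι b₀ * u ∈ A := hZ _ (Finset.mem_insert_of_mem (Finset.mem_insert_of_mem (Finset.mem_image_of_mem ι hb₀)))
    have hb₁ : b₀ ∈ B₁ := hB₀₁ (hS₀ ▸ Algebra.subset_adjoin hb₀)
    rw [show a ⟨b₀, _⟩ = ⟨_, hmem⟩ from dif_pos hmem,
      hψ _ (algebraMap _ _ (AdjoinRoot.of g₁ (Polynomial.C ⟨b₀, hb₁⟩)) * ru) (by
        rw [map_mul, hEL, hru, AdjoinRoot.lift_of, hc, Polynomial.map_C, RatFunc.algebraMap_C]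
        change algebraMap R L (algebraMap K₀ R b₀) * u = _
        rw [← IsScalarTower.algebraMap_apply]),
      map_mul, hEF, hψ _ ru hru]
    simp only [evF, AdjoinRoot.lift_of, Polynomial.coe_eval₂RingHom, Polynomial.eval₂_C]
    rfl

end

end Groth.L11.Zeta
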