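import Groth.Prelude.Def_FinFr
import Groth.Agent.L11.Weil.FixedPts
import Groth.Agent.L11.Weil.Points
import Mathlib.AlgebraicGeometry.AlgClosed.Basic
import Mathlib.AlgebraicGeometry.Morphisms.Integral
import Mathlib.AlgebraicGeometry.Morphisms.UniversallyClosed
import Mathlib.FieldTheory.Finite.Basic
import Mathlib.FieldTheory.Finite.GaloisField
import Mathlib.FieldTheory.IsAlgClosed.AlgebraicClosure

/-! Fibres of `X ×_k k̄ → X` and Frobenius. -/

set_option autoImplicit false
universe u

open AlgebraicGeometry CategoryTheory CategoryTheory.Limits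

namespace Groth.L11.FrobFibre

attribute [local instance] Curv2.resAlgebra

variable {k : Type u} [Field k] [Finite k] {K : Type u} [Field K] [Algebra k K] [IsAlgClosed K]

theorem exists_frob_pow_comp (L : Type u) [Field L] [Algebra k L] [FiniteDimensional k L] (ψ ψ' : L →ₐ[k] K) :
    ∃ n : ℕ, ∀ a, ψ' a = ψ a ^ (Nat.card k ^ n) := by
  haveI : Finite L := Module.finite_of_finite k
  haveI : Fintype k := Fintype.ofFinite k
  let Φ : (L ≃ₐ[k] L) → (L →ₐ[k] K) := fun σ => ψ.comp σ.toAlgHom
  have hinj : Function.Injective Φ := fun σ τ h => AlgEquiv.ext fun a => ψ.injective (DFunLike.congr_fun h a)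
  have hbij : Function.Bijective Φ := by
    refine (Nat.bijective_iff_injective_and_card Φ).2 ⟨hinj, ?_⟩
    rw [IsGalois.card_aut_eq_finrank, Nat.card_eq_fintype_card, AlgHom.card]
  obtain ⟨σ, hσ⟩ := hbij.2 ψ'
  obtain ⟨i, hi⟩ := (FiniteField.bijective_frobeniusAlgEquivOfAlgebraic_pow k L).2 σ
  refine ⟨i, fun a => ?_⟩
  rw [← hσ, ← hi]
  change ψ ((FiniteField.frobeniusAlgEquivOfAlgebraic k L ^ (i : ℕ)) a) = _
  rw [AlgEquiv.coe_pow, FiniteField.coe_frobeniusAlgEquivOfAlgebraic_iterate, map_pow, Nat.card_eq_fintype_card]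

theorem preimage_image_eq {X : Scheme.{u}} (f : X ⟶ Spec (CommRingCat.of k)) [LocallyOfFiniteType f]
    [QuasiCompact f] [Algebra.IsAlgebraic k K] (FX : X ⟶ X) (hFb : FX.base = 𝟙 _) (hle : ∀ U : X.Opens, U ≤ FX ⁻¹ᵁ U)
    (hFapp : ∀ (U : X.Opens) (s : Γ(X, U)), (FX.appLE U U (hle U)).hom s = s ^ Nat.card k)
    (F : FinFr.ext K f ⟶ FinFr.ext K f) (hF1 : F ≫ FinFr.extπ K f = FinFr.extπ K f ≫ FX)
    (hF2 : F ≫ FinFr.extStr K f = FinFr.extStr K f)
    (W : Set ↑(FinFr.ext K f)) (hW : IsClosed W) (hFW : F.base '' W ⊆ W) :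
    IsClosed ((FinFr.extπ K f).base '' W) ∧
      (FinFr.extπ K f).base ⁻¹' ((FinFr.extπ K f).base '' W) = W := by
  classical
  letI : X.Over (Spec (CommRingCat.of k)) := ⟨f⟩
  haveI : LocallyOfFiniteType (X ↘ Spec (CommRingCat.of k)) := ‹LocallyOfFiniteType f›
  haveI : CompactSpace X := QuasiCompact.compactSpace_of_compactSpace f
  haveI : IsIntegralHom (FinFr.specι k K) := by
    rw [IsIntegralHom.SpecMap_iff]
    exact fun x => Algebra.IsIntegral.isIntegral (R := k) (A := K) x
  haveI : IsIntegralHom (FinFr.extπ K f) := MorphismProperty.pullback_fst _ _ inferInstance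
  have hcl : IsClosedMap (FinFr.extπ K f).base := (FinFr.extπ K f).isClosedMap
  haveI : JacobsonSpace ↥(FinFr.ext K f) := LocallyOfFiniteType.jacobsonSpace (FinFr.extStr K f)
  have hY := hcl W hW
  refine ⟨hY, Set.Subset.antisymm ?_ (Set.subset_preimage_image _ _)⟩
  have hC : IsClosed ((FinFr.extπ K f).base ⁻¹' ((FinFr.extπ K f).base '' W)) :=
    hY.preimage (FinFr.extπ K f).continuous
  rw [← closure_inter_closedPoints hC]
  refine closure_minimal ?_ hW
  rintro b ⟨⟨w, hwW, hwy⟩, hb⟩
  -- a closed point of `W` in the fibre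
  set y := (FinFr.extπ K f).base b with hy
  have hyc : IsClosed ({y} : Set X) := by
    rw [← Set.image_singleton]; exact hcl _ hb
  obtain ⟨a, ⟨haW, hay⟩, ha⟩ := nonempty_inter_closedPoints (Z := W ∩ (FinFr.extπ K f).base ⁻¹' {y})
    ⟨w, hwW, hwy⟩ (hW.inter (hyc.preimage (FinFr.extπ K f).continuous)).isLocallyClosed
  let ha' := pointOfClosedPoint (FinFr.extStr K f) a ha
  let hb' := pointOfClosedPoint (FinFr.extStr K f) b hb
  let c : ↥(Spec (CommRingCat.of K)) := IsLocalRing.closedPoint K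
  have key : ∀ p : Spec (CommRingCat.of K) ⟶ FinFr.ext K f, p ≫ FinFr.extStr K f = 𝟙 _ →
      (FinFr.extπ K f).base (p.base c) = y →
      ∃ ψ : X.residueField y →ₐ[k] K,
        p ≫ FinFr.extπ K f = (Groth.L11.Points.toPoint (k₀ := k) (k := K) X ⟨y, ψ⟩).1 := by
    intro p hp hpy
    obtain ⟨⟨y', ψ⟩, hz⟩ := (Groth.L11.Points.toPoint_bijective (k₀ := k) (k := K) X).2
      ⟨p ≫ FinFr.extπ K f, show (p ≫ FinFr.extπ K f) ≫ f = _ by
        rw [Category.assoc, pullback.condition, ← Category.assoc, hp, Category.id_comp]⟩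
    have hz' : Spec.map (CommRingCat.ofHom ψ.toRingHom) ≫ X.fromSpecResidueField y' = p ≫ FinFr.extπ K f :=
      congrArg Subtype.val hz
    have : y' = y := by
      rw [← hpy]
      have h := congrArg (fun m => m.base c) hz'
      exact (Scheme.fromSpecResidueField_apply y' _).symm.trans h
    subst this
    exact ⟨ψ, hz'.symm⟩
  obtain ⟨ψa, hψa⟩ := key ha' (pointOfClosedPoint_comp _ _ _)
    (by rw [show ha'.base c = a from pointOfClosedPoint_apply _ _ _ _]; exact hay)
  obtain ⟨ψb, hψb⟩ := key hb' (pointOfClosedPoint_comp _ _ _)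
    (by rw [show hb'.base c = b from pointOfClosedPoint_apply _ _ _ _])
  haveI := (Groth.L11.Points.isClosed_iff_finite (k₀ := k) y).1 hyc
  obtain ⟨n, hn⟩ := exists_frob_pow_comp (X.residueField y) ψa ψb
  have step : ∀ m : ℕ, ∃ p : Spec (CommRingCat.of K) ⟶ FinFr.ext K f, p ≫ FinFr.extStr K f = 𝟙 _ ∧ p.base c ∈ W ∧
      p ≫ FinFr.extπ K f = Spec.map (CommRingCat.ofHom ((Groth.L11.Points.frobPow (k₀ := k) K m).comp ψa.toRingHom)) ≫
        X.fromSpecResidueField y := by
    intro m
    induction m with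
    | zero =>
      refine ⟨ha', pointOfClosedPoint_comp _ _ _, ?_, hψa.trans ?_⟩
      · rw [show ha'.base c = a from pointOfClosedPoint_apply _ _ _ _]; exact haW
      · have : (Groth.L11.Points.frobPow (k₀ := k) K 0).comp ψa.toRingHom = ψa.toRingHom :=
          RingHom.ext fun t => by rw [RingHom.comp_apply, Groth.L11.Points.frobPow_apply, pow_zero, pow_one]
        rw [this]; rfl
    | succ m ih =>
      obtain ⟨p, hp, hpW, hpπ⟩ := ih
      refine ⟨p ≫ F, by rw [Category.assoc, hF2, hp], hFW ⟨_, hpW, rfl⟩, ?_⟩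
      rw [Category.assoc, hF1, ← Category.assoc, hpπ,
        Groth.L11.Weil.point_comp_powMap FX hFb hle hFapp (Groth.L11.Points.frobPow (k₀ := k) K 1)
          (fun t => by rw [Groth.L11.Points.frobPow_apply, pow_one]), ← Category.assoc, ← Spec.map_comp,
        ← CommRingCat.ofHom_comp]
      congr 3
      ext t
      simp only [RingHom.comp_apply, Groth.L11.Points.frobPow_apply]
      rw [← pow_mul, pow_one, ← pow_succ]
  obtain ⟨p, hp, hpW, hpπ⟩ := step n
  have hfin : (Groth.L11.Points.frobPow (k₀ := k) K n).comp ψa.toRingHom = ψb.toRingHom :=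
    RingHom.ext fun t => by
      rw [RingHom.comp_apply, Groth.L11.Points.frobPow_apply]
      exact (hn t).symm
  have : p = hb' := by
    refine pullback.hom_ext ?_ (hp.trans (pointOfClosedPoint_comp _ _ _).symm)
    refine hpπ.trans (Eq.trans ?_ hψb.symm)
    rw [hfin]; rfl
  rw [this] at hpW
  rwa [show hb'.base c = b from pointOfClosedPoint_apply _ _ _ _] at hpW

omit [Finite k] [IsAlgClosed K] in
theorem exists_comp_eq (k : Type u) [Field k] {Ω : Type u} [Field Ω] [Algebra k Ω]
    (α β : AlgebraicClosure k →ₐ[k] Ω) :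
    ∃ σ : AlgebraicClosure k ≃ₐ[k] AlgebraicClosure k,
      α.comp (σ : AlgebraicClosure k →ₐ[k] AlgebraicClosure k) = β := by
  have hr : β.fieldRange ≤ α.fieldRange := by
    rintro _ ⟨x, rfl⟩
    have hi : IsIntegral k x := Algebra.IsIntegral.isIntegral x
    have hs := IsAlgClosed.splits ((minpoly k x).map (algebraMap k (AlgebraicClosure k)))
    have hroot : β x ∈ (((minpoly k x).map (algebraMap k (AlgebraicClosure k))).map α.toRingHom).roots := by
      rw [Polynomial.map_map, show α.toRingHom.comp (algebraMap k (AlgebraicClosure k)) = algebraMap k Ω from α.comp_algebraMap,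
        Polynomial.mem_roots (Polynomial.map_ne_zero (minpoly.ne_zero hi)),
        Polynomial.IsRoot.def, Polynomial.eval_map, ← Polynomial.aeval_def, Polynomial.aeval_algHom_apply, minpoly.aeval, map_zero]
    rw [hs.roots_map, Multiset.mem_map] at hroot
    obtain ⟨y, -, hy⟩ := hroot
    exact ⟨y, hy⟩
  let e := AlgEquiv.ofInjectiveField α
  let σ₀ : AlgebraicClosure k →ₐ[k] AlgebraicClosure k :=
    e.symm.toAlgHom.comp (β.codRestrict α.range fun x => hr ⟨x, rfl⟩)
  refine ⟨AlgEquiv.ofBijective σ₀ (Algebra.IsAlgebraic.algHom_bijective σ₀), AlgHom.ext fun x => ?_⟩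
  exact congrArg Subtype.val (e.apply_symm_apply (β.codRestrict α.range (fun x => hr ⟨x, rfl⟩) x))

omit [Finite k] [IsAlgClosed K] in
/-- The Galois group acts transitively on the fibres of `X_{k̄} → X`. -/
theorem exists_act_eq {k : Type u} [Field k] {X : Scheme.{u}} (f : X ⟶ Spec (CommRingCat.of k))
    (τ : (AlgebraicClosure k ≃ₐ[k] AlgebraicClosure k) →
      (pullback f (FinFr.specι k (AlgebraicClosure k)) ⟶ pullback f (FinFr.specι k (AlgebraicClosure k))))
    (hτ1 : ∀ σ, τ σ ≫ pullback.fst f _ = pullback.fst f _)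
    (hτ2 : ∀ σ, τ σ ≫ pullback.snd f (FinFr.specι k (AlgebraicClosure k)) =
        pullback.snd f _ ≫ Spec.map (CommRingCat.ofHom (σ : AlgebraicClosure k →+* AlgebraicClosure k)))
    (a b : ↥(pullback f (FinFr.specι k (AlgebraicClosure k))))
    (h : (pullback.fst f (FinFr.specι k (AlgebraicClosure k))).base a =
      (pullback.fst f (FinFr.specι k (AlgebraicClosure k))).base b) :
    ∃ σ, (τ σ).base a = b := by
  let p := pullback.fst f (FinFr.specι k (AlgebraicClosure k))
  let q := pullback.snd f (FinFr.specι k (AlgebraicClosure k))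
  obtain ⟨c, hc1, hc2⟩ := Scheme.Pullback.exists_preimage_pullback (f := p) (g := p) a b h
  let ξ := (pullback p p).fromSpecResidueField c
  let ξa := ξ ≫ pullback.fst p p
  let ξb := ξ ≫ pullback.snd p p
  have hab : ξa ≫ p = ξb ≫ p := by simp only [ξa, ξb, Category.assoc, pullback.condition]
  obtain ⟨φ, hφ⟩ := Spec.map_surjective (ξa ≫ q)
  obtain ⟨ψ, hψ⟩ := Spec.map_surjective (ξb ≫ q)
  let ι := CommRingCat.ofHom (algebraMap k (AlgebraicClosure k))
  have hAB : ι ≫ φ = ι ≫ ψ := by
    apply Spec.map_injective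
    rw [Spec.map_comp, Spec.map_comp, hφ, hψ]
    have hA : ∀ (T : Scheme.{u}) (g : T ⟶ pullback f (FinFr.specι k (AlgebraicClosure k))),
        (g ≫ q) ≫ Spec.map ι = (g ≫ p) ≫ f := fun T g => by
      simp only [q, p, ι, Category.assoc, pullback.condition]
    rw [hA, hA, hab]
  letI : Algebra k ((pullback p p).residueField c) := (ι ≫ φ).hom.toAlgebra
  let α : AlgebraicClosure k →ₐ[k] (pullback p p).residueField c := { φ.hom with commutes' := fun r => rfl }
  let β : AlgebraicClosure k →ₐ[k] (pullback p p).residueField c :=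
    { ψ.hom with commutes' := fun r => (congrArg (fun m => m.hom r) hAB).symm }
  obtain ⟨σ, hσ⟩ := exists_comp_eq k α β
  refine ⟨σ, ?_⟩
  have key : ξa ≫ τ σ = ξb := by
    apply pullback.hom_ext
    · rw [Category.assoc, hτ1]; exact hab
    · rw [Category.assoc, hτ2, ← Category.assoc, ← hφ, ← hψ, ← Spec.map_comp]
      congr 1
      ext x
      exact AlgHom.congr_fun hσ x
  have e := congrArg (fun m => m.base (default : ↥(Spec ((pullback p p).residueField c)))) key
  simp only [ξa, ξb, Category.assoc] at e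
  simp only [Scheme.Hom.comp_apply, ξ, Scheme.fromSpecResidueField_apply, hc1, hc2] at e
  exact e

end Groth.L11.FrobFibre
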