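import Groth.Agent.L11.Zeta.Dense
import Mathlib.FieldTheory.SeparablyGenerated
import Mathlib.FieldTheory.IntermediateField.Adjoin.Algebra
import Mathlib.FieldTheory.AlgebraicClosure
import Mathlib.RingTheory.AlgebraicIndependent.AlgebraicClosure
import Mathlib.RingTheory.AlgebraicIndependent.TranscendenceBasis
import Mathlib.FieldTheory.Perfect
import Mathlib.RingTheory.Localization.FractionRing

/-!
Divergence for all finitely generated fields, by induction on the transcendence degree.
-/

set_option autoImplicit false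
universe u w

open Polynomial

namespace Groth.L11.Zeta

variable {k : Type w} [Field k] {L : Type u} [Field L] [Algebra k L]

/-- A model of a finitely generated extension of a prime field. -/
theorem exists_model (hk : ∀ c : k, ∃ a N : ℤ, (N : k) ≠ 0 ∧ (a : k) = N * c) [Algebra.EssFiniteType k L] :
    ∃ A : Subalgebra ℤ L, A.FG ∧ Gen A := by
  classical
  obtain ⟨S, hS⟩ := IntermediateField.fg_top k L
  set A : Subalgebra ℤ L := Algebra.adjoin ℤ (S : Set L)
  refine ⟨A, Subalgebra.fg_adjoin_finset S, fun z => ?_⟩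
  have hz : z ∈ IntermediateField.adjoin k (S : Set L) := hS ▸ IntermediateField.mem_top
  induction hz using IntermediateField.adjoin_induction with
  | mem x hx => exact ⟨x, Algebra.subset_adjoin hx, 1, A.one_mem, one_ne_zero, (div_one x).symm⟩
  | algebraMap c =>
    obtain ⟨a, N, hN, h⟩ := hk c
    have hN' : (N : L) ≠ 0 := by
      rw [← map_intCast (algebraMap k L)]; exact (_root_.map_ne_zero _).mpr hN
    refine ⟨a, intCast_mem A a, N, intCast_mem A N, hN', ?_⟩
    rw [eq_div_iff hN', mul_comm, ← map_intCast (algebraMap k L), ← map_mul, ← h, map_intCast]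
  | add x y _ _ h h' =>
    obtain ⟨a, ha, b, hb, hb0, rfl⟩ := h
    obtain ⟨a', ha', b', hb', hb0', rfl⟩ := h'
    exact ⟨a * b' + b * a', A.add_mem (A.mul_mem ha hb') (A.mul_mem hb ha'), b * b', A.mul_mem hb hb',
      mul_ne_zero hb0 hb0', div_add_div _ _ hb0 hb0'⟩
  | inv x _ h =>
    obtain ⟨a, ha, b, hb, hb0, rfl⟩ := h
    by_cases ha0 : a = 0
    · subst ha0
      exact ⟨0, A.zero_mem, 1, A.one_mem, one_ne_zero, by simp⟩
    · exact ⟨b, hb, a, ha, ha0, inv_div a b⟩
  | mul x y _ _ h h' =>
    obtain ⟨a, ha, b, hb, hb0, rfl⟩ := h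
    obtain ⟨a', ha', b', hb', hb0', rfl⟩ := h'
    exact ⟨a * a', A.mul_mem ha ha', b * b', A.mul_mem hb hb', mul_ne_zero hb0 hb0', div_mul_div_comm a b a' b'⟩

/-- A field `E` inside `L` and a transcendental element `t`, with `L` separable over `k(E-part, t)`. -/
theorem ratFunc_setup (E : Type u) [Field E] [Algebra k E] [Algebra E L] [IsScalarTower k E L] (t : L)
    (ht : Transcendental E t) [Algebra.EssFiniteType k L] (s : Set L)
    (hs : ∀ z ∈ s, z = t ∨ z ∈ Set.range (algebraMap E L))
    [Algebra.IsSeparable (IntermediateField.adjoin k s) L] :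
    ∃ φ : RatFunc E →ₐ[E] L, φ RatFunc.X = t ∧
      (letI := φ.toRingHom.toAlgebra; FiniteDimensional (RatFunc E) L ∧ Algebra.IsSeparable (RatFunc E) L) := by
  have hinj : Function.Injective (Polynomial.aeval (R := E) t) := transcendental_iff_injective.mp ht
  let φ : RatFunc E →ₐ[E] L := RatFunc.liftAlgHom (Polynomial.aeval t)
    (nonZeroDivisors_le_comap_nonZeroDivisors_of_injective _ hinj)
  have hφ : ∀ p : E[X], φ (algebraMap E[X] (RatFunc E) p) = Polynomial.aeval t p := fun p => by
    have := RatFunc.liftAlgHom_apply_div (Polynomial.aeval t) (nonZeroDivisors_le_comap_nonZeroDivisors_of_injective _ hinj) p 1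
    simpa using this
  have hX : φ RatFunc.X = t := by
    rw [← RatFunc.algebraMap_X, hφ, Polynomial.aeval_X]
  refine ⟨φ, hX, ?_⟩
  letI := φ.toRingHom.toAlgebra
  let φk : RatFunc E →ₐ[k] L := φ.restrictScalars k
  have hle : IntermediateField.adjoin k s ≤ φk.fieldRange := IntermediateField.adjoin_le_iff.mpr fun z hz => by
    rcases hs z hz with rfl | ⟨c, rfl⟩
    · exact ⟨_, hX⟩
    · exact ⟨algebraMap E _ c, φ.commutes c⟩
  letI : Algebra (IntermediateField.adjoin k s) (RatFunc E) :=
    ((AlgEquiv.ofInjectiveField φk).symm.toAlgHom.comp (IntermediateField.inclusion hle)).toRingHom.toAlgebra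
  haveI : IsScalarTower (IntermediateField.adjoin k s) (RatFunc E) L := IsScalarTower.of_algebraMap_eq fun z => by
    change (z : L) = φk ((AlgEquiv.ofInjectiveField φk).symm (IntermediateField.inclusion hle z))
    exact (congrArg Subtype.val ((AlgEquiv.ofInjectiveField φk).apply_symm_apply (IntermediateField.inclusion hle z))).symm
  have hsep : Algebra.IsSeparable (RatFunc E) L :=
    Algebra.isSeparable_tower_top_of_isSeparable (IntermediateField.adjoin k s) (RatFunc E) L
  haveI : IsScalarTower k (RatFunc E) L := IsScalarTower.of_algebraMap_eq fun c => (φk.commutes c).symm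
  haveI : Algebra.EssFiniteType (RatFunc E) L := Algebra.EssFiniteType.of_comp k (RatFunc E) L
  exact ⟨Algebra.finite_of_essFiniteType_of_isAlgebraic, hsep⟩

/-- Elements algebraic over `E` stay independent over `E(t)`. -/
theorem finiteDimensional_closure {E : Type u} [Field E] [Algebra E L] (K₀ : IntermediateField E L) (t : L)
    (ht : Transcendental K₀ t) (φ : RatFunc E →ₐ[E] L) (hφ : φ RatFunc.X = t)
    (hfd : letI := φ.toRingHom.toAlgebra; FiniteDimensional (RatFunc E) L) : FiniteDimensional E K₀ := by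
  classical
  letI := φ.toRingHom.toAlgebra
  haveI := hfd
  letI : Algebra E[X] L := ((algebraMap (RatFunc E) L).comp (algebraMap E[X] (RatFunc E))).toAlgebra
  haveI : IsScalarTower E[X] (RatFunc E) L := IsScalarTower.of_algebraMap_eq' rfl
  let b := Module.Basis.ofVectorSpace E K₀
  have hval : ∀ q : E[X], algebraMap E[X] L q = Polynomial.aeval t q := fun q => by
    have : (φ.comp (IsScalarTower.toAlgHom E E[X] (RatFunc E))) = Polynomial.aeval t :=
      Polynomial.algHom_ext (by simp [RatFunc.algebraMap_X, hφ])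
    exact DFunLike.congr_fun this q
  have hind : LinearIndependent E[X] fun i => ((b i : K₀) : L) := by
    rw [linearIndependent_iff']
    intro T g hg i hi
    let Q : K₀[X] := ∑ j ∈ T, Polynomial.C (b j) * (g j).map (algebraMap E K₀)
    have hQ : Polynomial.aeval t Q = 0 := by
      rw [← hg, map_sum]
      refine Finset.sum_congr rfl fun j _ => ?_
      rw [map_mul, Polynomial.aeval_C, Polynomial.aeval_map_algebraMap, Algebra.smul_def, hval, mul_comm]
      rfl
    have hQ0 : Q = 0 := transcendental_iff.mp ht Q hQ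
    ext m
    have hm := congrArg (fun R : K₀[X] => R.coeff m) hQ0
    simp only [Q, Polynomial.finset_sum_coeff, Polynomial.coeff_C_mul, Polynomial.coeff_map, Polynomial.coeff_zero] at hm
    rw [Polynomial.coeff_zero]
    refine linearIndependent_iff'.mp b.linearIndependent T (fun j => (g j).coeff m) ?_ i hi
    rw [← hm]
    exact Finset.sum_congr rfl fun j _ => by rw [Algebra.smul_def, mul_comm]
  haveI := (LinearIndependent.iff_fractionRing E[X] (RatFunc E)).mp hind |>.finite
  exact Module.Finite.of_basis b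

/-- One step of the induction. -/
theorem exists_step [PerfectField k] (hk : ∀ c : k, ∃ a N : ℤ, (N : k) ≠ 0 ∧ (a : k) = N * c)
    [Algebra.EssFiniteType k L] {n : ℕ} (x : Fin (n + 1) → L) (hx : IsTranscendenceBasis k x) :
    ∃ (K₀ : Type u) (_ : Field K₀) (_ : Algebra k K₀), Algebra.EssFiniteType k K₀ ∧
      (∃ y : Fin n → K₀, IsTranscendenceBasis k y) ∧ (∀ d, Dense K₀ d → Dense L (d + 1)) ∧
      (Finite K₀ → Dense L 1) := by
  classical
  obtain ⟨s, hs, hsep⟩ := exists_isTranscendenceBasis_and_isSeparable_of_perfectField k L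
  have hcard : s.card = n + 1 := by
    have := hs.lift_cardinalMk_eq hx
    rw [Cardinal.mk_coe_finset, Cardinal.mk_fin, Cardinal.lift_natCast, Cardinal.lift_natCast] at this
    exact_mod_cast this
  let e : Fin (n + 1) ≃ s := (s.equivFinOfCardEq hcard).symm
  set t : L := (e 0 : L)
  let y' : Fin n → L := fun i => (e i.succ : L)
  let E : IntermediateField k L := IntermediateField.adjoin k (Set.range y')
  have hy : AlgebraicIndependent k fun i => (e i : L) := hs.1.comp _ e.injective
  have htE : Transcendental E t := by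
    rw [IntermediateField.transcendental_adjoin_iff]
    have := hy.transcendental_adjoin (s := Set.range Fin.succ) (i := 0)
      (fun ⟨j, hj⟩ => Fin.succ_ne_zero j hj)
    rw [← Set.range_comp] at this
    exact this
  obtain ⟨K₀, hK₀⟩ : ∃ K : IntermediateField E L, ∀ z, z ∈ K ↔ IsAlgebraic E z :=
    ⟨algebraicClosure E L, fun z => mem_algebraicClosure_iff⟩
  haveI : Algebra.IsAlgebraic E K₀ := ⟨fun z => IntermediateField.isAlgebraic_iff.mpr ((hK₀ _).mp z.2)⟩
  haveI : IsScalarTower k K₀ L := IsScalarTower.of_algebraMap_eq fun _ => rfl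
  have htK : Transcendental K₀ t := fun h => htE (IsAlgebraic.restrictScalars E h)
  have hs' : ∀ z ∈ (s : Set L), z = t ∨ z ∈ Set.range (algebraMap E L) := fun z hz => by
    obtain ⟨i, hi⟩ := e.surjective ⟨z, hz⟩
    have hz' : z = (e i : L) := by rw [hi]
    rcases Fin.eq_zero_or_eq_succ i with rfl | ⟨j, rfl⟩
    · exact Or.inl hz'
    · exact Or.inr ⟨⟨z, IntermediateField.subset_adjoin k _ ⟨j, hz'.symm⟩⟩, rfl⟩
  obtain ⟨φE, hφE, hfdE, -⟩ := ratFunc_setup (k := k) E t htE (s : Set L) hs'
  haveI hfin : FiniteDimensional E K₀ := finiteDimensional_closure K₀ t htK φE hφE hfdE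
  haveI : Algebra.EssFiniteType k E :=
    IntermediateField.essFiniteType_iff.mpr (IntermediateField.fg_adjoin_of_finite (Set.finite_range y'))
  haveI : Algebra.EssFiniteType k K₀ := Algebra.EssFiniteType.comp k E K₀
  obtain ⟨φ, -, hfd, hsp⟩ := ratFunc_setup (k := k) K₀ t htK (s : Set L) fun z hz => (hs' z hz).imp id fun ⟨c, hc⟩ =>
    ⟨algebraMap E K₀ c, hc⟩
  letI := φ.toRingHom.toAlgebra
  haveI := hfd
  haveI := hsp
  haveI : IsScalarTower K₀ (RatFunc K₀) L := IsScalarTower.of_algebraMap_eq fun c => (φ.commutes c).symm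
  have hclosed : ∀ z : L, IsIntegral K₀ z → z ∈ Set.range (algebraMap K₀ L) := fun z hz =>
    ⟨⟨z, (hK₀ z).mpr (IsAlgebraic.restrictScalars E hz.isAlgebraic)⟩, rfl⟩
  refine ⟨K₀, inferInstance, inferInstance, inferInstance, ?_, fun d hd => dense_step hclosed (exists_model hk) hd,
    fun h => haveI := h; dense_curve hclosed (exists_model hk)⟩
  let y : Fin n → K₀ := fun i => algebraMap E K₀ ⟨y' i, IntermediateField.subset_adjoin k _ (Set.mem_range_self i)⟩
  have hyi : AlgebraicIndependent k y :=
    AlgebraicIndependent.of_comp (IsScalarTower.toAlgHom k K₀ L) (hy.comp _ (Fin.succ_injective n))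
  refine ⟨y, ⟨hyi, fun T hT hle => ?_⟩⟩
  by_contra hne
  obtain ⟨a, haT, hay⟩ := Set.exists_of_ssubset (Set.ssubset_iff_subset_ne.mpr ⟨hle, hne⟩)
  have h1 := hT.transcendental_adjoin (s := {z : T | (z : K₀) ∈ Set.range y}) (i := ⟨a, haT⟩) (fun h => hay h)
  refine (fun hh => hh ?_ : Transcendental (Algebra.adjoin k (Set.range y)) a → False) ?_
  · have h2 : IsAlgebraic (Algebra.adjoin k (Set.range y')) (a : L) :=
      IntermediateField.isAlgebraic_adjoin_iff.mp ((hK₀ _).mp a.2)
    obtain ⟨P, hP, hPa⟩ := h2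
    have hmap : (Algebra.adjoin k (Set.range y)).map (IsScalarTower.toAlgHom k K₀ L) = Algebra.adjoin k (Set.range y') := by
      rw [AlgHom.map_adjoin, ← Set.range_comp]; rfl
    let eA : Algebra.adjoin k (Set.range y) ≃ₐ[k] Algebra.adjoin k (Set.range y') :=
      ((Algebra.adjoin k (Set.range y)).equivMapOfInjective (IsScalarTower.toAlgHom k K₀ L)
        (algebraMap K₀ L).injective).trans (Subalgebra.equivOfEq _ _ hmap)
    refine ⟨P.map eA.symm.toRingEquiv.toRingHom, (Polynomial.map_ne_zero_iff eA.symm.injective).mpr hP, ?_⟩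
    refine (algebraMap K₀ L).injective ?_
    rw [map_zero, ← hPa, Polynomial.aeval_def, Polynomial.aeval_def, Polynomial.eval₂_map, Polynomial.hom_eval₂]
    congr 1
    ext z
    exact congrArg Subtype.val (eA.apply_symm_apply z)
  · rwa [show ((fun i : T => id (i : K₀)) '' {z : T | (z : K₀) ∈ Set.range y}) = Set.range y by
      ext z; exact ⟨fun ⟨w, hw, h⟩ => h ▸ hw, fun hz => ⟨⟨z, hle hz⟩, hz, rfl⟩⟩] at h1

/-- Divergence for all finitely generated fields over a prime field. -/
theorem dense_of_basis [PerfectField k] (hk : ∀ c : k, ∃ a N : ℤ, (N : k) ≠ 0 ∧ (a : k) = N * c) (δ : ℕ)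
    (hbase : 0 < δ → ∀ (L : Type u) [Field L] [Algebra k L] [FiniteDimensional k L], Dense L δ)
    (hfin : δ = 0 → Finite k) :
    ∀ (n : ℕ) (L : Type u) [Field L] [Algebra k L] [Algebra.EssFiniteType k L] (x : Fin n → L),
      IsTranscendenceBasis k x → 0 < n + δ → Dense L (n + δ) := by
  intro n
  induction n with
  | zero =>
    intro L _ _ _ x hx h0
    have halg : Algebra.IsAlgebraic k L := hx.isEmpty_iff_isAlgebraic.mp inferInstance
    haveI : FiniteDimensional k L := Algebra.finite_of_essFiniteType_of_isAlgebraic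
    rw [Nat.zero_add] at h0 ⊢
    exact hbase h0 L
  | succ n ih =>
    intro L _ _ _ x hx _
    obtain ⟨K₀, _, _, _, ⟨y, hy⟩, hstep, hcurve⟩ := exists_step hk x hx
    by_cases h : 0 < n + δ
    · rw [show n + 1 + δ = n + δ + 1 by omega]
      exact hstep _ (ih K₀ y hy h)
    · obtain ⟨rfl, rfl⟩ : n = 0 ∧ δ = 0 := by omega
      have halg : Algebra.IsAlgebraic k K₀ := hy.isEmpty_iff_isAlgebraic.mp inferInstance
      haveI : FiniteDimensional k K₀ := Algebra.finite_of_essFiniteType_of_isAlgebraic
      haveI := hfin rfl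
      exact hcurve (Module.finite_of_finite k)

/-- Rational numbers. -/
theorem dense_rat (n : ℕ) (L : Type u) [Field L] [Algebra ℚ L] [Algebra.EssFiniteType ℚ L] (x : Fin n → L)
    (hx : IsTranscendenceBasis ℚ x) : Dense L (n + 1) :=
  dense_of_basis (k := ℚ)
    (fun c => ⟨c.num, c.den, by simp, by rw [mul_comm]; exact_mod_cast (Rat.mul_den_eq_num c).symm⟩) 1
    (fun _ L _ _ _ => by
      haveI : CharZero L := charZero_of_injective_algebraMap (algebraMap ℚ L).injective
      obtain rfl : ‹Algebra ℚ L› = DivisionRing.toRatAlgebra := Subsingleton.elim _ _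
      haveI : NumberField L :=
        { to_finiteDimensional := by convert! (inferInstance : FiniteDimensional ℚ L) }
      exact dense_numberField L)
    (fun h => absurd h one_ne_zero) n L x hx (Nat.succ_pos n)

/-- Prime fields of positive characteristic. -/
theorem dense_zmod (p : ℕ) [Fact p.Prime] (n : ℕ) (L : Type u) [Field L] [Algebra (ZMod p) L]
    [Algebra.EssFiniteType (ZMod p) L] (x : Fin n → L) (hx : IsTranscendenceBasis (ZMod p) x) (hn : 0 < n) :
    Dense L n :=
  dense_of_basis (k := ZMod p) (fun c => by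
      obtain ⟨a, rfl⟩ := ZMod.intCast_surjective c
      exact ⟨a, 1, by simp, by simp⟩) 0
    (fun h => absurd h (lt_irrefl 0)) (fun _ => inferInstance) n L x hx hn

end Groth.L11.Zeta
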