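import Groth.Agent.L11.Zeta.Upper
import Groth.Agent.L22.SchemeDim
import Groth.Prelude.Def_W4c1zetahwZeta
import Groth.Prelude.Def_SgaExt
import Mathlib.AlgebraicGeometry.Morphisms.Finite
import Mathlib.AlgebraicGeometry.Limits
import Mathlib.FieldTheory.Finite.GaloisField
import Mathlib.GroupTheory.FiniteAbelian.Basic

/-!
Points of a scheme of finite type over `ℤ` with values in finite fields, and its closed points.
-/

set_option autoImplicit false
universe u

open AlgebraicGeometry CategoryTheory

namespace Groth.L11.Zeta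

variable {X : Scheme.{u}} (f : X ⟶ Spec (CommRingCat.of (ULift.{u} ℤ)))

theorem isJacobsonRing_int : IsJacobsonRing ℤ :=
  Groth.Agent.S9612.result

theorem isJacobsonRing_ulift : IsJacobsonRing (ULift.{u} ℤ) :=
  haveI := isJacobsonRing_int
  (isJacobsonRing_iso (ULift.ringEquiv (R := ℤ))).mpr this

theorem finiteType_int {R : Type u} [CommRing R] {φ : ULift.{u} ℤ →+* R} (h : φ.FiniteType) :
    Algebra.FiniteType ℤ R := by
  have h2 := h.comp (RingHom.FiniteType.of_surjective (ULift.ringEquiv (R := ℤ)).symm.toRingHom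
    (ULift.ringEquiv (R := ℤ)).symm.surjective)
  rw [show φ.comp (ULift.ringEquiv (R := ℤ)).symm.toRingHom = algebraMap ℤ R from RingHom.ext_int _ _] at h2
  exact RingHom.finiteType_algebraMap.mp h2

variable [LocallyOfFiniteType f]

include f in
theorem finiteType_sections {U : X.Opens} (hU : IsAffineOpen U) : Algebra.FiniteType ℤ Γ(X, U) := by
  have h := f.finiteType_appLE (isAffineOpen_top _) hU le_top
  exact finiteType_int (h.comp (RingHom.FiniteType.of_surjective _
    (Scheme.ΓSpecIso (CommRingCat.of (ULift.{u} ℤ))).commRingCatIsoToRingEquiv.symm.surjective))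

include f in
/-- Residue fields of closed points are finite. -/
theorem finite_residueField {x : X} (hx : IsClosed ({x} : Set X)) : Finite (X.residueField x) := by
  haveI : IsJacobsonRing (ULift.{u} ℤ) := isJacobsonRing_ulift
  haveI : JacobsonSpace X := LocallyOfFiniteType.jacobsonSpace f
  rw [isClosed_singleton_iff_locallyOfFiniteType] at hx
  have e : Spec.map (Spec.preimage (X.fromSpecResidueField x ≫ f)) = X.fromSpecResidueField x ≫ f :=
    Spec.map_preimage _
  have h : LocallyOfFiniteType (Spec.map (Spec.preimage (X.fromSpecResidueField x ≫ f))) := by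
    rw [e]; infer_instance
  rw [HasRingHomProperty.Spec_iff (P := @LocallyOfFiniteType)] at h
  haveI := finiteType_int h
  haveI := isJacobsonRing_int
  haveI := finite_of_finite_type_of_isJacobsonRing ℤ (X.residueField x)
  refine Module.finite_of_fg_torsion (X.residueField x) fun {z} => ?_
  by_cases hinj : Function.Injective (algebraMap ℤ (X.residueField x))
  · exact absurd (isField_of_isIntegral_of_isField hinj (Field.toIsField (X.residueField x))) Int.not_isField
  · rw [injective_iff_map_eq_zero] at hinj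
    push Not at hinj
    obtain ⟨N, hN, hN0⟩ := hinj
    refine ⟨⟨N, mem_nonZeroDivisors_of_ne_zero hN0⟩, ?_⟩
    change N • z = 0
    rw [Algebra.smul_def, hN, zero_mul]

variable [QuasiCompact f]

include f in
/-- Points of a scheme of finite type over `ℤ` of dimension at most `r`. -/
theorem exists_card_points_le {r : ℕ} (hr : topologicalKrullDim X ≤ r) :
    ∃ c p₀ : ℕ, 0 < c ∧ ∀ (p : ℕ), p.Prime → ∀ (F : Type u) [Field F] [Finite F] [CharP F p],
      Finite (Spec (CommRingCat.of F) ⟶ X) ∧ Nat.card (Spec (CommRingCat.of F) ⟶ X) ≤ c * Nat.card F ^ r ∧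
        (p₀ ≤ p → Nat.card (Spec (CommRingCat.of F) ⟶ X) * Nat.card F ≤ c * Nat.card F ^ r) := by
  classical
  haveI : CompactSpace X := QuasiCompact.compactSpace_of_compactSpace f
  obtain ⟨s, hs⟩ := isCompact_univ.elim_finite_subcover (fun U : X.affineOpens => ((U : X.Opens) : Set X))
    (fun U => U.1.2) (fun x _ => by
      obtain ⟨_, ⟨U, hU, rfl⟩, hxU, -⟩ :=
        X.isBasis_affineOpens.exists_subset_of_mem_open (Set.mem_univ x) isOpen_univ
      exact Set.mem_iUnion.mpr ⟨⟨U, hU⟩, hxU⟩)
  have hA : ∀ U : X.affineOpens, ∃ c p₀ : ℕ, ∀ (p : ℕ), p.Prime → ∀ (F : Type u) [Field F] [Finite F] [CharP F p],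
      Finite (Γ(X, U) →+* F) ∧ Nat.card (Γ(X, U) →+* F) ≤ c * Nat.card F ^ r ∧
        (p₀ ≤ p → Nat.card (Γ(X, U) →+* F) * Nat.card F ≤ c * Nat.card F ^ r) := fun U => by
    haveI := finiteType_sections f U.2
    refine exists_card_hom_le ?_
    rw [← Groth.L22.SchemeDim.topologicalKrullDim_affineOpen U.2]
    exact (Topology.IsEmbedding.subtypeVal.isInducing.topologicalKrullDim_le).trans hr
  choose c p₀ hc using hA
  refine ⟨1 + ∑ U ∈ s, c U, s.sup p₀, by omega, fun p hp F _ _ _ => ?_⟩
  haveI := fun U => (hc U p hp F).1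
  let Φ : (Σ U : s, (Γ(X, U.1) →+* F)) → (Spec (CommRingCat.of F) ⟶ X) := fun z =>
    Spec.map (CommRingCat.ofHom z.2) ≫ z.1.1.2.fromSpec
  have hΦ : Function.Surjective Φ := fun g => by
    obtain ⟨U, hU, hgU⟩ := Set.mem_iUnion₂.mp (hs (Set.mem_univ (g (IsLocalRing.closedPoint F))))
    have hsub : Set.range g ⊆ Set.range U.2.fromSpec := by
      rw [U.2.range_fromSpec]
      rintro _ ⟨y, rfl⟩
      haveI : Subsingleton ↥(Spec (CommRingCat.of F)) := inferInstanceAs (Subsingleton (PrimeSpectrum F))
      rw [Subsingleton.elim y (IsLocalRing.closedPoint F)]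
      exact hgU
    refine ⟨⟨⟨U, hU⟩, (Spec.preimage (IsOpenImmersion.lift U.2.fromSpec g hsub)).hom⟩, ?_⟩
    change Spec.map (Spec.preimage _) ≫ U.2.fromSpec = g
    rw [Spec.map_preimage, IsOpenImmersion.lift_fac]
  have hcard := Nat.card_le_card_of_surjective Φ hΦ
  rw [Nat.card_sigma, Finset.univ_eq_attach,
    Finset.sum_attach s fun U => Nat.card (Γ(X, U) →+* F)] at hcard
  refine ⟨Finite.of_surjective Φ hΦ, hcard.trans ((Finset.sum_le_sum fun U _ => (hc U p hp F).2.1).trans ?_),
    fun hp0 => (Nat.mul_le_mul_right _ hcard).trans ?_⟩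
  · rw [← Finset.sum_mul]
    exact Nat.mul_le_mul_right _ (Nat.le_add_left _ _)
  · rw [Finset.sum_mul]
    refine (Finset.sum_le_sum fun U hU => (hc U p hp F).2.2 ((Finset.le_sup hU).trans hp0)).trans ?_
    rw [← Finset.sum_mul]
    exact Nat.mul_le_mul_right _ (Nat.le_add_left _ _)

omit [LocallyOfFiniteType f] [QuasiCompact f] in
/-- A finite field as a point of every closed point with that residue field. -/
theorem card_closedPoints_le (F : Type u) [Field F] [Finite F] [Finite (Spec (CommRingCat.of F) ⟶ X)]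
    (T : Finset X) (hT : ∀ x ∈ T, Nat.card (X.residueField x) = Nat.card F) :
    T.card ≤ Nat.card (Spec (CommRingCat.of F) ⟶ X) := by
  classical
  haveI := Fintype.ofFinite F
  have hex : ∀ x : T, ∃ e : X.residueField x.1 →+* F, True := fun x => by
    have hx := hT x.1 x.2
    haveI : Finite (X.residueField x.1) := Nat.finite_of_card_ne_zero (by rw [hx]; exact Nat.card_pos.ne')
    haveI := Fintype.ofFinite (X.residueField x.1)
    rw [Nat.card_eq_fintype_card, Nat.card_eq_fintype_card] at hx
    exact ⟨(FiniteField.ringEquivOfCardEq hx).toRingHom, trivial⟩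
  choose e _ using hex
  rw [← Nat.card_eq_finsetCard T]
  refine Nat.card_le_card_of_injective
    (fun x => Spec.map (CommRingCat.ofHom (e x)) ≫ X.fromSpecResidueField x.1) fun x y h => Subtype.ext ?_
  have := congrArg (fun g : Spec (CommRingCat.of F) ⟶ X => g (IsLocalRing.closedPoint F)) h
  rw [Scheme.Hom.comp_apply, Scheme.Hom.comp_apply, Scheme.fromSpecResidueField_apply,
    Scheme.fromSpecResidueField_apply] at this
  exact this

end Groth.L11.Zeta
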