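import Groth.Agent.L11.Zeta.PlaneCount
import Mathlib.RingTheory.Nullstellensatz
import Mathlib.FieldTheory.IsAlgClosed.AlgebraicClosure
import Mathlib.RingTheory.Localization.FractionRing

/-!
Absolute irreducibility spreads out from the generic point.
-/

set_option autoImplicit false
universe u

open Polynomial

namespace Groth.L11.Zeta

/-- `P(X, T) ↦ P(X, S X^e)`, regarded as a polynomial in `X`. -/
noncomputable def weight (R : Type u) [CommRing R] (e : ℕ) : R[X][X] →+* R[X][X] :=
  Polynomial.eval₂RingHom (Polynomial.mapRingHom Polynomial.C) (Polynomial.C Polynomial.X * Polynomial.X ^ e)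

theorem coeff_weight {R : Type u} [CommRing R] (e : ℕ) (P : R[X][X]) (n i : ℕ) :
    ((weight R e P).coeff n).coeff i = if e * i ≤ n then (P.coeff i).coeff (n - e * i) else 0 := by
  induction P using Polynomial.induction_on' with
  | add P Q hP hQ =>
    rw [map_add, Polynomial.coeff_add, Polynomial.coeff_add, hP, hQ, Polynomial.coeff_add]
    split_ifs <;> simp
  | monomial m c =>
    have : weight R e (Polynomial.monomial m c) =
        c.map Polynomial.C * Polynomial.C (Polynomial.X ^ m) * Polynomial.X ^ (e * m) := by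
      simp [weight, mul_pow, ← pow_mul, mul_assoc]
    rw [this, Polynomial.coeff_mul_X_pow', Polynomial.coeff_monomial]
    by_cases hi : m = i
    · subst hi
      rw [if_pos rfl]
      split_ifs with h
      · rw [Polynomial.coeff_mul_C, Polynomial.coeff_map]
        simp
      · simp
    · rw [if_neg hi]
      simp only [Polynomial.coeff_zero, ite_self]
      split_ifs with h
      · rw [Polynomial.coeff_mul_C, Polynomial.coeff_map, Polynomial.coeff_C_mul, Polynomial.coeff_X_pow,
          if_neg (Ne.symm hi), mul_zero]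
      · simp

theorem natDegree_weight_le {R : Type u} [CommRing R] (e M : ℕ) (P : R[X][X])
    (h : ∀ i, P.coeff i ≠ 0 → (P.coeff i).natDegree + e * i ≤ M) : (weight R e P).natDegree ≤ M := by
  rw [Polynomial.natDegree_le_iff_coeff_eq_zero]
  intro n hn
  ext i
  rw [coeff_weight, Polynomial.coeff_zero]
  split_ifs with hle
  · by_cases h0 : P.coeff i = 0
    · simp [h0]
    · exact Polynomial.coeff_eq_zero_of_natDegree_lt (by have := h i h0; omega)
  · rfl

theorem le_natDegree_weight {R : Type u} [CommRing R] (e : ℕ) (P : R[X][X]) (i : ℕ) (hi : P.coeff i ≠ 0) :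
    (P.coeff i).natDegree + e * i ≤ (weight R e P).natDegree := by
  refine Polynomial.le_natDegree_of_ne_zero fun h => ?_
  have h1 := congrArg (fun r : R[X] => r.coeff i) h
  simp only [Polynomial.coeff_zero] at h1
  rw [coeff_weight, if_pos (Nat.le_add_left _ _), Nat.add_sub_cancel] at h1
  exact hi (Polynomial.leadingCoeff_eq_zero.mp h1)

/-- The coefficients of the monic factors of a monic polynomial have bounded degree. -/
theorem natDegree_coeff_factor_le {k : Type u} [Field k] {g a b : k[X][X]} (hg : g.Monic) (ha : a.Monic) (hb : b.Monic)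
    (hab : a * b = g) {e : ℕ} (he : ∀ i, (g.coeff i).natDegree ≤ e) (i : ℕ) :
    (a.coeff i).natDegree ≤ e * g.natDegree := by
  by_cases h0 : a.coeff i = 0
  · simp [h0]
  have hne : ∀ P : k[X][X], P.Monic → weight k e P ≠ 0 := fun P hP h => by
    have h1 := congrArg (fun r : k[X][X] => (r.coeff (e * P.natDegree)).coeff P.natDegree) h
    simp only [Polynomial.coeff_zero] at h1
    rw [coeff_weight, if_pos le_rfl, Nat.sub_self, hP.coeff_natDegree, Polynomial.coeff_one_zero] at h1
    exact one_ne_zero h1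
  have hW : (weight k e g).natDegree ≤ e * g.natDegree := natDegree_weight_le e _ _ fun n hn => by
    rcases (Polynomial.le_natDegree_of_ne_zero hn).lt_or_eq with hlt | heq
    · have h1 := he n
      have h2 : e * (n + 1) ≤ e * g.natDegree := Nat.mul_le_mul_left _ hlt
      rw [mul_add, mul_one] at h2
      omega
    · subst heq
      simp [hg.coeff_natDegree]
  rw [← hab, map_mul, Polynomial.natDegree_mul (hne a ha) (hne b hb), hab] at hW
  exact le_trans (Nat.le_trans (Nat.le_add_right _ _) (le_natDegree_weight e a i h0)) (le_trans (Nat.le_add_right _ _) hW)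

variable {B : Type u} [CommRing B] [IsDomain B]

/-- The universal monic polynomial. -/
noncomputable def univMonic {σ : Type} (j E : ℕ) (v : Fin j × Fin (E + 1) → σ) : (MvPolynomial σ B)[X][X] :=
  Polynomial.X ^ j + ∑ i : Fin j, Polynomial.C (∑ l : Fin (E + 1),
    Polynomial.C (MvPolynomial.X (v (i, l))) * Polynomial.X ^ (l : ℕ)) * Polynomial.X ^ (i : ℕ)

theorem map_univMonic {σ : Type} (j E : ℕ) (v : Fin j × Fin (E + 1) → σ) {k : Type u} [Field k]
    (ψ : MvPolynomial σ B →+* k) {a : k[X][X]} (ha : a.Monic) (hj : a.natDegree = j)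
    (hE : ∀ i, (a.coeff i).natDegree ≤ E) (hv : ∀ i l, ψ (MvPolynomial.X (v (i, l))) = (a.coeff i).coeff l) :
    (univMonic j E v).map (Polynomial.mapRingHom ψ) = a := by
  conv_rhs => rw [ha.as_sum, hj, ← Fin.sum_univ_eq_sum_range]
  simp only [univMonic, Polynomial.map_add, Polynomial.map_pow, Polynomial.map_X, Polynomial.map_sum,
    Polynomial.map_mul, Polynomial.map_C, Polynomial.coe_mapRingHom, hv]
  congr 1
  refine Finset.sum_congr rfl fun i _ => ?_
  congr 2
  conv_rhs => rw [(a.coeff i).as_sum_range_C_mul_X_pow' (Nat.lt_succ_of_le (hE i)), ← Fin.sum_univ_eq_sum_range]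

theorem monic_univMonic {σ : Type} (j E : ℕ) (v : Fin j × Fin (E + 1) → σ) :
    (univMonic (B := B) j E v).Monic ∧ (univMonic (B := B) j E v).natDegree = j := by
  have hlt : (∑ i : Fin j, Polynomial.C (∑ l : Fin (E + 1),
      Polynomial.C (MvPolynomial.X (v (i, l)) : MvPolynomial σ B) * Polynomial.X ^ (l : ℕ)) * Polynomial.X ^ (i : ℕ)).degree
        < (j : WithBot ℕ) := by
    refine (Polynomial.degree_sum_le _ _).trans_lt ((Finset.sup_lt_iff (WithBot.bot_lt_coe j)).mpr fun i _ => ?_)
    exact (Polynomial.degree_C_mul_X_pow_le _ _).trans_lt (WithBot.coe_lt_coe.mpr i.2)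
  refine ⟨Polynomial.monic_X_pow_add hlt, ?_⟩
  rw [univMonic, Polynomial.natDegree_add_eq_left_of_degree_lt (by rwa [Polynomial.degree_X_pow]),
    Polynomial.natDegree_X_pow]

variable (K₀ : Type u) [Field K₀] [Algebra B K₀] [IsFractionRing B K₀]

/-- No factorisation of a given shape at a dense set of points. -/
theorem exists_no_factor {g : B[X][X]} {j m E : ℕ} (hj : 0 < j) (hm : 0 < m)
    (hirr : Irreducible (g.map (Polynomial.mapRingHom ((algebraMap K₀ (AlgebraicClosure K₀)).comp (algebraMap B K₀))))) :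
    ∃ D : B, D ≠ 0 ∧ ∀ (k : Type u) [Field k] (φ : B →+* k), φ D ≠ 0 → ∀ a b : k[X][X], a.Monic → b.Monic →
      a.natDegree = j → b.natDegree = m → (∀ i, (a.coeff i).natDegree ≤ E) → (∀ i, (b.coeff i).natDegree ≤ E) →
        a * b ≠ g.map (Polynomial.mapRingHom φ) := by
  classical
  let σ := (Fin j × Fin (E + 1)) ⊕ (Fin m × Fin (E + 1))
  let P : (MvPolynomial σ B)[X][X] := univMonic j E Sum.inl * univMonic m E Sum.inr -
    g.map (Polynomial.mapRingHom MvPolynomial.C)
  let I : Ideal (MvPolynomial σ B) := Ideal.span {x | ∃ i l, (P.coeff i).coeff l = x}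
  have hzero : ∀ {k : Type u} [Field k] (ψ : MvPolynomial σ B →+* k),
      (I ≤ RingHom.ker ψ ↔ P.map (Polynomial.mapRingHom ψ) = 0) := fun ψ => by
    rw [Ideal.span_le]
    constructor
    · intro h
      ext i l
      simp only [Polynomial.coeff_map, Polynomial.coe_mapRingHom, Polynomial.coeff_zero]
      exact h ⟨i, l, rfl⟩
    · rintro h _ ⟨i, l, rfl⟩
      have h1 := congrArg (fun r => (Polynomial.coeff r i).coeff l) h
      simpa using h1
  let ρ : MvPolynomial σ B →+* MvPolynomial σ K₀ := MvPolynomial.map (algebraMap B K₀)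
  have htop : I.map ρ = ⊤ := by
    rw [← Ideal.radical_eq_top, ← MvPolynomial.vanishingIdeal_zeroLocus_eq_radical (K := AlgebraicClosure K₀),
      show MvPolynomial.zeroLocus (AlgebraicClosure K₀) (I.map ρ) = ∅ from Set.eq_empty_iff_forall_notMem.mpr fun v hv => ?_,
      MvPolynomial.vanishingIdeal_empty]
    let ψ : MvPolynomial σ B →+* AlgebraicClosure K₀ := (MvPolynomial.aeval v).toRingHom.comp ρ
    have hker : I ≤ RingHom.ker ψ := fun x hx => hv _ (Ideal.mem_map_of_mem ρ hx)
    have h0 := (hzero ψ).mp hker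
    rw [Polynomial.map_sub, Polynomial.map_mul, sub_eq_zero, Polynomial.map_map,
      Polynomial.mapRingHom_comp,
      show ψ.comp MvPolynomial.C = (algebraMap K₀ (AlgebraicClosure K₀)).comp (algebraMap B K₀) from
        RingHom.ext fun c => by simp [ψ, ρ]] at h0
    rw [← h0] at hirr
    have h1 := monic_univMonic (B := B) j E (Sum.inl : _ → σ)
    have h2 := monic_univMonic (B := B) m E (Sum.inr : _ → σ)
    rcases hirr.isUnit_or_isUnit rfl with hu | hu
    · have := Polynomial.natDegree_eq_zero_of_isUnit hu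
      rw [h1.1.natDegree_map, h1.2] at this
      omega
    · have := Polynomial.natDegree_eq_zero_of_isUnit hu
      rw [h2.1.natDegree_map, h2.2] at this
      omega
  have hclear : ∀ x : MvPolynomial σ K₀, ∃ D : B, D ≠ 0 ∧ ∃ y, ρ y = ρ (MvPolynomial.C D) * x := fun x => by
    induction x using MvPolynomial.induction_on with
    | C c =>
      obtain ⟨a, d, hd, rfl⟩ := IsFractionRing.div_surjective B c
      refine ⟨d, nonZeroDivisors.ne_zero hd, MvPolynomial.C a, ?_⟩
      simp only [ρ, MvPolynomial.map_C, ← map_mul]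
      rw [mul_div_cancel₀]
      exact IsFractionRing.to_map_ne_zero_of_mem_nonZeroDivisors hd
    | add x x' h h' =>
      obtain ⟨D, hD, y, hy⟩ := h
      obtain ⟨D', hD', y', hy'⟩ := h'
      refine ⟨D * D', mul_ne_zero hD hD', MvPolynomial.C D' * y + MvPolynomial.C D * y', ?_⟩
      simp only [map_add, map_mul, hy, hy']
      ring
    | mul_X x i h =>
      obtain ⟨D, hD, y, hy⟩ := h
      exact ⟨D, hD, y * MvPolynomial.X i, by rw [map_mul, hy, mul_assoc]; simp [ρ]⟩
  have hmem : ∀ x ∈ I.map ρ, ∃ D : B, D ≠ 0 ∧ ∃ y ∈ I, ρ y = ρ (MvPolynomial.C D) * x := fun x hx => by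
    induction hx using Submodule.span_induction with
    | mem x hx =>
      obtain ⟨y, hy, rfl⟩ := hx
      exact ⟨1, one_ne_zero, y, hy, by simp⟩
    | zero => exact ⟨1, one_ne_zero, 0, I.zero_mem, by simp⟩
    | add x x' _ _ h h' =>
      obtain ⟨D, hD, y, hy, hy1⟩ := h
      obtain ⟨D', hD', y', hy', hy1'⟩ := h'
      refine ⟨D * D', mul_ne_zero hD hD', MvPolynomial.C D' * y + MvPolynomial.C D * y',
        I.add_mem (I.mul_mem_left _ hy) (I.mul_mem_left _ hy'), ?_⟩
      simp only [map_add, map_mul, hy1, hy1']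
      ring
    | smul r x _ h =>
      obtain ⟨D, hD, y, hy, hy1⟩ := h
      obtain ⟨D', hD', r', hr'⟩ := hclear r
      refine ⟨D * D', mul_ne_zero hD hD', r' * y, I.mul_mem_left _ hy, ?_⟩
      simp only [map_mul, hy1, hr', smul_eq_mul]
      ring
  obtain ⟨D, hD, y, hy, hy1⟩ := hmem 1 (htop ▸ Submodule.mem_top)
  rw [mul_one] at hy1
  have hyD : y = MvPolynomial.C D := MvPolynomial.map_injective _ (IsFractionRing.injective B K₀) hy1
  refine ⟨D, hD, fun k _ φ hφD a b ha hb haj hbm haE hbE hab => hφD ?_⟩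
  let ψ : MvPolynomial σ B →+* k := MvPolynomial.eval₂Hom φ
    (Sum.elim (fun z => (a.coeff z.1).coeff z.2) (fun z => (b.coeff z.1).coeff z.2))
  have hker : I ≤ RingHom.ker ψ := (hzero ψ).mpr (by
    rw [Polynomial.map_sub, Polynomial.map_mul,
      map_univMonic j E _ ψ ha haj haE (fun i l => by simp [ψ]),
      map_univMonic m E _ ψ hb hbm hbE (fun i l => by simp [ψ]),
      Polynomial.map_map, Polynomial.mapRingHom_comp,
      show ψ.comp MvPolynomial.C = φ from RingHom.ext fun c => by simp [ψ], hab, sub_self])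
  have h3 : ψ y = 0 := hker hy
  simpa [hyD, ψ] using h3

/-- Absolute irreducibility at a dense set of points. -/
theorem exists_absIrred_spread {g : B[X][X]} (hg : g.Monic) {e : ℕ} (he : ∀ i, (g.coeff i).natDegree ≤ e)
    (hd : 0 < g.natDegree)
    (hirr : Irreducible (g.map (Polynomial.mapRingHom ((algebraMap K₀ (AlgebraicClosure K₀)).comp (algebraMap B K₀))))) :
    ∃ D : B, D ≠ 0 ∧ ∀ (F : Type u) [Field F] (φ : B →+* F), φ D ≠ 0 → AbsIrred (g.map (Polynomial.mapRingHom φ)) := by
  classical
  set d := g.natDegree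
  choose D hD hDspec using fun j : Fin (d - 1) => exists_no_factor (g := g) K₀ (j := j + 1) (m := d - (j + 1))
    (E := e * d) (Nat.succ_pos _) (by omega) hirr
  refine ⟨∏ j, D j, Finset.prod_ne_zero_iff.mpr fun j _ => hD j, fun F _ φ hφ F' _ _ _ => ?_⟩
  rw [Polynomial.map_map, Polynomial.mapRingHom_comp]
  set χ := (algebraMap F F').comp φ
  have hg' : (g.map (Polynomial.mapRingHom χ)).Monic := hg.map _
  have hd' : (g.map (Polynomial.mapRingHom χ)).natDegree = d := hg.natDegree_map _
  have he' : ∀ i, ((g.map (Polynomial.mapRingHom χ)).coeff i).natDegree ≤ e := fun i => by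
    rw [Polynomial.coeff_map, Polynomial.coe_mapRingHom]
    exact Polynomial.natDegree_map_le.trans (he i)
  refine (hg'.irreducible_iff_natDegree).mpr ⟨fun h => ?_, fun a b ha hb hab => ?_⟩
  · rw [h, Polynomial.natDegree_one] at hd'
    omega
  · by_contra! hne
    have hsum : a.natDegree + b.natDegree = d := by rw [← ha.natDegree_mul hb, hab, hd']
    have hbE := natDegree_coeff_factor_le hg' hb ha (by rw [mul_comm, hab]) he'
    have haE := natDegree_coeff_factor_le hg' ha hb hab he'
    rw [hd'] at haE hbE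
    refine hDspec ⟨a.natDegree - 1, by omega⟩ F' χ ?_ a b ha hb ?_ ?_ haE hbE hab
    · rw [RingHom.comp_apply, map_ne_zero_iff _ (algebraMap F F').injective]
      rw [map_prod, Finset.prod_ne_zero_iff] at hφ
      exact hφ _ (Finset.mem_univ _)
    · change a.natDegree = a.natDegree - 1 + 1
      omega
    · change b.natDegree = d - (a.natDegree - 1 + 1)
      omega

end Groth.L11.Zeta
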